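import Mathlib
import Cfsg.Agent.Lib.Helper42.ReeSpStmt

/-!
# Small Ree groups: normalizers, conjugacy and element counts of the cyclic Hall subgroups
(statement file for S1158, S2358, S2357; built on helper42's `ReeSpStmt` for S1159).

`q = qq m = 3^(2m+1)`, `r = rr m = 3^(m+1)`.  Every piece is a `Prop` below.
-/

set_option autoImplicit false

namespace Cfsg.Agent.Lib.Helper18.ReeHallStmt

open Cfsg.Agent.Lib.Helper42.ReeSpStmt

universe u v

/-! ## strengthened orbit decomposition and arithmetic -/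

/-- `OrbC` plus: `n i * c i = |N(C i)|` and `C(y) = C i` for `1 ≠ y ∈ C i`. -/
def OrbPC (G : Type u) [Group G] (m : ℕ) : Prop :=
  ∃ (k : ℕ) (c n : Fin k → ℕ) (C : Fin k → Subgroup G),
    (∀ i, IsCyclic ↥(C i)) ∧ (∀ i, Nat.card ↥(C i) = c i) ∧ (∀ i, 1 < c i) ∧
    (∀ i, n i ∣ 6) ∧ (∀ i, n i * c i ∣ Nat.card G) ∧
    ∏ i, c i = qq m ^ 2 - qq m + 1 ∧
    ∑ i, (c i - 1) * (Nat.card G / (n i * c i)) = Nat.card {g : G // P3 G m g} ∧
    (∀ g : G, P3 G m g → ∃ (i : Fin k) (x : G), x * g * x⁻¹ ∈ C i) ∧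
    (∀ i, Nat.card ↥(Subgroup.normalizer (C i : Set G)) = n i * c i) ∧
    (∀ i, ∀ y ∈ C i, y ≠ 1 → Subgroup.centralizer ({y} : Set G) = C i)

/-- ORBP -/
def OrbP : Prop :=
  ∀ (G : Type u) [Group G] [Finite G] (U H A : Subgroup G) (K : Type v) [Field K] [Fintype K]
    (m : ℕ), Ax G U H A K m → HallC G m → OrbPC G m

/-- DIOP (pure arithmetic): `Dio` with the extra conclusion `n i = 6 ∧ n j = 6`. -/
def DioP : Prop :=
  ∀ (m : ℕ), 1 ≤ m → ∀ (k : ℕ) (c n : Fin k → ℕ) (T : ℕ),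
    (∀ i, 1 < c i) → (∀ i, n i ∣ 6) →
    (∀ i, n i * c i ∣ qq m ^ 3 * (qq m - 1) * (qq m ^ 3 + 1)) →
    ∏ i, c i = qq m ^ 2 - qq m + 1 →
    ∑ i, (c i - 1) * (qq m ^ 3 * (qq m - 1) * (qq m ^ 3 + 1) / (n i * c i)) = T →
    3 * T = qq m ^ 4 * (qq m ^ 2 - 1) * (qq m - 2) →
    ∃ i j : Fin k, c i = qq m + rr m + 1 ∧ c j = qq m - rr m + 1 ∧ (∀ l, l = i ∨ l = j) ∧
      n i = 6 ∧ n j = 6

/-- the two cyclic Hall subgroups of orders `q ± r + 1`, with normalizers and centralizers -/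
def TorC (G : Type u) [Group G] (m : ℕ) : Prop :=
  ∃ C₁ C₂ : Subgroup G, IsCyclic ↥C₁ ∧ IsCyclic ↥C₂ ∧ Nat.card ↥C₁ = qq m + rr m + 1 ∧
    Nat.card ↥C₂ = qq m - rr m + 1 ∧
    (∀ g : G, P3 G m g → ∃ x : G, x * g * x⁻¹ ∈ C₁ ∨ x * g * x⁻¹ ∈ C₂) ∧
    Nat.card ↥(Subgroup.normalizer (C₁ : Set G)) = 6 * (qq m + rr m + 1) ∧
    Nat.card ↥(Subgroup.normalizer (C₂ : Set G)) = 6 * (qq m - rr m + 1) ∧
    (∀ y ∈ C₁, y ≠ 1 → Subgroup.centralizer ({y} : Set G) = C₁) ∧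
    (∀ y ∈ C₂, y ≠ 1 → Subgroup.centralizer ({y} : Set G) = C₂)

/-! ## S1158: normalizers -/

/-- a cyclic subgroup of order `a` with normalizer of order `b`, all of whose nontrivial subgroups
have the same normalizer -/
def NormP (G : Type u) [Group G] (a b : ℕ) : Prop :=
  ∃ A : Subgroup G, IsCyclic ↥A ∧ Nat.card ↥A = a ∧
    Nat.card ↥(Subgroup.normalizer (A : Set G)) = b ∧
    ∀ A₀ : Subgroup G, A₀ ≤ A → A₀ ≠ ⊥ →
      Subgroup.normalizer (A₀ : Set G) = Subgroup.normalizer (A : Set G)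

/-- NRMH -/
def NrmH : Prop :=
  ∀ (G : Type u) [Group G] [Finite G] (U H A : Subgroup G) (K : Type v) [Field K] [Fintype K]
    (m : ℕ), Ax G U H A K m → NHC G H m → NormP G ((qq m - 1) / 2) (2 * (qq m - 1))

/-- NRMA -/
def NrmA : Prop :=
  ∀ (G : Type u) [Group G] [Finite G] (U H A : Subgroup G) (K : Type v) [Field K] [Fintype K]
    (m : ℕ), Ax G U H A K m → NAC G A m → NormP G ((qq m + 1) / 4) (6 * (qq m + 1))

/-- NRMT -/
def NrmT : Prop :=
  ∀ (G : Type u) [Group G] [Finite G] (m : ℕ), TorC G m →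
    NormP G (qq m - rr m + 1) (6 * (qq m - rr m + 1)) ∧
    NormP G (qq m + rr m + 1) (6 * (qq m + rr m + 1))

/-! ## S2358: conjugacy -/

/-- any two cyclic subgroups of order `d` are conjugate -/
def ConjP (G : Type u) [Group G] (d : ℕ) : Prop :=
  ∀ A B : Subgroup G, IsCyclic ↥A → IsCyclic ↥B → Nat.card ↥A = d → Nat.card ↥B = d →
    ∃ g : G, B = A.map (MulAut.conj g).toMonoidHom

/-- CONJH -/
def ConjH : Prop :=
  ∀ (G : Type u) [Group G] [Finite G] (U H A : Subgroup G) (K : Type v) [Field K] [Fintype K]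
    (m : ℕ), Ax G U H A K m → OddHC G H m → ∀ d : ℕ, d ∣ (qq m - 1) / 2 → ConjP G d

/-- CONJA -/
def ConjA : Prop :=
  ∀ (G : Type u) [Group G] [Finite G] (U H A : Subgroup G) (K : Type v) [Field K] [Fintype K]
    (m : ℕ), Ax G U H A K m → OddAC G A m → ∀ d : ℕ, d ∣ (qq m + 1) / 4 → ConjP G d

/-- CONJT -/
def ConjT : Prop :=
  ∀ (G : Type u) [Group G] [Finite G] (m : ℕ), 1 ≤ m → TorC G m →
    ∀ d : ℕ, (d ∣ qq m - rr m + 1 ∨ d ∣ qq m + rr m + 1) → ConjP G d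

/-! ## S2357: numbers of elements of given order -/

/-- CNT: the general counting lemma.  If the elements with property `P` (conjugation invariant) are
all conjugate into `T`, and `g y g⁻¹ ∈ T` for some `y ∈ T` with `P y` forces `g ∈ N(T)`, then
`#{g | P g} * |N(T)| = #{y ∈ T | P y} * |G|`. -/
def Cnt : Prop :=
  ∀ (G : Type u) [Group G] [Finite G] (T : Subgroup G) (P : G → Prop),
    (∀ g x : G, P g → P (x * g * x⁻¹)) →
    (∀ g : G, ∀ y ∈ T, P y → g * y * g⁻¹ ∈ T → g ∈ Subgroup.normalizer (T : Set G)) →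
    (∀ g : G, P g → ∃ x : G, x * g * x⁻¹ ∈ T) →
    Nat.card {g : G // P g} * Nat.card ↥(Subgroup.normalizer (T : Set G)) =
      Nat.card {y : ↥T // P (y : G)} * Nat.card G

/-- K3: elements of order 3 -/
def K3 : Prop :=
  ∀ (G : Type u) [Group G] [Finite G] (U H A : Subgroup G) (K : Type v) [Field K] [Fintype K]
    (m : ℕ), Ax G U H A K m → Cnt.{u} → SylNC G U H m →
      Nat.card {u : ↥U // orderOf u = 3} = qq m ^ 2 - 1 →
      Nat.card {g : G // orderOf g = 3} = (qq m ^ 2 - 1) * (qq m ^ 3 + 1)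

/-- K9: elements of order 9 -/
def K9 : Prop :=
  ∀ (G : Type u) [Group G] [Finite G] (m : ℕ), C3C G m →
    Nat.card {g : G // orderOf g = 3} = (qq m ^ 2 - 1) * (qq m ^ 3 + 1) →
    Nat.card {g : G // orderOf g = 9} = qq m ^ 2 * (qq m - 1) * (qq m ^ 3 + 1)

/-- KH: elements of order `i ∣ q - 1`, `i > 2` -/
def KH : Prop :=
  ∀ (G : Type u) [Group G] [Finite G] (U H A : Subgroup G) (K : Type v) [Field K] [Fintype K]
    (m : ℕ), Ax G U H A K m → Cnt.{u} → OddHC G H m → NHC G H m →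
      ∀ i : ℕ, 2 < i → i ∣ qq m - 1 →
        2 * Nat.card {g : G // orderOf g = i} = Nat.totient i * qq m ^ 3 * (qq m ^ 3 + 1)

/-- KA1: elements of order `i ∣ (q+1)/4`, `i > 1` -/
def KA1 : Prop :=
  ∀ (G : Type u) [Group G] [Finite G] (U H A : Subgroup G) (K : Type v) [Field K] [Fintype K]
    (m : ℕ), Ax G U H A K m → Cnt.{u} → OddAC G A m → NAC G A m →
      ∀ i : ℕ, 1 < i → i ∣ (qq m + 1) / 4 →
        6 * Nat.card {g : G // orderOf g = i} =
          Nat.totient i * qq m ^ 3 * (qq m - 1) * (qq m ^ 2 - qq m + 1)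

/-- KA2: elements of order `2 i`, `i ∣ (q+1)/4`, `i > 1` -/
def KA2 : Prop :=
  ∀ (G : Type u) [Group G] [Finite G] (U H A : Subgroup G) (K : Type v) [Field K] [Fintype K]
    (m : ℕ), Ax G U H A K m → Cnt.{u} → OddAC G A m → NAC G A m →
      ∀ i : ℕ, 1 < i → i ∣ (qq m + 1) / 4 →
        2 * Nat.card {g : G // orderOf g = 2 * i} =
          Nat.totient i * qq m ^ 3 * (qq m - 1) * (qq m ^ 2 - qq m + 1)

/-- KT: elements of order `i ∣ q ∓ r + 1`, `i > 1` -/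
def KT : Prop :=
  ∀ (G : Type u) [Group G] [Finite G] (m : ℕ), 1 ≤ m → Cnt.{u} →
    Nat.card G = qq m ^ 3 * (qq m - 1) * (qq m ^ 3 + 1) → TorC G m →
    (∀ i : ℕ, 1 < i → i ∣ qq m - rr m + 1 →
      6 * Nat.card {g : G // orderOf g = i} =
        Nat.totient i * qq m ^ 3 * (qq m ^ 2 - 1) * (qq m + rr m + 1)) ∧
    (∀ i : ℕ, 1 < i → i ∣ qq m + rr m + 1 →
      6 * Nat.card {g : G // orderOf g = i} =
        Nat.totient i * qq m ^ 3 * (qq m ^ 2 - 1) * (qq m - rr m + 1))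

/-! ## assembly -/

/-- the two tori from the strengthened orbit decomposition and arithmetic -/
theorem tor_of {G : Type u} [Group G] {U H A : Subgroup G} {K : Type v} [Field K]
    [Fintype K] {m : ℕ} (hax : Ax G U H A K m) (ho : OrbPC G m) (hd : DioP)
    (hc : CountC G m) : TorC G m := by
  obtain ⟨k, c, n, C, hcyc, hcard, h1, hn, hdv, hprod, hsum, hcov, hnorm, hcent⟩ := ho
  have hN := hnorm
  simp only [hax.card] at hdv hsum
  obtain ⟨i, j, hi, hj, hall, hni, hnj⟩ := hd m hax.hm k c n _ h1 hn hdv hprod hsum hc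
  refine ⟨C i, C j, hcyc i, hcyc j, by rw [hcard, hi], by rw [hcard, hj], ?_, ?_, ?_,
    hcent i, hcent j⟩
  · intro g hg
    obtain ⟨l, x, hx⟩ := hcov g hg
    rcases hall l with rfl | rfl
    · exact ⟨x, Or.inl hx⟩
    · exact ⟨x, Or.inr hx⟩
  · rw [hN i, hni, hi]
  · rw [hN j, hnj, hj]

end Cfsg.Agent.Lib.Helper18.ReeHallStmt
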