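import Cfsg.Agent.Lib.Helper18.HOrder
import Cfsg.Agent.Lib.Helper18.All2

set_option autoImplicit false

namespace Cfsg.Agent.Lib.Helper18.HOrderTab

open Cfsg Cfsg.Lie Cfsg.Agent.Lib.Helper18.Fast Cfsg.Agent.Lib.Helper18.Facts
  Cfsg.Agent.Lib.Helper18.AllRoots Cfsg.Agent.Lib.Helper18.HOrder Cfsg.Agent.Lib.Helper18.NTheory

/-- An integer matrix from a list of rows. -/
def matOf (L : List (List ℤ)) (i j : ℕ) : ℤ := (L.getD i []).getD j 0

/-- An integer table packed in 4-bit fields with offset 8. -/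
def packOf (rank tab : ℕ) (s j : ℕ) : ℤ :=
  Int.subNatNat (Nat.mod (Nat.shiftRight tab (Nat.mul 4 (Nat.add (Nat.mul s rank) j))) 16) 8

/-- A list of naturals as a function. -/
def natOf (L : List ℕ) (i : ℕ) : ℕ := L.getD i 0

/-- List form of the sum over `range l`. -/
def sumL (l : ℕ) (f : ℕ → ℤ) : ℤ := ((List.range l).map f).sum

theorem sumL_eq (l : ℕ) (f : ℕ → ℤ) : sumL l f = ∑ j ∈ Finset.range l, f j :=
  list_sum_range_map l f

/-- Check of the root-lattice relation for the root `s`. -/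
def chkRootZ (A : FData) (m : ℕ → ℕ → ℤ) (s : ℕ) : Bool :=
  (List.range A.rank).all (fun i =>
    decide (A.car i s = sumL A.rank (fun j => cartanZ A i j * m s j)))

/-- Check that row `i` of `X * Y` is the row of the identity. -/
def chkIdZ (l : ℕ) (X Y : ℕ → ℕ → ℤ) (i : ℕ) : Bool :=
  (List.range l).all (fun j =>
    decide (sumL l (fun k => X i k * Y k j) = if i = j then 1 else 0))

/-- Check of row `i` of `C = P * (diag d * Q)`. -/
def chkCZ (A : FData) (P Q : ℕ → ℕ → ℤ) (d : ℕ → ℕ) (i : ℕ) : Bool :=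
  (List.range A.rank).all (fun j =>
    decide (cartanZ A i j =
      sumL A.rank (fun k => P i k * sumL A.rank (fun k' => diagZ d k k' * Q k' j))))

theorem all_range_imp {p : ℕ → Bool} {n : ℕ} (h : (List.range n).all p = true) {s : ℕ}
    (hs : s < n) : p s = true := by
  rw [List.all_eq_true] at h
  exact h s (List.mem_range.mpr hs)

theorem HOK.of_checks {A : FData} {P P' Q Q' : ℕ → ℕ → ℤ} {d : ℕ → ℕ} {m : ℕ → ℕ → ℤ}
    (h1 : (List.range A.n).all (chkRootZ A m) = true)
    (h2 : (List.range A.rank).all (chkIdZ A.rank P P') = true)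
    (h3 : (List.range A.rank).all (chkIdZ A.rank Q Q') = true)
    (h4 : (List.range A.rank).all (chkCZ A P Q d) = true) : HOK A P P' Q Q' d m := by
  refine ⟨?_, ?_, ?_, ?_⟩
  · intro s hs i hi
    have := all_range_imp (all_range_imp h1 hs) hi
    rw [decide_eq_true_eq, sumL_eq] at this
    exact this
  · intro i hi j hj
    have := all_range_imp (all_range_imp h2 hi) hj
    rw [decide_eq_true_eq, sumL_eq] at this
    exact this
  · intro i hi j hj
    have := all_range_imp (all_range_imp h3 hi) hj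
    rw [decide_eq_true_eq, sumL_eq] at this
    exact this
  · intro i hi j hj
    have := all_range_imp (all_range_imp h4 hi) hj
    rw [decide_eq_true_eq, sumL_eq] at this
    rw [this]
    unfold mulZ
    apply Finset.sum_congr rfl
    intro k _
    rw [sumL_eq]

def pG2 : List (List ℤ) := [[2, 1], [-1, 0]]
def p'G2 : List (List ℤ) := [[0, -1], [1, 2]]
def qG2 : List (List ℤ) := [[1, -2], [0, 1]]
def q'G2 : List (List ℤ) := [[1, 2], [0, 1]]
def dG2 : List ℕ := [1, 1]
def mG2 : ℕ := 0xab9b9a998998788777767565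

set_option maxRecDepth 100000 in
theorem hokG2 : HOK TabG2.fd (matOf pG2) (matOf p'G2) (matOf qG2) (matOf q'G2)
    (natOf dG2) (packOf 2 mG2) := by
  apply HOK.of_checks
  · decide +kernel
  · decide +kernel
  · decide +kernel
  · decide +kernel

def pB2 : List (List ℤ) := [[2, 1], [-1, 0]]
def p'B2 : List (List ℤ) := [[0, -1], [1, 2]]
def qB2 : List (List ℤ) := [[1, -2], [0, 1]]
def q'B2 : List (List ℤ) := [[1, 2], [0, 1]]
def dB2 : List ℕ := [1, 2]
def mB2 : ℕ := 0x9a99899878877776

set_option maxRecDepth 100000 in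
theorem hokB2 : HOK TabB2.fd (matOf pB2) (matOf p'B2) (matOf qB2) (matOf q'B2)
    (natOf dB2) (packOf 2 mB2) := by
  apply HOK.of_checks
  · decide +kernel
  · decide +kernel
  · decide +kernel
  · decide +kernel

def pD4 : List (List ℤ) := [[-1, 0, 0, 0], [2, -1, 0, 0], [-1, 2, -1, 0], [-1, 0, 1, 1]]
def p'D4 : List (List ℤ) := [[-1, 0, 0, 0], [-2, -1, 0, 0], [-3, -2, -1, 0], [2, 2, 1, 1]]
def qD4 : List (List ℤ) := [[-2, 1, 0, 0], [-3, 0, 1, 1], [-2, 0, 0, 1], [1, 0, 0, 0]]
def q'D4 : List (List ℤ) := [[0, 0, 0, 1], [1, 0, 0, 2], [0, 1, -1, 1], [0, 0, 1, 2]]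
def dD4 : List ℕ := [1, 1, 2, 2]
def mD4 : ℕ := 0x99a999998999989988998889999889989898889889889888788887888878787887787778888788777877877777777767

set_option maxRecDepth 100000 in
theorem hokD4 : HOK TabD4.fd (matOf pD4) (matOf p'D4) (matOf qD4) (matOf q'D4)
    (natOf dD4) (packOf 4 mD4) := by
  apply HOK.of_checks
  · decide +kernel
  · decide +kernel
  · decide +kernel
  · decide +kernel

def pF4 : List (List ℤ) := [[-1, 0, 0, 0], [2, 0, -1, 0], [-1, -1, 0, 0], [0, 2, 2, -1]]
def p'F4 : List (List ℤ) := [[-1, 0, 0, 0], [1, 0, -1, 0], [-2, -1, 0, 0], [-2, -2, -2, -1]]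
def qF4 : List (List ℤ) := [[-2, 1, 0, 0], [2, 0, -2, 1], [-3, 0, 2, 0], [-2, 0, 1, 0]]
def q'F4 : List (List ℤ) := [[0, 0, 1, -2], [1, 0, 2, -4], [0, 0, 2, -3], [0, 1, 2, -2]]
def dF4 : List ℕ := [1, 1, 1, 1]
def mF4 : ℕ := 0xabca9bca9aca9aba9aaa99aa89aa9ab99aa999a989a999998999889988899aa899a889a8999889988898998889889888788887887788887887787778876877687668888788778777777787677767766776578766776676667656764675466546

set_option maxRecDepth 100000 in
theorem hokF4 : HOK TabF4.fd (matOf pF4) (matOf p'F4) (matOf qF4) (matOf q'F4)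
    (natOf dF4) (packOf 4 mF4) := by
  apply HOK.of_checks
  · decide +kernel
  · decide +kernel
  · decide +kernel
  · decide +kernel

def pE6 : List (List ℤ) := [[-1, 0, 0, 0, 0, 0], [0, -1, 0, 0, 0, 0], [2, -1, 0, 0, -1, 0], [-1, 2, -1, 0, 0, 0], [0, -1, 2, -1, 0, 0], [0, 0, -1, 2, 4, -1]]
def p'E6 : List (List ℤ) := [[-1, 0, 0, 0, 0, 0], [0, -1, 0, 0, 0, 0], [1, -2, 0, -1, 0, 0], [2, -3, 0, -2, -1, 0], [-2, 1, -1, 0, 0, 0], [-5, 0, -4, -3, -2, -1]]
def qE6 : List (List ℤ) := [[-2, 0, 1, 0, 0, 0], [0, -2, 0, 1, 0, 0], [2, -3, 0, 0, 1, 0], [4, -4, 0, 0, 0, 1], [-3, 2, 0, 0, 0, 0], [-2, 1, 0, 0, 0, 0]]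
def q'E6 : List (List ℤ) := [[0, 0, 0, 0, 1, -2], [0, 0, 0, 0, 2, -3], [1, 0, 0, 0, 2, -4], [0, 1, 0, 0, 4, -6], [0, 0, 1, 0, 4, -5], [0, 0, 0, 1, 4, -4]]
def dE6 : List ℕ := [1, 1, 1, 1, 1, 3]
def mE6 : ℕ := 0x9abaa99aba999aaa9999aa9989aa999aa99999a99989a9999999998999998899999999898999898899898889898888899aa99899a99889a998999998899998889998999898899898889898888898999988899988889988888988999888899888889888998888898888988888788888878888778888887888877888777888888788887788877788777788888878887878877878777878887778877778777778876778776778766778888887888787887787877787777787887777877777777777876777776777766777876677776677766677765677765667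

set_option maxRecDepth 100000 in
theorem hokE6 : HOK TabE6.fd (matOf pE6) (matOf p'E6) (matOf qE6) (matOf q'E6)
    (natOf dE6) (packOf 6 mE6) := by
  apply HOK.of_checks
  · decide +kernel
  · decide +kernel
  · decide +kernel
  · decide +kernel

def pE7 : List (List ℤ) := [[-1, 0, 0, 0, 0, 0, 0], [0, -1, 0, 0, 0, 0, 0], [2, -1, 0, 0, 0, -1, 0], [-1, 2, -1, 0, 0, 0, 0], [0, -1, 2, -1, 0, 0, 0], [0, 0, -1, 2, -1, 0, 0], [0, 0, 0, -1, 2, 4, -1]]
def p'E7 : List (List ℤ) := [[-1, 0, 0, 0, 0, 0, 0], [0, -1, 0, 0, 0, 0, 0], [1, -2, 0, -1, 0, 0, 0], [2, -3, 0, -2, -1, 0, 0], [3, -4, 0, -3, -2, -1, 0], [-2, 1, -1, 0, 0, 0, 0], [-4, -1, -4, -4, -3, -2, -1]]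
def qE7 : List (List ℤ) := [[-2, 0, 1, 0, 0, 0, 0], [0, -2, 0, 1, 0, 0, 0], [2, -3, 0, 0, 1, 0, 0], [4, -4, 0, 0, 0, 1, 0], [6, -5, 0, 0, 0, 0, 1], [-3, 2, 0, 0, 0, 0, 0], [-2, 1, 0, 0, 0, 0, 0]]
def q'E7 : List (List ℤ) := [[0, 0, 0, 0, 0, 1, -2], [0, 0, 0, 0, 0, 2, -3], [1, 0, 0, 0, 0, 2, -4], [0, 1, 0, 0, 0, 4, -6], [0, 0, 1, 0, 0, 4, -5], [0, 0, 0, 1, 0, 4, -4], [0, 0, 0, 0, 1, 4, -3]]
def dE7 : List ℕ := [1, 1, 1, 1, 1, 1, 2]
def mE7 : ℕ := 0x9abcbaa9abcba99abcaa99abbaa99aabaa999abaa989abaa99abba999aaba9999aba9989aba999aaaa9999aaa9989aaa99999aa99899aa99889aa999aaa99999aa99989aa999999a999899a999889a99999999998999999889999988899999999989899998988999898889989888898988888899aaa99899aa99889aa998999a998899a998889a998999999889999988899998888999899998988999898889989888898988888898999998889999888899988888998888889889999888899988888998888889888999888889988888898888998888889888889888888788888887888887788888887888887788887778888888788888778888777888777788888887888887788887778887777887777788888887888878788877878877787877778788887778887777887777787777778887677887767787776778876677877667787666778888888788887878887787887778787777877777787888777788777778777777777777788767778776777777677787667777766777766677788766778776677777667787666777766677766667787656777765677766567776556778765667776566776656677655667765466776545677654566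

set_option maxRecDepth 100000 in
theorem hokE7 : HOK TabE7.fd (matOf pE7) (matOf p'E7) (matOf qE7) (matOf q'E7)
    (natOf dE7) (packOf 7 mE7) := by
  apply HOK.of_checks
  · decide +kernel
  · decide +kernel
  · decide +kernel
  · decide +kernel

def pE8 : List (List ℤ) := [[-1, 0, 0, 0, 0, 0, 0, 0], [0, -1, 0, 0, 0, 0, 0, 0], [2, -1, 0, 0, 0, 0, -1, 0], [-1, 2, -1, 0, 0, 0, 0, 0], [0, -1, 2, -1, 0, 0, 0, 0], [0, 0, -1, 2, -1, 0, 0, 0], [0, 0, 0, -1, 2, -1, 0, 0], [0, 0, 0, 0, -1, 2, 4, -1]]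
def p'E8 : List (List ℤ) := [[-1, 0, 0, 0, 0, 0, 0, 0], [0, -1, 0, 0, 0, 0, 0, 0], [1, -2, 0, -1, 0, 0, 0, 0], [2, -3, 0, -2, -1, 0, 0, 0], [3, -4, 0, -3, -2, -1, 0, 0], [4, -5, 0, -4, -3, -2, -1, 0], [-2, 1, -1, 0, 0, 0, 0, 0], [-3, -2, -4, -5, -4, -3, -2, -1]]
def qE8 : List (List ℤ) := [[-2, 0, 1, 0, 0, 0, 0, 0], [0, -2, 0, 1, 0, 0, 0, 0], [2, -3, 0, 0, 1, 0, 0, 0], [4, -4, 0, 0, 0, 1, 0, 0], [6, -5, 0, 0, 0, 0, 1, 0], [8, -6, 0, 0, 0, 0, 0, 1], [-3, 2, 0, 0, 0, 0, 0, 0], [-2, 1, 0, 0, 0, 0, 0, 0]]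
def q'E8 : List (List ℤ) := [[0, 0, 0, 0, 0, 0, 1, -2], [0, 0, 0, 0, 0, 0, 2, -3], [1, 0, 0, 0, 0, 0, 2, -4], [0, 1, 0, 0, 0, 0, 4, -6], [0, 0, 1, 0, 0, 0, 4, -5], [0, 0, 0, 1, 0, 0, 4, -4], [0, 0, 0, 0, 1, 0, 4, -3], [0, 0, 0, 0, 0, 1, 4, -2]]
def dE8 : List ℕ := [1, 1, 1, 1, 1, 1, 1, 1]
def mE8 : ℕ := 0xabcdecba9bcdecba9acdecba9abdecba9abcecba9abcdcba9abcdbba9abcdcaa9abcdbaa9abccbaa9abbcbaa9aabcbaa99abcbaa89abcbaa9abcdbb99abcdba99abccba99abbcba99aabcba999abcba989abcba99abccaa99abbcaa99aabcaa999abcaa989abcaa99abbbaa99aabbaa999abbaa989abbaa99aaabaa999aabaa989aabaa9999abaa9899abaa9889abaa99abbba999aabba9999abba9989abba999aaaba9999aaba9989aaba99999aba99899aba99889aba999aaaaa9999aaaa9989aaaa99999aaa99899aaa99889aaa999999aa998999aa998899aa998889aa999aaaa99999aaa99989aaa999999aa999899aa999889aa9999999a9998999a9998899a9998889a9999999999989999999889999998889999988889999999999898999998988999989888999898888998988888989888888899aaaa99899aaa99889aaa998999aa998899aa998889aa9989999a9988999a998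8899a9988889a9989999999889999998889999988889999888889998999998988999989888999898888998988888989888888898999999888999998888999988888999888888998888888988999998888999988888999888888998888888988899998888899988888899888888898888999888888998888888988888998888888988888898888888788888888788888877888888887888888778888877788888888788888877888887778888777788888888788888877888887778888777788877777888888887888888778888877788887777888777778877777788888888788888787888877878887778788777787877777878888877788887777888777778877777787777777888876778887767788777677877776778887667788776677877766778876667787766677876666778888888878888878788887787888777878877778787777787777777878888777788877777887777778777777777777777888767778877677787776777777767778876677787766777777667778766677777666777766667778887667788776677877766777777667788766677877666777776667787666677776666777666667788765677877656777776567787665677776656777666567787655677776556777665567776555677887656678776566777765667876656677766566776665667876556677765566776655667765556678765466777654667766546677655466776544667876545677765456776654567765545677654456776543567765435578765456677654566766545667655456676544566765435667654346676543556765434567654245676532456764324567543245665432456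

set_option maxRecDepth 100000 in
theorem hokE8 : HOK TabE8.fd (matOf pE8) (matOf p'E8) (matOf qE8) (matOf q'E8)
    (natOf dE8) (packOf 8 mE8) := by
  apply HOK.of_checks
  · decide +kernel
  · decide +kernel
  · decide +kernel
  · decide +kernel

end Cfsg.Agent.Lib.Helper18.HOrderTab
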