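import Cfsg.Agent.Lib.Helper18.Orbit
import Cfsg.Agent.Lib.Helper18.WTabD4

set_option autoImplicit false

namespace Cfsg.Agent.Lib.Helper18.OTabD4

open Cfsg Cfsg.Lie Cfsg.Agent.Lib.Helper18.Fast Cfsg.Agent.Lib.Helper18.Facts
  Cfsg.Agent.Lib.Helper18.AllRoots Cfsg.Agent.Lib.Helper18.Weyl Cfsg.Agent.Lib.Helper18.Loop
  Cfsg.Agent.Lib.Helper18.RootSys Cfsg.Agent.Lib.Helper18.Orbit Cfsg.Agent.Lib.Helper18.HOrderTab
  Cfsg.Agent.Lib.Helper18.WTabD4

/-- Root coordinates. -/
def m : ℕ → ℕ → ℤ := packOf 4 mD4

set_option maxRecDepth 100000 in
theorem m_ok : allB 24 (chkM FTabD4.fd X m) = true := by decide +kernel

set_option maxRecDepth 100000 in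
theorem m_simple : allB 4 (chkSimpleM FTabD4.fd m) = true := by decide +kernel

theorem mfacts : MFacts FTabD4.fd X m :=
  MFacts.of_checks (fun s (hs : s < 24) => allB_imp m_ok s hs)
    (fun i (hi : i < 4) => allB_imp m_simple i hi)

def otab : ℕ := 0x104303202302101000302201301000000000301201101302202303001102303203304105

set_option maxRecDepth 100000 in
theorem o_ok : allB 24 (chkO FTabD4.fd X (depOf otab) (stpOf otab)) = true := by decide +kernel

theorem ofacts : OFacts FTabD4.fd X (depOf otab) (stpOf otab) :=
  OFacts.of_checks (fun s (hs : s < 24) => allB_imp o_ok s hs)

def ptab : ℕ := 0x30c10b30b10a10a30b10a30a10910a30a10910930c10b30b10a10930b10a30a10900030b00020a30a20920930a20930930b20930920a30a20820820820930a20820930900020810a20900020810920820810910a10820820910810920720720820710920820700010820730a30900800000900830830a30900830930800900800700800700730930800000700800710900710800800000710910700710810800810700700700600600610800010700700600600620820700700600020820700700620600600500520720600600500020720600600500530a30920830830a3090002093092082083082093092072083080002082072072072082071092071081091071082080002071082072081071082072060001072072062062072062063093073093081073083081070001083083071081073070001061071071061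07106106106108108106106107107106107107000107107106106000106106105106106105105105105206208207208207206207206207206000206205000207206207206205206205206205205306308308307307306307307306306306000000305307307306306305306306305305305105107107106106005106106105105105000000104006006005005104105105104104104105007006007006005106105106105000105104000006005006005104105104105104104207207205305206206305206306000206306205305000205305304305305304304304304206204206205004205205204000005205204005004204000203004204203204203203203006304005006004005305000304005304305004005304303000004304303303304303303005004003003005004000004004003003003004004002003003000003002002002003002105207206106105000207206106105205105104104206205105104000206205105104104206304205305000304206204304205205305204304304303303303205000204304303303205204203000104203203205204103204203104103202203202202204203000202103202105304000303104303303104105103303304103104302302303302104303302000103302104000103103102102103102102104102102103103101101101102103101102102000101000303202302001001302201301000201301000000303202302001000302201301000000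

/-- Depth of a pair. -/
def pdep (a b : ℕ) : ℕ := depOf ptab (Nat.add (Nat.mul a 24) b)

/-- Step of a pair. -/
def pstp (a b : ℕ) : ℕ := stpOf ptab (Nat.add (Nat.mul a 24) b)

/-- Representatives of the orbits of pairs. -/
def base : List (ℕ × ℕ) := [(0, 1), (0, 5), (0, 10), (0, 11), (0, 14)]

set_option maxRecDepth 100000 in
theorem p_ok : allB 24 (fun a => allB 24 (chkP FTabD4.fd X pdep pstp base a)) = true := by
  decide +kernel

theorem pfacts : PFacts FTabD4.fd X pdep pstp base :=
  PFacts.of_checks (fun a (ha : a < 24) b (hb : b < 24) => allB_imp (allB_imp p_ok a ha) b hb)

set_option maxRecDepth 100000 in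
theorem base_ok : base.all (chkBase FTabD4.fd m) = true := by decide +kernel

end Cfsg.Agent.Lib.Helper18.OTabD4
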