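import Cfsg.Agent.Lib.Helper18.Orbit
import Cfsg.Agent.Lib.Helper18.WTabG2

set_option autoImplicit false

namespace Cfsg.Agent.Lib.Helper18.OTabG2

open Cfsg Cfsg.Lie Cfsg.Agent.Lib.Helper18.Fast Cfsg.Agent.Lib.Helper18.Facts
  Cfsg.Agent.Lib.Helper18.AllRoots Cfsg.Agent.Lib.Helper18.Weyl Cfsg.Agent.Lib.Helper18.Loop
  Cfsg.Agent.Lib.Helper18.RootSys Cfsg.Agent.Lib.Helper18.Orbit Cfsg.Agent.Lib.Helper18.HOrderTab
  Cfsg.Agent.Lib.Helper18.WTabG2

/-- Root coordinates. -/
def m : ℕ → ℕ → ℤ := packOf 2 mG2

set_option maxRecDepth 100000 in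
theorem m_ok : allB 12 (chkM FTabG2.fd X m) = true := by decide +kernel

set_option maxRecDepth 100000 in
theorem m_simple : allB 2 (chkSimpleM FTabG2.fd m) = true := by decide +kernel

theorem mfacts : MFacts FTabG2.fd X m :=
  MFacts.of_checks (fun s (hs : s < 12) => allB_imp m_ok s hs)
    (fun i (hi : i < 2) => allB_imp m_simple i hi)

def otab : ℕ := 0x102001002101000000101001102003002103

set_option maxRecDepth 100000 in
theorem o_ok : allB 12 (chkO FTabG2.fd X (depOf otab) (stpOf otab)) = true := by decide +kernel

theorem ofacts : OFacts FTabG2.fd X (depOf otab) (stpOf otab) :=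
  OFacts.of_checks (fun s (hs : s < 12) => allB_imp o_ok s hs)

def ptab : ℕ := 0x106106105106105106105106105105000005000005005004005004005004004000004106005000106005106005106005000106005105105105000105104105104000104104104004004004004000004003000003003003003104104104104104000000103103103103103003003003003003000000002002002002002103103103103000103102000102102102102002002002000002001002001000001001001101000000101000101000101000000101000102000102102101102101102101101000101000001001000001000001000001000000000

/-- Depth of a pair. -/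
def pdep (a b : ℕ) : ℕ := depOf ptab (Nat.add (Nat.mul a 12) b)

/-- Step of a pair. -/
def pstp (a b : ℕ) : ℕ := stpOf ptab (Nat.add (Nat.mul a 12) b)

/-- Representatives of the orbits of pairs. -/
def base : List (ℕ × ℕ) := [(0, 1), (0, 2), (0, 4), (0, 6), (0, 8), (2, 0), (2, 3), (2, 5), (2, 7), (2, 10)]

set_option maxRecDepth 100000 in
theorem p_ok : allB 12 (fun a => allB 12 (chkP FTabG2.fd X pdep pstp base a)) = true := by
  decide +kernel

theorem pfacts : PFacts FTabG2.fd X pdep pstp base :=
  PFacts.of_checks (fun a (ha : a < 12) b (hb : b < 12) => allB_imp (allB_imp p_ok a ha) b hb)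

set_option maxRecDepth 100000 in
theorem base_ok : base.all (chkBase FTabG2.fd m) = true := by decide +kernel

end Cfsg.Agent.Lib.Helper18.OTabG2
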