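import Cfsg.Agent.Lib.Helper18.BNPairC
import Cfsg.Agent.Lib.Helper18.PAll
import Cfsg.Agent.Lib.Helper18.OTabG2
import Cfsg.Agent.Lib.Helper18.OTabB2
import Cfsg.Agent.Lib.Helper18.OTabD4
import Cfsg.Agent.Lib.Helper18.OTabF4
import Cfsg.Agent.Lib.Helper18.OTabE6
import Cfsg.Agent.Lib.Helper18.OTabE7
import Cfsg.Agent.Lib.Helper18.OTabE8

set_option autoImplicit false

namespace Cfsg.Agent.Lib.Helper18.CAll

open Cfsg Cfsg.Lie Cfsg.Agent.Lib.Helper18.Fast Cfsg.Agent.Lib.Helper18.Facts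
  Cfsg.Agent.Lib.Helper18.AllRoots Cfsg.Agent.Lib.Helper18.Weyl Cfsg.Agent.Lib.Helper18.Pos
  Cfsg.Agent.Lib.Helper18.RootSys Cfsg.Agent.Lib.Helper18.Orbit Cfsg.Agent.Lib.Helper18.BNPairC

theorem posG2 : PosW FTabG2.fd (PAll.wOf [6, 10]) := by
  rw [FTabG2.fd_eq]
  exact PAll.posG2

theorem cfG2 : CFacts FTabG2.fd chevG2 WTabG2.X OTabG2.m (PAll.wOf [6, 10]) :=
  ⟨WTabG2.afacts, WTabG2.wfacts, OTabG2.mfacts, posG2, ⟨_, _, OTabG2.ofacts⟩,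
    ⟨_, _, _, OTabG2.pfacts, OTabG2.base_ok⟩⟩

theorem posB2 : PosW FTabB2.fd (PAll.wOf [3, 4]) := by
  rw [FTabB2.fd_eq]
  exact PAll.posB2

theorem cfB2 : CFacts FTabB2.fd chevB2 WTabB2.X OTabB2.m (PAll.wOf [3, 4]) :=
  ⟨WTabB2.afacts, WTabB2.wfacts, OTabB2.mfacts, posB2, ⟨_, _, OTabB2.ofacts⟩,
    ⟨_, _, _, OTabB2.pfacts, OTabB2.base_ok⟩⟩

theorem posD4 : PosW FTabD4.fd (PAll.wOf [6, 10, 6, 6]) := by
  rw [FTabD4.fd_eq]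
  exact PAll.posD4

theorem cfD4 : CFacts FTabD4.fd chevD4 WTabD4.X OTabD4.m (PAll.wOf [6, 10, 6, 6]) :=
  ⟨WTabD4.afacts, WTabD4.wfacts, OTabD4.mfacts, posD4, ⟨_, _, OTabD4.ofacts⟩,
    ⟨_, _, _, OTabD4.pfacts, OTabD4.base_ok⟩⟩

theorem posF4 : PosW FTabF4.fd (PAll.wOf [16, 30, 42, 22]) := by
  rw [FTabF4.fd_eq]
  exact PAll.posF4

theorem cfF4 : CFacts FTabF4.fd chevF4 WTabF4.X OTabF4.m (PAll.wOf [16, 30, 42, 22]) :=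
  ⟨WTabF4.afacts, WTabF4.wfacts, OTabF4.mfacts, posF4, ⟨_, _, OTabF4.ofacts⟩,
    ⟨_, _, _, OTabF4.pfacts, OTabF4.base_ok⟩⟩

theorem posE6 : PosW FTabE6.fd (PAll.wOf [16, 22, 30, 42, 30, 16]) := by
  rw [FTabE6.fd_eq]
  exact PAll.posE6

theorem cfE6 : CFacts FTabE6.fd chevE6 WTabE6.X OTabE6.m (PAll.wOf [16, 22, 30, 42, 30, 16]) :=
  ⟨WTabE6.afacts, WTabE6.wfacts, OTabE6.mfacts, posE6, ⟨_, _, OTabE6.ofacts⟩,
    ⟨_, _, _, OTabE6.pfacts, OTabE6.base_ok⟩⟩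

theorem posE7 : PosW FTabE7.fd (PAll.wOf [34, 49, 66, 96, 75, 52, 27]) := by
  rw [FTabE7.fd_eq]
  exact PAll.posE7

theorem cfE7 : CFacts FTabE7.fd chevE7 WTabE7.X OTabE7.m (PAll.wOf [34, 49, 66, 96, 75, 52, 27]) :=
  ⟨WTabE7.afacts, WTabE7.wfacts, OTabE7.mfacts, posE7, ⟨_, _, OTabE7.ofacts⟩,
    ⟨_, _, _, OTabE7.pfacts, OTabE7.base_ok⟩⟩

theorem posE8 : PosW FTabE8.fd (PAll.wOf [92, 136, 182, 270, 220, 168, 114, 58]) := by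
  rw [FTabE8.fd_eq]
  exact PAll.posE8

theorem cfE8 : CFacts FTabE8.fd chevE8 WTabE8.X OTabE8.m (PAll.wOf [92, 136, 182, 270, 220, 168, 114, 58]) :=
  ⟨WTabE8.afacts, WTabE8.wfacts, OTabE8.mfacts, posE8, ⟨_, _, OTabE8.ofacts⟩,
    ⟨_, _, _, OTabE8.pfacts, OTabE8.base_ok⟩⟩

/-- Each tabulated datum has the table facts used for the `(B, N)`-pair. -/
theorem exists_cfacts (D : ChevalleyDatum)
    (hD : D ∈ [chevG2, chevB2, chevD4, chevF4, chevE6, chevE7, chevE8]) :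
    ∃ (A : FData) (X : WD) (m : ℕ → ℕ → ℤ) (w : ℕ → ℤ), CFacts A D X m w := by
  simp only [List.mem_cons, List.not_mem_nil, or_false] at hD
  rcases hD with rfl | rfl | rfl | rfl | rfl | rfl | rfl
  · exact ⟨_, _, _, _, cfG2⟩
  · exact ⟨_, _, _, _, cfB2⟩
  · exact ⟨_, _, _, _, cfD4⟩
  · exact ⟨_, _, _, _, cfF4⟩
  · exact ⟨_, _, _, _, cfE6⟩
  · exact ⟨_, _, _, _, cfE7⟩
  · exact ⟨_, _, _, _, cfE8⟩

end Cfsg.Agent.Lib.Helper18.CAll
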