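import Cfsg.Agent.Lib.Helper18.QAll
import Cfsg.Agent.Lib.Helper18.Long

set_option autoImplicit false

namespace Cfsg.Agent.Lib.Helper18.LAll

open Cfsg Cfsg.Lie Cfsg.Agent.Lib.Helper18.Fast Cfsg.Agent.Lib.Helper18.Facts
  Cfsg.Agent.Lib.Helper18.AllRoots Cfsg.Agent.Lib.Helper18.Weyl Cfsg.Agent.Lib.Helper18.Pos
  Cfsg.Agent.Lib.Helper18.RootSys Cfsg.Agent.Lib.Helper18.Orbit Cfsg.Agent.Lib.Helper18.BNPairC
  Cfsg.Agent.Lib.Helper18.Perfect Cfsg.Agent.Lib.Helper18.Loop Cfsg.Agent.Lib.Helper18.Long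

def wdG2 : List ℕ := [0, 1, 0, 1, 0, 1]

def wrG2 : List ℕ := [1, 0, 1, 0, 1, 0]

set_option maxRecDepth 100000 in
theorem lG2_ok : allB 12 (chkL FTabG2.fd WTabG2.X OTabG2.m wdG2 wrG2) = true := by
  decide +kernel

theorem lG2 : LFacts FTabG2.fd WTabG2.X OTabG2.m wdG2 :=
  LFacts.of_checks (wd' := wrG2) (by decide) (by decide) (fun r (hr : r < 12) => allB_imp lG2_ok r hr)

def parG2 (i : ℕ) : ℕ := [0, 0].getD i 0

def depG2 (i : ℕ) : ℕ := [0, 1].getD i 0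

def witG2 (i : ℕ) : ℕ := [0, 7].getD i 0

set_option maxRecDepth 100000 in
theorem iG2_ok : allB 2 (chkI FTabG2.fd WTabG2.X OTabG2.m parG2 depG2 witG2) = true := by
  decide +kernel

theorem iG2 : IFacts FTabG2.fd WTabG2.X OTabG2.m parG2 depG2 witG2 :=
  IFacts.of_checks (fun i (hi : i < 2) => allB_imp iG2_ok i hi)

def wdB2 : List ℕ := [0, 1, 0, 1]

def wrB2 : List ℕ := [1, 0, 1, 0]

set_option maxRecDepth 100000 in
theorem lB2_ok : allB 8 (chkL FTabB2.fd WTabB2.X OTabB2.m wdB2 wrB2) = true := by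
  decide +kernel

theorem lB2 : LFacts FTabB2.fd WTabB2.X OTabB2.m wdB2 :=
  LFacts.of_checks (wd' := wrB2) (by decide) (by decide) (fun r (hr : r < 8) => allB_imp lB2_ok r hr)

def parB2 (i : ℕ) : ℕ := [0, 0].getD i 0

def depB2 (i : ℕ) : ℕ := [0, 1].getD i 0

def witB2 (i : ℕ) : ℕ := [0, 4].getD i 0

set_option maxRecDepth 100000 in
theorem iB2_ok : allB 2 (chkI FTabB2.fd WTabB2.X OTabB2.m parB2 depB2 witB2) = true := by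
  decide +kernel

theorem iB2 : IFacts FTabB2.fd WTabB2.X OTabB2.m parB2 depB2 witB2 :=
  IFacts.of_checks (fun i (hi : i < 2) => allB_imp iB2_ok i hi)

def wdD4 : List ℕ := [0, 1, 0, 2, 1, 0, 3, 1, 0, 2, 1, 3]

def wrD4 : List ℕ := [3, 1, 2, 0, 1, 3, 0, 1, 2, 0, 1, 0]

set_option maxRecDepth 100000 in
theorem lD4_ok : allB 24 (chkL FTabD4.fd WTabD4.X OTabD4.m wdD4 wrD4) = true := by
  decide +kernel

theorem lD4 : LFacts FTabD4.fd WTabD4.X OTabD4.m wdD4 :=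
  LFacts.of_checks (wd' := wrD4) (by decide) (by decide) (fun r (hr : r < 24) => allB_imp lD4_ok r hr)

def parD4 (i : ℕ) : ℕ := [0, 0, 1, 1].getD i 0

def depD4 (i : ℕ) : ℕ := [0, 1, 2, 2].getD i 0

def witD4 (i : ℕ) : ℕ := [0, 14, 13, 12].getD i 0

set_option maxRecDepth 100000 in
theorem iD4_ok : allB 4 (chkI FTabD4.fd WTabD4.X OTabD4.m parD4 depD4 witD4) = true := by
  decide +kernel

theorem iD4 : IFacts FTabD4.fd WTabD4.X OTabD4.m parD4 depD4 witD4 :=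
  IFacts.of_checks (fun i (hi : i < 4) => allB_imp iD4_ok i hi)

def wdF4 : List ℕ := [0, 1, 0, 2, 1, 0, 2, 1, 2, 3, 2, 1, 0, 2, 1, 2, 3, 2, 1, 0, 2, 1, 2, 3]

def wrF4 : List ℕ := [3, 2, 1, 2, 0, 1, 2, 3, 2, 1, 2, 0, 1, 2, 3, 2, 1, 2, 0, 1, 2, 0, 1, 0]

set_option maxRecDepth 100000 in
theorem lF4_ok : allB 48 (chkL FTabF4.fd WTabF4.X OTabF4.m wdF4 wrF4) = true := by
  decide +kernel

theorem lF4 : LFacts FTabF4.fd WTabF4.X OTabF4.m wdF4 :=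
  LFacts.of_checks (wd' := wrF4) (by decide) (by decide) (fun r (hr : r < 48) => allB_imp lF4_ok r hr)

def parF4 (i : ℕ) : ℕ := [0, 0, 1, 2].getD i 0

def depF4 (i : ℕ) : ℕ := [0, 1, 2, 3].getD i 0

def witF4 (i : ℕ) : ℕ := [0, 27, 25, 24].getD i 0

set_option maxRecDepth 100000 in
theorem iF4_ok : allB 4 (chkI FTabF4.fd WTabF4.X OTabF4.m parF4 depF4 witF4) = true := by
  decide +kernel

theorem iF4 : IFacts FTabF4.fd WTabF4.X OTabF4.m parF4 depF4 witF4 :=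
  IFacts.of_checks (fun i (hi : i < 4) => allB_imp iF4_ok i hi)

def wdE6 : List ℕ := [0, 1, 2, 0, 3, 1, 2, 0, 3, 2, 4, 3, 1, 2, 0, 3, 2, 4, 3, 1, 5, 4, 3, 1, 2, 0, 3, 2, 4, 3, 1, 5, 4, 3, 2, 0]

def wrE6 : List ℕ := [0, 2, 3, 4, 5, 1, 3, 4, 2, 3, 0, 2, 1, 3, 4, 5, 1, 3, 4, 2, 3, 0, 2, 1, 3, 4, 2, 3, 0, 2, 1, 3, 0, 2, 1, 0]

set_option maxRecDepth 100000 in
theorem lE6_ok : allB 72 (chkL FTabE6.fd WTabE6.X OTabE6.m wdE6 wrE6) = true := by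
  decide +kernel

theorem lE6 : LFacts FTabE6.fd WTabE6.X OTabE6.m wdE6 :=
  LFacts.of_checks (wd' := wrE6) (by decide) (by decide) (fun r (hr : r < 72) => allB_imp lE6_ok r hr)

def parE6 (i : ℕ) : ℕ := [0, 3, 0, 2, 3, 4].getD i 0

def depE6 (i : ℕ) : ℕ := [0, 3, 1, 2, 3, 4].getD i 0

def witE6 (i : ℕ) : ℕ := [0, 46, 42, 39, 37, 36].getD i 0

set_option maxRecDepth 100000 in
theorem iE6_ok : allB 6 (chkI FTabE6.fd WTabE6.X OTabE6.m parE6 depE6 witE6) = true := by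
  decide +kernel

theorem iE6 : IFacts FTabE6.fd WTabE6.X OTabE6.m parE6 depE6 witE6 :=
  IFacts.of_checks (fun i (hi : i < 6) => allB_imp iE6_ok i hi)

def wdE7 : List ℕ := [0, 1, 2, 0, 3, 1, 2, 0, 3, 2, 4, 3, 1, 2, 0, 3, 2, 4, 3, 1, 5, 4, 3, 1, 2, 0, 3, 2, 4, 3, 1, 5, 4, 3, 2, 0, 6, 5, 4, 3, 1, 2, 0, 3, 2, 4, 3, 1, 5, 4, 3, 2, 0, 6, 5, 4, 3, 1, 2, 3, 4, 5, 6]

def wrE7 : List ℕ := [6, 5, 4, 3, 2, 1, 3, 4, 5, 6, 0, 2, 3, 4, 5, 1, 3, 4, 2, 3, 0, 2, 1, 3, 4, 5, 6, 0, 2, 3, 4, 5, 1, 3, 4, 2, 3, 0, 2, 1, 3, 4, 5, 1, 3, 4, 2, 3, 0, 2, 1, 3, 4, 2, 3, 0, 2, 1, 3, 0, 2, 1, 0]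

set_option maxRecDepth 100000 in
theorem lE7_ok : allB 126 (chkL FTabE7.fd WTabE7.X OTabE7.m wdE7 wrE7) = true := by
  decide +kernel

theorem lE7 : LFacts FTabE7.fd WTabE7.X OTabE7.m wdE7 :=
  LFacts.of_checks (wd' := wrE7) (by decide) (by decide) (fun r (hr : r < 126) => allB_imp lE7_ok r hr)

def parE7 (i : ℕ) : ℕ := [0, 3, 0, 2, 3, 4, 5].getD i 0

def depE7 (i : ℕ) : ℕ := [0, 3, 1, 2, 3, 4, 5].getD i 0

def witE7 (i : ℕ) : ℕ := [0, 78, 73, 69, 66, 64, 63].getD i 0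

set_option maxRecDepth 100000 in
theorem iE7_ok : allB 7 (chkI FTabE7.fd WTabE7.X OTabE7.m parE7 depE7 witE7) = true := by
  decide +kernel

theorem iE7 : IFacts FTabE7.fd WTabE7.X OTabE7.m parE7 depE7 witE7 :=
  IFacts.of_checks (fun i (hi : i < 7) => allB_imp iE7_ok i hi)

def wdE8 : List ℕ := [0, 1, 2, 0, 3, 1, 2, 0, 3, 2, 4, 3, 1, 2, 0, 3, 2, 4, 3, 1, 5, 4, 3, 1, 2, 0, 3, 2, 4, 3, 1, 5, 4, 3, 2, 0, 6, 5, 4, 3, 1, 2, 0, 3, 2, 4, 3, 1, 5, 4, 3, 2, 0, 6, 5, 4, 3, 1, 2, 3, 4, 5, 6, 7, 6, 5, 4, 3, 1, 2, 0, 3, 2, 4, 3, 1, 5, 4, 3, 2, 0, 6, 5, 4, 3, 1, 2, 3, 4, 5, 6, 7, 6, 5, 4, 3, 1, 2, 0, 3, 2, 4, 3, 1, 5, 4, 3, 2, 0, 6, 5, 4, 3, 1, 2, 3, 4, 5, 6, 7]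

def wrE8 : List ℕ := [7, 6, 5, 4, 3, 2, 1, 3, 4, 5, 6, 0, 2, 3, 4, 5, 1, 3, 4, 2, 3, 0, 2, 1, 3, 4, 5, 6, 7, 6, 5, 4, 3, 2, 1, 3, 4, 5, 6, 0, 2, 3, 4, 5, 1, 3, 4, 2, 3, 0, 2, 1, 3, 4, 5, 6, 7, 6, 5, 4, 3, 2, 1, 3, 4, 5, 6, 0, 2, 3, 4, 5, 1, 3, 4, 2, 3, 0, 2, 1, 3, 4, 5, 6, 0, 2, 3, 4, 5, 1, 3, 4, 2, 3, 0, 2, 1, 3, 4, 5, 1, 3, 4, 2, 3, 0, 2, 1, 3, 4, 2, 3, 0, 2, 1, 3, 0, 2, 1, 0]

set_option maxRecDepth 100000 in
theorem lE8_ok : allB 240 (chkL FTabE8.fd WTabE8.X OTabE8.m wdE8 wrE8) = true := by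
  decide +kernel

theorem lE8 : LFacts FTabE8.fd WTabE8.X OTabE8.m wdE8 :=
  LFacts.of_checks (wd' := wrE8) (by decide) (by decide) (fun r (hr : r < 240) => allB_imp lE8_ok r hr)

def parE8 (i : ℕ) : ℕ := [0, 3, 0, 2, 3, 4, 5, 6].getD i 0

def depE8 (i : ℕ) : ℕ := [0, 3, 1, 2, 3, 4, 5, 6].getD i 0

def witE8 (i : ℕ) : ℕ := [0, 141, 135, 130, 126, 123, 121, 120].getD i 0

set_option maxRecDepth 100000 in
theorem iE8_ok : allB 8 (chkI FTabE8.fd WTabE8.X OTabE8.m parE8 depE8 witE8) = true := by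
  decide +kernel

theorem iE8 : IFacts FTabE8.fd WTabE8.X OTabE8.m parE8 depE8 witE8 :=
  IFacts.of_checks (fun i (hi : i < 8) => allB_imp iE8_ok i hi)

/-- Each tabulated datum has the table facts for the `(B, N)`-pair, for perfectness, for the longest
element and for the connectedness of the Dynkin diagram. -/
theorem exists_lfacts (D : ChevalleyDatum)
    (hD : D ∈ [chevG2, chevB2, chevD4, chevF4, chevE6, chevE7, chevE8]) :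
    ∃ (A : FData) (X : WD) (m : ℕ → ℕ → ℤ) (w : ℕ → ℤ) (small : Bool) (wd : List ℕ)
      (par dep wit : ℕ → ℕ), CFacts A D X m w ∧
      QFacts A small ∧ (small = true → D = chevG2 ∨ D = chevB2) ∧ LFacts A X m wd ∧
      IFacts A X m par dep wit ∧ 0 < A.n := by
  simp only [List.mem_cons, List.not_mem_nil, or_false] at hD
  rcases hD with rfl | rfl | rfl | rfl | rfl | rfl | rfl
  · exact ⟨_, _, _, _, _, _, _, _, _, CAll.cfG2, QAll.qG2, fun _ => Or.inl rfl, lG2, iG2, by decide⟩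
  · exact ⟨_, _, _, _, _, _, _, _, _, CAll.cfB2, QAll.qB2, fun _ => Or.inr rfl, lB2, iB2, by decide⟩
  · exact ⟨_, _, _, _, _, _, _, _, _, CAll.cfD4, QAll.qD4, fun h => absurd h (by decide), lD4, iD4, by decide⟩
  · exact ⟨_, _, _, _, _, _, _, _, _, CAll.cfF4, QAll.qF4, fun h => absurd h (by decide), lF4, iF4, by decide⟩
  · exact ⟨_, _, _, _, _, _, _, _, _, CAll.cfE6, QAll.qE6, fun h => absurd h (by decide), lE6, iE6, by decide⟩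
  · exact ⟨_, _, _, _, _, _, _, _, _, CAll.cfE7, QAll.qE7, fun h => absurd h (by decide), lE7, iE7, by decide⟩
  · exact ⟨_, _, _, _, _, _, _, _, _, CAll.cfE8, QAll.qE8, fun h => absurd h (by decide), lE8, iE8, by decide⟩

end Cfsg.Agent.Lib.Helper18.LAll
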