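import Mathlib
import Cfsg.Agent.Lib.Helper18.Core
import Cfsg.Agent.Lib.Helper18.CAll
import Cfsg.Agent.Lib.Helper18.LAll

set_option autoImplicit false
set_option linter.unusedSimpArgs false
set_option linter.unusedSectionVars false
set_option linter.unusedVariables false

/-!
Core of the piece TOP of S2369 (no twisted group here, only the Chevalley group): an element `x`
of the Borel subgroup `B` whose conjugate `n₀⁻¹ x n₀` under a longest word is again in `B` is
diagonal; if moreover `x * x = 1` and the characteristic is 2, then `x = 1`.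
The instance for `F4` uses the word `wd15 = flat [A, B, A, B, A, B, A, B]` (`A = [0, 3]`,
`B = [1, 2, 1, 2]`), the sixteenth word of helper19's `TwF4O.bls`.
-/

namespace Cfsg.Agent.Lib.Helper18.BTTopCore

open Cfsg Cfsg.Lie Cfsg.Agent.Lib.Helper18.Fast Cfsg.Agent.Lib.Helper18.Grade
  Cfsg.Agent.Lib.Helper18.Facts Cfsg.Agent.Lib.Helper18.AllRoots Cfsg.Agent.Lib.Helper18.Loop
  Cfsg.Agent.Lib.Helper18.Weyl Cfsg.Agent.Lib.Helper18.RootSys Cfsg.Agent.Lib.Helper18.Orbit
  Cfsg.Agent.Lib.Helper18.Units Cfsg.Agent.Lib.Helper18.Sub Cfsg.Agent.Lib.Helper18.Norm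
  Cfsg.Agent.Lib.Helper18.HAll Cfsg.Agent.Lib.Helper18.Torus Cfsg.Agent.Lib.Helper18.Pos
  Cfsg.Agent.Lib.Helper18.WGroup Cfsg.Agent.Lib.Helper18.BNChev Cfsg.Agent.Lib.Helper18.Mono
  Cfsg.Agent.Lib.Helper18.BNPairC Cfsg.Agent.Lib.Helper18.Long Cfsg.Agent.Lib.Helper18.Core
  Cfsg.Agent.Lib.Helper18.XMat

universe u

variable {A : FData} {D : ChevalleyDatum} {F : Type u} [Field F] {X : WD} {m : ℕ → ℕ → ℤ}
  {w : ℕ → ℤ}

/-- An element of `B` whose conjugate under the inverse of a longest word lies in `B` is in `H`. -/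
theorem mem_diag_of_conj (hC : CFacts A D X m w) {wd : List ℕ} (hL : LFacts A X m wd)
    {x : GL D.Idx F} (hx : x ∈ D.borelSubgroup F)
    (hy : (nw hC.af F (plain wd))⁻¹ * x * nw hC.af F (plain wd) ∈ D.borelSubgroup F) :
    x ∈ D.diagonalSubgroup F := by
  have h1 := long_conj_borel hC hL hy
  have h2 : nw hC.af F (plain wd) * ((nw hC.af F (plain wd))⁻¹ * x * nw hC.af F (plain wd)) *
      (nw hC.af F (plain wd))⁻¹ = x := by group
  rw [h2] at h1
  have h3 : x ∈ D.borelSubgroup F ⊓ (D.negUnipotent F ⊔ D.diagonalSubgroup F) := ⟨hx, h1⟩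
  rwa [borel_inf_negUnipotent_sup hC.af hC.pw] at h3

/-- In characteristic 2 an element of `H` with square one is the identity. -/
theorem diag_sq_eq_one (hF : AFacts A D) [CharP F 2] {x : GL D.Idx F}
    (hx : x ∈ D.diagonalSubgroup F) (hxx : x * x = 1) : x = 1 := by
  obtain ⟨c, _, e⟩ := exists_tor_of_mem hF x hx
  have h1 : (x : Matrix D.Idx D.Idx F) * (x : Matrix D.Idx D.Idx F) = 1 := by
    have := congrArg (fun g : GL D.Idx F => (g : Matrix D.Idx D.Idx F)) hxx
    simpa using this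
  apply Units.ext
  rw [e] at h1 ⊢
  unfold tor at h1 ⊢
  rw [Matrix.diagonal_mul_diagonal] at h1
  have h2 : ∀ b : D.Idx, chi A c (enc D b) = 1 := by
    intro b
    have h3 := congrFun (congrFun h1 b) b
    rw [Matrix.diagonal_apply_eq, Matrix.one_apply_eq] at h3
    have h4 : (chi A c (enc D b) - 1) * (chi A c (enc D b) - 1) = 0 := by
      have h5 : (2 : F) = 0 := CharP.cast_eq_zero F 2
      linear_combination h3 + (1 - chi A c (enc D b)) * h5
    have h6 := mul_self_eq_zero.mp h4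
    exact sub_eq_zero.mp h6
  have h7 : (fun b : D.Idx => chi A c (enc D b)) = fun _ => 1 := funext h2
  rw [h7]
  exact Matrix.diagonal_one

/-- The statement TOP for a Chevalley group in characteristic 2. -/
theorem eq_one_of_conj (hC : CFacts A D X m w) [CharP F 2] {wd : List ℕ} (hL : LFacts A X m wd)
    {x : GL D.Idx F} (hx : x ∈ D.borelSubgroup F)
    (hy : (nw hC.af F (plain wd))⁻¹ * x * nw hC.af F (plain wd) ∈ D.borelSubgroup F)
    (hxx : x * x = 1) : x = 1 :=
  diag_sq_eq_one hC.af (mem_diag_of_conj hC hL hx hy) hxx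

/-- the sixteenth word of `TwF4O.bls`, flattened: `[A, B, A, B, A, B, A, B]` -/
def wd15 : List ℕ := [0, 3, 1, 2, 1, 2, 0, 3, 1, 2, 1, 2, 0, 3, 1, 2, 1, 2, 0, 3, 1, 2, 1, 2]

/-- its reverse -/
def wr15 : List ℕ := [2, 1, 2, 1, 3, 0, 2, 1, 2, 1, 3, 0, 2, 1, 2, 1, 3, 0, 2, 1, 2, 1, 3, 0]

set_option maxRecDepth 100000 in
theorem l15_ok : allB 48 (chkL FTabF4.fd WTabF4.X OTabF4.m wd15 wr15) = true := by
  decide +kernel

/-- `wd15` is a longest word of the Weyl group of type `F4`. -/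
theorem l15 : LFacts FTabF4.fd WTabF4.X OTabF4.m wd15 :=
  LFacts.of_checks (wd' := wr15) (by decide) (by decide)
    (fun r (hr : r < 48) => allB_imp l15_ok r hr)

/-- TOP for `F4` in characteristic 2: an element `x` of `B` with `x * x = 1` whose conjugate
`n₀⁻¹ x n₀`, `n₀ = nw _ K (plain wd15)`, lies in `B` is the identity. -/
theorem top_F4 {K : Type u} [Field K] [CharP K 2] {x : GL chevF4.Idx K}
    (hx : x ∈ chevF4.borelSubgroup K)
    (hy : (nw CAll.cfF4.af K (plain wd15))⁻¹ * x * nw CAll.cfF4.af K (plain wd15) ∈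
      chevF4.borelSubgroup K)
    (hxx : x * x = 1) : x = 1 :=
  eq_one_of_conj CAll.cfF4 l15 hx hy hxx

end Cfsg.Agent.Lib.Helper18.BTTopCore
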