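import Mathlib
import Cfsg.Agent.Lib.Helper57.FTStmt

/-!
# S3999 / CNTNORM (helper18): if the number of elements of `p`-power order is `|Y|_p`,
every Sylow `p`-subgroup is normal
-/

set_option autoImplicit false

namespace Cfsg.Agent.Lib.Helper18.FTCNTNORM

universe u

open Cfsg.Agent.Lib.Helper57.FTStmt

theorem main : CntNorm.{u} := by
  intro Y _ _ p _ hcnt P
  have hsub : ((P : Subgroup Y) : Set Y) ⊆ {y : Y | ∃ j : ℕ, orderOf y = p ^ j} := by
    intro y hy
    obtain ⟨k, hk⟩ := (IsPGroup.iff_orderOf.mp P.isPGroup') ⟨y, hy⟩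
    exact ⟨k, by rw [← hk, Subgroup.orderOf_mk]⟩
  have hfin : ({y : Y | ∃ j : ℕ, orderOf y = p ^ j} : Set Y).Finite := Set.toFinite _
  have hc1 : ({y : Y | ∃ j : ℕ, orderOf y = p ^ j} : Set Y).ncard
      = p ^ (Nat.card Y).factorization p := by
    rw [← hcnt]; rfl
  have hc2 : (((P : Subgroup Y) : Set Y)).ncard = p ^ (Nat.card Y).factorization p := by
    rw [← Sylow.card_eq_multiplicity P]; rfl
  have hset : ((P : Subgroup Y) : Set Y) = {y : Y | ∃ j : ℕ, orderOf y = p ^ j} :=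
    Set.eq_of_subset_of_ncard_le hsub (by rw [hc1, hc2]) hfin
  constructor
  intro n hn g
  have hn' : n ∈ ((P : Subgroup Y) : Set Y) := hn
  rw [hset] at hn'
  obtain ⟨j, hj⟩ := hn'
  have : g * n * g⁻¹ ∈ ((P : Subgroup Y) : Set Y) := by
    rw [hset]
    refine ⟨j, ?_⟩
    rw [← hj]
    exact MulEquiv.orderOf_eq (MulAut.conj g) n
  exact this

end Cfsg.Agent.Lib.Helper18.FTCNTNORM
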