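import Mathlib
import Cfsg.Agent.Lib.Helper57.FTStmt

/-!
# S3999 / HALLN (helper18): if all Sylow `p`-subgroups for `p ∣ n` are normal and `|Y| = n * m`
with `n`, `m` coprime, then `Y` has a normal subgroup of order `n`
-/

set_option autoImplicit false

namespace Cfsg.Agent.Lib.Helper18.FTHALLN

universe u

open Cfsg.Agent.Lib.Helper57.FTStmt
open scoped Pointwise

theorem main : HallN.{u} := by
  intro Y _ _ n m hcard hcop hsyl
  have hpos : 0 < Nat.card Y := Nat.card_pos
  have hn0 : n ≠ 0 := by
    rintro rfl
    simp at hcard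
    omega
  have hm0 : m ≠ 0 := by
    rintro rfl
    simp at hcard
    omega
  have key : ∀ T : Finset ℕ, T ⊆ n.primeFactors →
      ∃ N : Subgroup Y, N.Normal ∧
        Nat.card N = ∏ p ∈ T, p ^ (Nat.card Y).factorization p := by
    intro T
    induction T using Finset.induction_on with
    | empty =>
      intro _
      exact ⟨⊥, inferInstance, by simp⟩
    | insert p T hpT ih =>
      intro hsub
      obtain ⟨N, hN, hNc⟩ := ih (fun q hq => hsub (Finset.mem_insert_of_mem hq))
      have hp : p ∈ n.primeFactors := hsub (Finset.mem_insert_self p T)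
      have hpp : p.Prime := Nat.prime_of_mem_primeFactors hp
      have hfact : Fact p.Prime := ⟨hpp⟩
      have hpn : p ∣ n := Nat.dvd_of_mem_primeFactors hp
      obtain ⟨P⟩ : Nonempty (Sylow p Y) := inferInstance
      have hPn : (P : Subgroup Y).Normal := hsyl p hpn P
      have hPc : Nat.card (P : Subgroup Y) = p ^ (Nat.card Y).factorization p :=
        Sylow.card_eq_multiplicity P
      refine ⟨N ⊔ (P : Subgroup Y), Subgroup.sup_normal N (P : Subgroup Y), ?_⟩
      rw [Finset.prod_insert hpT, ← hNc, ← hPc]
      have hcop' : (Nat.card N).Coprime (Nat.card (P : Subgroup Y)) := by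
        rw [hNc, hPc]
        apply Nat.Coprime.prod_left
        intro q hq
        have hqp : q.Prime :=
          Nat.prime_of_mem_primeFactors (hsub (Finset.mem_insert_of_mem hq))
        have hne : q ≠ p := by
          rintro rfl
          exact hpT hq
        exact Nat.Coprime.pow _ _ ((Nat.coprime_primes hqp hpp).mpr hne)
      have hdvd : Nat.card (P : Subgroup Y) * Nat.card N
          ∣ Nat.card (N ⊔ (P : Subgroup Y) : Subgroup Y) := by
        rw [mul_comm]
        exact Nat.Coprime.mul_dvd_of_dvd_of_dvd hcop' (Subgroup.card_dvd_of_le le_sup_left)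
          (Subgroup.card_dvd_of_le le_sup_right)
      have hle : Nat.card (N ⊔ (P : Subgroup Y) : Subgroup Y)
          ≤ Nat.card (P : Subgroup Y) * Nat.card N := by
        have h1 : ((N ⊔ (P : Subgroup Y) : Subgroup Y) : Set Y)
            = (N : Set Y) * ((P : Subgroup Y) : Set Y) := Subgroup.normal_mul N (P : Subgroup Y)
        have h2 : Nat.card ((N : Set Y) * ((P : Subgroup Y) : Set Y) : Set Y)
            ≤ Nat.card (N : Set Y) * Nat.card ((P : Subgroup Y) : Set Y) := Set.natCard_mul_le
        have h3 : Nat.card (N ⊔ (P : Subgroup Y) : Subgroup Y)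
            = Nat.card ((N : Set Y) * ((P : Subgroup Y) : Set Y) : Set Y) := by
          rw [← h1]
          rfl
        rw [h3, mul_comm]
        exact h2
      exact Nat.le_antisymm hle (Nat.le_of_dvd Nat.card_pos hdvd)
  obtain ⟨N, hN, hNc⟩ := key n.primeFactors (Finset.Subset.refl _)
  refine ⟨N, hN, ?_⟩
  rw [hNc]
  have h1 : ∀ p ∈ n.primeFactors,
      p ^ (Nat.card Y).factorization p = p ^ n.factorization p := by
    intro p hp
    have hpp := Nat.prime_of_mem_primeFactors hp
    have hpn := Nat.dvd_of_mem_primeFactors hp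
    have hpm : ¬ p ∣ m := fun h => by
      have h2 := Nat.dvd_gcd hpn h
      rw [Nat.Coprime.gcd_eq_one hcop] at h2
      exact hpp.ne_one (Nat.dvd_one.mp h2)
    rw [hcard, Nat.factorization_mul hn0 hm0]
    simp [Nat.factorization_eq_zero_of_not_dvd hpm]
  rw [Finset.prod_congr rfl h1]
  have h2 := Nat.prod_factorization_pow_eq_self hn0
  rw [Finsupp.prod, Nat.support_factorization] at h2
  exact h2

end Cfsg.Agent.Lib.Helper18.FTHALLN
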