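import Mathlib
import Cfsg.Agent.Lib.Helper57.FTStmt

/-!
# S3999 / SYLCNT (helper18): a normal Sylow `p`-subgroup is the set of elements of `p`-power order
-/

set_option autoImplicit false

namespace Cfsg.Agent.Lib.Helper18.FTSYLCNT

universe u

open Cfsg.Agent.Lib.Helper57.FTStmt

/-- every `p`-subgroup lies in a normal Sylow `p`-subgroup; here for elements. -/
theorem mem_of_orderOf_pow {Y : Type u} [Group Y] [Finite Y] {p : ℕ} [Fact p.Prime] (P : Sylow p Y)
    (hP : (P : Subgroup Y).Normal) {y : Y} {j : ℕ} (hj : orderOf y = p ^ j) : y ∈ (P : Subgroup Y) := by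
  have hpg : IsPGroup p (Subgroup.zpowers y) := by
    apply IsPGroup.of_card (n := j)
    rw [Nat.card_zpowers, hj]
  obtain ⟨Q, hQ⟩ := hpg.exists_le_sylow
  have hu : Unique (Sylow p Y) := Sylow.unique_of_normal P hP
  have hQP : Q = P := Subsingleton.elim _ _
  rw [← hQP]
  exact hQ (Subgroup.mem_zpowers y)

theorem orderOf_pow_of_mem {Y : Type u} [Group Y] {p : ℕ} [Fact p.Prime] (P : Sylow p Y)
    {y : Y} (hy : y ∈ (P : Subgroup Y)) : ∃ j : ℕ, orderOf y = p ^ j := by
  obtain ⟨k, hk⟩ := (IsPGroup.iff_orderOf.mp P.isPGroup') ⟨y, hy⟩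
  exact ⟨k, by rw [← hk, Subgroup.orderOf_mk]⟩

theorem main : SylCnt.{u} := by
  intro Y _ _ p _ P hP
  have hset : {y : Y | ∃ j : ℕ, orderOf y = p ^ j} = ((P : Subgroup Y) : Set Y) := by
    ext y
    constructor
    · rintro ⟨j, hj⟩
      exact mem_of_orderOf_pow P hP hj
    · intro hy
      exact orderOf_pow_of_mem P hy
  have h1 : Nat.card {y : Y // ∃ j : ℕ, orderOf y = p ^ j}
      = Nat.card ((P : Subgroup Y) : Set Y) :=
    congrArg (fun s : Set Y => Nat.card s) hset
  rw [h1]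
  exact Sylow.card_eq_multiplicity P

end Cfsg.Agent.Lib.Helper18.FTSYLCNT
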