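import Cfsg.Agent.Lib.Helper18.GraphChk
import Cfsg.Agent.Lib.Helper18.RTabE6
import Cfsg.Agent.Lib.Helper18.RTabD4

set_option autoImplicit false

namespace Cfsg.Agent.Lib.Helper18.GraphTab

open Cfsg Cfsg.Lie Cfsg.Agent.Lib.Helper18.Fast Cfsg.Agent.Lib.Helper18.Facts
  Cfsg.Agent.Lib.Helper18.Graph Cfsg.Agent.Lib.Helper18.GraphChk

/-- The signed permutation of the graph automorphism of type E6 for the node permutation [5, 1, 4, 3, 2, 0]. -/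
def sp_e6 : SPerm := mkSPerm [0, 1, 2, 5, 16, 3, 6, 17, 8, 19, 22, 11, 26, 30, 33, 35, 4, 7, 18, 9, 20, 23, 10, 21, 24, 25, 12, 27, 31, 34, 13, 28, 32, 14, 29, 15, 56, 42, 57, 39, 43, 58, 37, 40, 44, 59, 46, 47, 50, 61, 48, 51, 62, 53, 64, 67, 36, 38, 41, 45, 60, 49, 52, 63, 54, 65, 68, 55, 66, 69, 70, 71, 77, 73, 76, 75, 74, 72]
  [0, 1, 2, 5, 16, 3, 6, 17, 8, 19, 22, 11, 26, 30, 33, 35, 4, 7, 18, 9, 20, 23, 10, 21, 24, 25, 12, 27, 31, 34, 13, 28, 32, 14, 29, 15, 56, 42, 57, 39, 43, 58, 37, 40, 44, 59, 46, 47, 50, 61, 48, 51, 62, 53, 64, 67, 36, 38, 41, 45, 60, 49, 52, 63, 54, 65, 68, 55, 66, 69, 70, 71, 77, 73, 76, 75, 74, 72]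
  [1, 1, 1, 1, -1, 1, 1, -1, 1, -1, -1, 1, -1, 1, -1, 1, -1, -1, 1, -1, 1, 1, -1, 1, 1, 1, -1, 1, -1, 1, 1, -1, 1, -1, 1, 1, 1, 1, -1, 1, -1, 1, 1, -1, 1, -1, 1, 1, 1, -1, 1, 1, -1, 1, -1, -1, 1, -1, 1, -1, 1, -1, -1, 1, -1, 1, 1, -1, 1, 1, 1, 1, 1, 1, 1, 1, 1, 1]

set_option maxRecDepth 100000 in
theorem bij_e6 : chkBij TabE6.fd [0, 1, 2, 5, 16, 3, 6, 17, 8, 19, 22, 11, 26, 30, 33, 35, 4, 7, 18, 9, 20, 23, 10, 21, 24, 25, 12, 27, 31, 34, 13, 28, 32, 14, 29, 15, 56, 42, 57, 39, 43, 58, 37, 40, 44, 59, 46, 47, 50, 61, 48, 51, 62, 53, 64, 67, 36, 38, 41, 45, 60, 49, 52, 63, 54, 65, 68, 55, 66, 69, 70, 71, 77, 73, 76, 75, 74, 72]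
  [0, 1, 2, 5, 16, 3, 6, 17, 8, 19, 22, 11, 26, 30, 33, 35, 4, 7, 18, 9, 20, 23, 10, 21, 24, 25, 12, 27, 31, 34, 13, 28, 32, 14, 29, 15, 56, 42, 57, 39, 43, 58, 37, 40, 44, 59, 46, 47, 50, 61, 48, 51, 62, 53, 64, 67, 36, 38, 41, 45, 60, 49, 52, 63, 54, 65, 68, 55, 66, 69, 70, 71, 77, 73, 76, 75, 74, 72]
  [1, 1, 1, 1, -1, 1, 1, -1, 1, -1, -1, 1, -1, 1, -1, 1, -1, -1, 1, -1, 1, 1, -1, 1, 1, 1, -1, 1, -1, 1, 1, -1, 1, -1, 1, 1, 1, 1, -1, 1, -1, 1, 1, -1, 1, -1, 1, 1, 1, -1, 1, 1, -1, 1, -1, -1, 1, -1, 1, -1, 1, -1, -1, 1, -1, 1, 1, -1, 1, 1, 1, 1, 1, 1, 1, 1, 1, 1] = true := by decide +kernel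

set_option maxRecDepth 100000 in
theorem col_e6_0 : (List.range' 0 24).all (chkCol TabE6.fd sp_e6) = true := by decide +kernel

set_option maxRecDepth 100000 in
theorem col_e6_1 : (List.range' 24 24).all (chkCol TabE6.fd sp_e6) = true := by decide +kernel

set_option maxRecDepth 100000 in
theorem col_e6_2 : (List.range' 48 24).all (chkCol TabE6.fd sp_e6) = true := by decide +kernel

theorem col_e6 : ∀ s < 72, (chkCol TabE6.fd sp_e6) s = true := by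
  intro s hs
  rcases Nat.lt_or_ge s 24 with h | h
  · exact all_range'_imp col_e6_0 (by omega) (by omega)
  rcases Nat.lt_or_ge s 48 with h | h
  · exact all_range'_imp col_e6_1 (by omega) (by omega)
  exact all_range'_imp col_e6_2 (by omega) (by omega)

theorem ok_e6 : sp_e6.OK TabE6.fd := ok_of_checks bij_e6 col_e6

set_option maxRecDepth 100000 in
theorem simple_e6 : SimpleOK sp_e6 TabE6.fd [5, 1, 4, 3, 2, 0] :=
  simpleOK_of_check (by decide +kernel)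

/-- The signed permutation of the graph automorphism of type D4 for the node permutation [2, 1, 3, 0]. -/
def sp_d4a : SPerm := mkSPerm [0, 1, 6, 2, 7, 10, 3, 8, 4, 9, 11, 5, 18, 12, 14, 19, 15, 20, 13, 16, 21, 17, 22, 23, 26, 25, 27, 24]
  [0, 1, 3, 6, 8, 11, 2, 4, 7, 9, 5, 10, 13, 18, 14, 16, 19, 21, 12, 15, 17, 20, 22, 23, 27, 25, 24, 26]
  [1, 1, -1, 1, -1, 1, -1, 1, -1, 1, 1, 1, 1, 1, 1, -1, 1, -1, 1, -1, 1, -1, 1, 1, 1, 1, 1, 1]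

set_option maxRecDepth 100000 in
theorem bij_d4a : chkBij TabD4.fd [0, 1, 6, 2, 7, 10, 3, 8, 4, 9, 11, 5, 18, 12, 14, 19, 15, 20, 13, 16, 21, 17, 22, 23, 26, 25, 27, 24]
  [0, 1, 3, 6, 8, 11, 2, 4, 7, 9, 5, 10, 13, 18, 14, 16, 19, 21, 12, 15, 17, 20, 22, 23, 27, 25, 24, 26]
  [1, 1, -1, 1, -1, 1, -1, 1, -1, 1, 1, 1, 1, 1, 1, -1, 1, -1, 1, -1, 1, -1, 1, 1, 1, 1, 1, 1] = true := by decide +kernel

set_option maxRecDepth 100000 in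
theorem col_d4a_0 : (List.range' 0 24).all (chkCol TabD4.fd sp_d4a) = true := by decide +kernel

theorem col_d4a : ∀ s < 24, (chkCol TabD4.fd sp_d4a) s = true := by
  intro s hs
  exact all_range'_imp col_d4a_0 (by omega) (by omega)

theorem ok_d4a : sp_d4a.OK TabD4.fd := ok_of_checks bij_d4a col_d4a

set_option maxRecDepth 100000 in
theorem simple_d4a : SimpleOK sp_d4a TabD4.fd [2, 1, 3, 0] :=
  simpleOK_of_check (by decide +kernel)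

/-- The signed permutation of the graph automorphism of type D4 for the node permutation [3, 1, 0, 2]. -/
def sp_d4b : SPerm := mkSPerm [0, 1, 3, 6, 8, 11, 2, 4, 7, 9, 5, 10, 13, 18, 14, 16, 19, 21, 12, 15, 17, 20, 22, 23, 27, 25, 24, 26]
  [0, 1, 6, 2, 7, 10, 3, 8, 4, 9, 11, 5, 18, 12, 14, 19, 15, 20, 13, 16, 21, 17, 22, 23, 26, 25, 27, 24]
  [1, 1, 1, -1, -1, 1, -1, -1, 1, 1, 1, 1, 1, 1, 1, 1, -1, -1, 1, -1, -1, 1, 1, 1, 1, 1, 1, 1]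

set_option maxRecDepth 100000 in
theorem bij_d4b : chkBij TabD4.fd [0, 1, 3, 6, 8, 11, 2, 4, 7, 9, 5, 10, 13, 18, 14, 16, 19, 21, 12, 15, 17, 20, 22, 23, 27, 25, 24, 26]
  [0, 1, 6, 2, 7, 10, 3, 8, 4, 9, 11, 5, 18, 12, 14, 19, 15, 20, 13, 16, 21, 17, 22, 23, 26, 25, 27, 24]
  [1, 1, 1, -1, -1, 1, -1, -1, 1, 1, 1, 1, 1, 1, 1, 1, -1, -1, 1, -1, -1, 1, 1, 1, 1, 1, 1, 1] = true := by decide +kernel

set_option maxRecDepth 100000 in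
theorem col_d4b_0 : (List.range' 0 24).all (chkCol TabD4.fd sp_d4b) = true := by decide +kernel

theorem col_d4b : ∀ s < 24, (chkCol TabD4.fd sp_d4b) s = true := by
  intro s hs
  exact all_range'_imp col_d4b_0 (by omega) (by omega)

theorem ok_d4b : sp_d4b.OK TabD4.fd := ok_of_checks bij_d4b col_d4b

set_option maxRecDepth 100000 in
theorem simple_d4b : SimpleOK sp_d4b TabD4.fd [3, 1, 0, 2] :=
  simpleOK_of_check (by decide +kernel)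

end Cfsg.Agent.Lib.Helper18.GraphTab
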