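import Cfsg.Agent.Lib.Helper18.Pair
import Cfsg.Agent.Lib.Helper18.CentTabE8

set_option autoImplicit false

/-! # Table facts for pairs of conjugates of the highest root subgroup -/

namespace Cfsg.Agent.Lib.Helper18.PairTab

open Cfsg Cfsg.Lie Cfsg.Agent.Lib.Helper18.Fast Cfsg.Agent.Lib.Helper18.Facts
  Cfsg.Agent.Lib.Helper18.AllRoots Cfsg.Agent.Lib.Helper18.Weyl Cfsg.Agent.Lib.Helper18.Pos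
  Cfsg.Agent.Lib.Helper18.Loop Cfsg.Agent.Lib.Helper18.UOrd Cfsg.Agent.Lib.Helper18.Long
  Cfsg.Agent.Lib.Helper18.RootSys Cfsg.Agent.Lib.Helper18.Cent Cfsg.Agent.Lib.Helper18.CentTab

/-- A table of words as a function. -/
def certOf (T : List (List ℕ)) (γ : ℕ) : List ℕ := T.getD γ []

/-- Check that the word attached to `γ` makes `β` and `γ` positive. -/
def chkPair (A : FData) (X : WD) (cert : ℕ → List ℕ) (β γ : ℕ) : Bool :=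
  γ == A.neg β || ((cert γ).all (fun i => decide (i < A.rank)) &&
    posC A (wperm X (cert γ) β) && posC A (wperm X (cert γ) γ))

theorem cert_of_checks {A : FData} {X : WD} {cert : ℕ → List ℕ} {β : ℕ}
    (h : allB A.n (chkPair A X cert β) = true) :
    ∀ γ < A.n, γ ≠ A.neg β → ∃ v : List ℕ, (∀ i ∈ v, i < A.rank) ∧
      PosA A (wperm X v β) ∧ PosA A (wperm X v γ) := by
  intro γ hγ hne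
  have := allB_imp h γ hγ
  unfold chkPair at this
  rw [Bool.or_eq_true] at this
  rcases this with h1 | h1
  · exact absurd (beq_iff_eq.mp h1) hne
  · rw [Bool.and_eq_true, Bool.and_eq_true, List.all_eq_true] at h1
    exact ⟨cert γ, fun i hi => of_decide_eq_true (h1.1.1 i hi), (posC_iff _).mp h1.1.2,
      (posC_iff _).mp h1.2⟩

theorem c1_of_checks {A : FData} {β : ℕ} (h1 : allB A.n (chkZ1 A β) = true) :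
    ∀ γ < A.n, PosA A γ → γ ≠ β → chkC2 A β γ = true := by
  intro γ hγ hpos hne
  have := allB_imp h1 γ hγ
  unfold chkZ1 at this
  rw [Bool.or_eq_true, Bool.or_eq_true] at this
  rcases this with (h | h) | h
  · rw [(posC_iff γ).mpr hpos] at h
    exact absurd h (by decide)
  · exact absurd (beq_iff_eq.mp h) hne
  · exact h

/-! ### Type G2 -/

def certG2 : ℕ → List ℕ := certOf [[], [1, 0], [0, 1, 0], [0, 1], [0], [1], [], [], [], [], [], []]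

set_option maxRecDepth 100000 in
theorem pairG2_ok : allB 12 (chkPair FTabG2.fd WTabG2.X certG2 11) = true := by
  decide +kernel

theorem pairG2 : ∀ γ < FTabG2.fd.n, γ ≠ FTabG2.fd.neg 11 → ∃ v : List ℕ,
    (∀ i ∈ v, i < FTabG2.fd.rank) ∧ PosA FTabG2.fd (wperm WTabG2.X v 11) ∧
      PosA FTabG2.fd (wperm WTabG2.X v γ) := cert_of_checks pairG2_ok

set_option maxRecDepth 100000 in
theorem z1G2 : allB 12 (chkZ1 FTabG2.fd 11) = true := by decide +kernel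

theorem c1G2 : ∀ γ < FTabG2.fd.n, PosA FTabG2.fd γ → γ ≠ 11 →
    chkC2 FTabG2.fd 11 γ = true := c1_of_checks z1G2

/-! ### Type D4 -/

def certD4 : ℕ → List ℕ := certOf [[], [3, 1, 2, 0], [2, 1, 0], [3, 1, 0], [1, 0], [0], [3, 1, 2], [2, 1], [3, 1], [1], [2], [3], [], [], [], [], [], [], [], [], [], [], [], []]

set_option maxRecDepth 100000 in
theorem pairD4_ok : allB 24 (chkPair FTabD4.fd WTabD4.X certD4 23) = true := by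
  decide +kernel

theorem pairD4 : ∀ γ < FTabD4.fd.n, γ ≠ FTabD4.fd.neg 23 → ∃ v : List ℕ,
    (∀ i ∈ v, i < FTabD4.fd.rank) ∧ PosA FTabD4.fd (wperm WTabD4.X v 23) ∧
      PosA FTabD4.fd (wperm WTabD4.X v γ) := cert_of_checks pairD4_ok

set_option maxRecDepth 100000 in
theorem z1D4 : allB 24 (chkZ1 FTabD4.fd 23) = true := by decide +kernel

theorem c1D4 : ∀ γ < FTabD4.fd.n, PosA FTabD4.fd γ → γ ≠ 23 →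
    chkC2 FTabD4.fd 23 γ = true := c1_of_checks z1D4

/-! ### Type E6 -/

def certE6 : ℕ → List ℕ := certOf [[], [5, 4, 3, 2, 1, 3, 4, 0, 2, 3], [5, 4, 3, 2, 1, 3, 4, 0, 2], [5, 4, 3, 2, 1, 3, 0, 2], [4, 3, 2, 1, 3, 0, 2], [5, 4, 3, 2, 1, 3, 4, 0], [5, 4, 3, 2, 1, 3, 0], [4, 3, 2, 1, 3, 0], [5, 4, 3, 2, 1, 0], [4, 3, 2, 1, 0], [3, 2, 1, 0], [5, 4, 3, 2, 0], [4, 3, 2, 0], [3, 2, 0], [2, 0], [0], [5, 4, 3, 2, 1, 3, 4], [5, 4, 3, 2, 1, 3], [4, 3, 2, 1, 3], [5, 4, 3, 2, 1], [4, 3, 2, 1], [3, 2, 1], [5, 4, 3, 1], [4, 3, 1], [3, 1], [1], [5, 4, 3, 2], [4, 3, 2], [3, 2], [2], [5, 4, 3], [4, 3], [3], [5, 4], [4], [5], [], [], [], [], [], [], [], [], [], [], [], [], [], [], [], [], [], [], [], [], [], [], [], [], [], [], [], [], [], [], [], [], [], [], [], []]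

set_option maxRecDepth 100000 in
theorem pairE6_ok : allB 72 (chkPair FTabE6.fd WTabE6.X certE6 71) = true := by
  decide +kernel

theorem pairE6 : ∀ γ < FTabE6.fd.n, γ ≠ FTabE6.fd.neg 71 → ∃ v : List ℕ,
    (∀ i ∈ v, i < FTabE6.fd.rank) ∧ PosA FTabE6.fd (wperm WTabE6.X v 71) ∧
      PosA FTabE6.fd (wperm WTabE6.X v γ) := cert_of_checks pairE6_ok

/-! ### Type E7 -/

def certE7 : ℕ → List ℕ := certOf [[], [6, 5, 4, 3, 2, 1, 3, 4, 5, 0, 2, 3, 4, 1, 3, 2], [6, 5, 4, 3, 2, 1, 3, 4, 5, 0, 2, 3, 4, 1, 3], [6, 5, 4, 3, 2, 1, 3, 4, 5, 0, 2, 3, 4, 1], [6, 5, 4, 3, 2, 1, 3, 4, 5, 0, 2, 3, 1], [6, 5, 4, 3, 2, 1, 3, 4, 0, 2, 3, 1], [5, 4, 3, 2, 1, 3, 4, 0, 2, 3, 1], [6, 5, 4, 3, 2, 1, 3, 4, 5, 0, 2, 3, 4], [6, 5, 4, 3, 2, 1, 3, 4, 5, 0, 2, 3], [6, 5, 4, 3, 2, 1, 3, 4, 0, 2, 3],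 [5, 4, 3, 2, 1, 3, 4, 0, 2, 3], [6, 5, 4, 3, 2, 1, 3, 4, 5, 0, 2], [6, 5, 4, 3, 2, 1, 3, 4, 0, 2], [5, 4, 3, 2, 1, 3, 4, 0, 2], [6, 5, 4, 3, 2, 1, 3, 0, 2], [5, 4, 3, 2, 1, 3, 0, 2], [4, 3, 2, 1, 3, 0, 2], [6, 5, 4, 3, 2, 1, 3, 4, 5, 0], [6, 5, 4, 3, 2, 1, 3, 4, 0], [5, 4, 3, 2, 1, 3, 4, 0], [6, 5, 4, 3, 2, 1, 3, 0], [5, 4, 3, 2, 1, 3, 0], [4, 3, 2, 1, 3, 0], [6, 5, 4, 3, 2, 1, 0], [5, 4, 3, 2, 1, 0], [4, 3, 2, 1, 0], [3, 2, 1, 0], [6, 5, 4, 3, 2, 0], [5, 4, 3, 2, 0], [4, 3, 2, 0], [3, 2, 0], [2, 0], [0], [6, 5, 4, 3, 2, 1, 3, 4, 5], [6, 5, 4, 3, 2, 1, 3, 4], [5, 4, 3, 2, 1, 3, 4], [6, 5, 4, 3, 2, 1, 3], [5, 4, 3, 2, 1, 3], [4, 3, 2, 1, 3], [6, 5, 4, 3, 2, 1], [5, 4, 3, 2, 1], [4, 3, 2, 1], [3, 2, 1], [6, 5, 4, 3, 1], [5, 4, 3, 1], [4, 3, 1], [3, 1], [1], [6, 5, 4, 3,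 2], [5, 4, 3, 2], [4, 3, 2], [3, 2], [2], [6, 5, 4, 3], [5, 4, 3], [4, 3], [3], [6, 5, 4], [5, 4], [4], [6, 5], [5], [6], [], [], [], [], [], [], [], [], [], [], [], [], [], [], [], [], [], [], [], [], [], [], [], [], [], [], [], [], [], [], [], [], [], [], [], [], [], [], [], [], [], [], [], [], [], [], [], [], [], [], [], [], [], [], [], [], [], [], [], [], [], [], []]

set_option maxRecDepth 100000 in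
theorem pairE7_ok : allB 126 (chkPair FTabE7.fd WTabE7.X certE7 125) = true := by
  decide +kernel

theorem pairE7 : ∀ γ < FTabE7.fd.n, γ ≠ FTabE7.fd.neg 125 → ∃ v : List ℕ,
    (∀ i ∈ v, i < FTabE7.fd.rank) ∧ PosA FTabE7.fd (wperm WTabE7.X v 125) ∧
      PosA FTabE7.fd (wperm WTabE7.X v γ) := cert_of_checks pairE7_ok

/-! ### Type E8 -/

def certE8 : ℕ → List ℕ := certOf [[], [7, 6, 5, 4, 3, 2, 1, 3, 4, 5, 6, 0, 2, 3, 4, 5, 1, 3, 4, 2, 3, 0, 2, 1, 3, 4, 5, 6], [7, 6, 5, 4, 3, 2, 1, 3, 4, 5, 6, 0, 2, 3, 4, 5, 1, 3, 4, 2, 3, 0, 2, 1, 3, 4, 5], [7, 6, 5, 4, 3, 2, 1, 3, 4, 5, 6, 0, 2, 3, 4, 5, 1, 3, 4, 2, 3, 0, 2, 1, 3, 4], [7, 6, 5, 4, 3, 2, 1, 3, 4, 5, 6, 0, 2, 3, 4, 5, 1, 3, 4, 2, 3, 0, 2, 1, 3], [7, 6, 5, 4, 3, 2, 1, 3, 4, 5, 6, 0, 2, 3, 4, 5, 1, 3, 4, 2, 3, 0, 2, 1],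 [7, 6, 5, 4, 3, 2, 1, 3, 4, 5, 6, 0, 2, 3, 4, 5, 1, 3, 4, 2, 3, 1, 0], [7, 6, 5, 4, 3, 2, 1, 3, 4, 5, 6, 0, 2, 3, 4, 5, 1, 3, 4, 2, 3, 0, 2], [7, 6, 5, 4, 3, 2, 1, 3, 4, 5, 6, 0, 2, 3, 4, 5, 1, 3, 4, 2, 3, 0], [7, 6, 5, 4, 3, 2, 1, 3, 4, 5, 6, 0, 2, 3, 4, 5, 1, 3, 4, 2, 0], [7, 6, 5, 4, 3, 2, 1, 3, 4, 5, 6, 0, 2, 3, 4, 5, 1, 3, 2, 0], [7, 6, 5, 4, 3, 2, 1, 3, 4, 5, 6, 0, 2, 3, 4, 1, 3, 2, 0], [7, 6, 5, 4, 3, 2, 1, 3, 4, 5, 0, 2, 3, 4, 1, 3, 2, 0], [6, 5, 4, 3, 2, 1, 3, 4, 5, 0, 2, 3, 4, 1, 3, 2, 0], [7, 6, 5, 4, 3, 2, 1, 3, 4, 5, 6, 0, 2, 3, 4, 5, 1, 3, 4, 2, 3, 1], [7, 6, 5, 4, 3, 2, 1, 3, 4, 5, 6, 0, 2, 3, 4, 5, 1, 3, 4, 2, 3], [7, 6, 5, 4, 3, 2, 1, 3, 4, 5, 6, 0, 2, 3, 4, 5, 1, 3, 4, 2], [7, 6, 5, 4, 3, 2, 1, 3, 4, 5, 6, 0, 2, 3, 4, 5, 1, 3, 2], [7, 6, 5, 4, 3, 2,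 1, 3, 4, 5, 6, 0, 2, 3, 4, 1, 3, 2], [7, 6, 5, 4, 3, 2, 1, 3, 4, 5, 0, 2, 3, 4, 1, 3, 2], [6, 5, 4, 3, 2, 1, 3, 4, 5, 0, 2, 3, 4, 1, 3, 2], [7, 6, 5, 4, 3, 2, 1, 3, 4, 5, 6, 0, 2, 3, 4, 5, 1, 3, 4], [7, 6, 5, 4, 3, 2, 1, 3, 4, 5, 6, 0, 2, 3, 4, 5, 1, 3], [7, 6, 5, 4, 3, 2, 1, 3, 4, 5, 6, 0, 2, 3, 4, 1, 3], [7, 6, 5, 4, 3, 2, 1, 3, 4, 5, 0, 2, 3, 4, 1, 3], [6, 5, 4, 3, 2, 1, 3, 4, 5, 0, 2, 3, 4, 1, 3], [7, 6, 5, 4, 3, 2, 1, 3, 4, 5, 6, 0, 2, 3, 4, 5, 1], [7, 6, 5, 4, 3, 2, 1, 3, 4, 5, 6, 0, 2, 3, 4, 1], [7, 6, 5, 4, 3, 2, 1, 3, 4, 5, 0, 2, 3, 4, 1], [6, 5, 4, 3, 2, 1, 3, 4, 5, 0, 2, 3, 4, 1], [7, 6, 5, 4, 3, 2, 1, 3, 4, 5, 6, 0, 2, 3, 1], [7, 6, 5, 4, 3, 2, 1, 3, 4, 5, 0, 2, 3, 1], [6, 5, 4, 3, 2, 1, 3, 4, 5, 0, 2, 3, 1], [7, 6, 5, 4, 3, 2, 1, 3, 4, 0, 2, 3, 1], [6, 5,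 4, 3, 2, 1, 3, 4, 0, 2, 3, 1], [5, 4, 3, 2, 1, 3, 4, 0, 2, 3, 1], [7, 6, 5, 4, 3, 2, 1, 3, 4, 5, 6, 0, 2, 3, 4, 5], [7, 6, 5, 4, 3, 2, 1, 3, 4, 5, 6, 0, 2, 3, 4], [7, 6, 5, 4, 3, 2, 1, 3, 4, 5, 0, 2, 3, 4], [6, 5, 4, 3, 2, 1, 3, 4, 5, 0, 2, 3, 4], [7, 6, 5, 4, 3, 2, 1, 3, 4, 5, 6, 0, 2, 3], [7, 6, 5, 4, 3, 2, 1, 3, 4, 5, 0, 2, 3], [6, 5, 4, 3, 2, 1, 3, 4, 5, 0, 2, 3], [7, 6, 5, 4, 3, 2, 1, 3, 4, 0, 2, 3], [6, 5, 4, 3, 2, 1, 3, 4, 0, 2, 3], [5, 4, 3, 2, 1, 3, 4, 0, 2, 3], [7, 6, 5, 4, 3, 2, 1, 3, 4, 5, 6, 0, 2], [7, 6, 5, 4, 3, 2, 1, 3, 4, 5, 0, 2], [6, 5, 4, 3, 2, 1, 3, 4, 5, 0, 2], [7, 6, 5, 4, 3, 2, 1, 3, 4, 0, 2], [6, 5, 4, 3, 2, 1, 3, 4, 0, 2], [5, 4, 3, 2, 1, 3, 4, 0, 2], [7, 6, 5, 4, 3, 2, 1, 3, 0, 2], [6, 5, 4, 3, 2, 1, 3, 0, 2], [5, 4, 3, 2, 1, 3, 0, 2], [4,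 3, 2, 1, 3, 0, 2], [7, 6, 5, 4, 3, 2, 1, 3, 4, 5, 6, 0], [7, 6, 5, 4, 3, 2, 1, 3, 4, 5, 0], [6, 5, 4, 3, 2, 1, 3, 4, 5, 0], [7, 6, 5, 4, 3, 2, 1, 3, 4, 0], [6, 5, 4, 3, 2, 1, 3, 4, 0], [5, 4, 3, 2, 1, 3, 4, 0], [7, 6, 5, 4, 3, 2, 1, 3, 0], [6, 5, 4, 3, 2, 1, 3, 0], [5, 4, 3, 2, 1, 3, 0], [4, 3, 2, 1, 3, 0], [7, 6, 5, 4, 3, 2, 1, 0], [6, 5, 4, 3, 2, 1, 0], [5, 4, 3, 2, 1, 0], [4, 3, 2, 1, 0], [3, 2, 1, 0], [7, 6, 5, 4, 3, 2, 0], [6, 5, 4, 3, 2, 0], [5, 4, 3, 2, 0], [4, 3, 2, 0], [3, 2, 0], [2, 0], [0], [7, 6, 5, 4, 3, 2, 1, 3, 4, 5, 6], [7, 6, 5, 4, 3, 2, 1, 3, 4, 5], [6, 5, 4, 3, 2, 1, 3, 4, 5], [7, 6, 5, 4, 3, 2, 1, 3, 4], [6, 5, 4, 3, 2, 1, 3, 4], [5, 4, 3, 2, 1, 3, 4], [7, 6, 5, 4, 3, 2, 1, 3], [6, 5, 4, 3, 2, 1, 3], [5, 4, 3, 2, 1, 3], [4, 3, 2, 1, 3], [7, 6, 5,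 4, 3, 2, 1], [6, 5, 4, 3, 2, 1], [5, 4, 3, 2, 1], [4, 3, 2, 1], [3, 2, 1], [7, 6, 5, 4, 3, 1], [6, 5, 4, 3, 1], [5, 4, 3, 1], [4, 3, 1], [3, 1], [1], [7, 6, 5, 4, 3, 2], [6, 5, 4, 3, 2], [5, 4, 3, 2], [4, 3, 2], [3, 2], [2], [7, 6, 5, 4, 3], [6, 5, 4, 3], [5, 4, 3], [4, 3], [3], [7, 6, 5, 4], [6, 5, 4], [5, 4], [4], [7, 6, 5], [6, 5], [5], [7, 6], [6], [7], [], [], [], [], [], [], [], [], [], [], [], [], [], [], [], [], [], [], [], [], [], [], [], [], [], [], [], [], [], [], [], [], [], [], [], [], [], [], [], [], [], [], [], [], [], [], [], [], [], [], [], [], [], [], [], [], [], [], [], [], [], [], [], [], [], [], [], [], [], [], [], [], [], [], [], [], [], [], [], [], [], [], [], [], [], [], [], [], [], [], [], [], [], [], [], [], [], [], [], [], [], [], [], [], [],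 [], [], [], [], [], [], [], [], [], [], [], [], [], [], []]

set_option maxRecDepth 100000 in
theorem pairE8_ok : allB 240 (chkPair FTabE8.fd WTabE8.X certE8 239) = true := by
  decide +kernel

theorem pairE8 : ∀ γ < FTabE8.fd.n, γ ≠ FTabE8.fd.neg 239 → ∃ v : List ℕ,
    (∀ i ∈ v, i < FTabE8.fd.rank) ∧ PosA FTabE8.fd (wperm WTabE8.X v 239) ∧
      PosA FTabE8.fd (wperm WTabE8.X v γ) := cert_of_checks pairE8_ok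

end Cfsg.Agent.Lib.Helper18.PairTab
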