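import Cfsg.Agent.Lib.Helper18.ChainAll
import Cfsg.Agent.Lib.Helper18.Par4

set_option autoImplicit false

namespace Cfsg.Agent.Lib.Helper18.ParAll

open Cfsg Cfsg.Lie Cfsg.Agent.Lib.Helper18.Fast Cfsg.Agent.Lib.Helper18.Facts
  Cfsg.Agent.Lib.Helper18.AllRoots Cfsg.Agent.Lib.Helper18.Weyl Cfsg.Agent.Lib.Helper18.Pos
  Cfsg.Agent.Lib.Helper18.Loop Cfsg.Agent.Lib.Helper18.UOrd Cfsg.Agent.Lib.Helper18.HOrderTab
  Cfsg.Agent.Lib.Helper18.RFact Cfsg.Agent.Lib.Helper18.Par Cfsg.Agent.Lib.Helper18.BNPairC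

/-- A table of integers as a function. -/
def fwOf (T : List (List ℤ)) (k i : ℕ) : ℤ := (T.getD k []).getD i 0

/-! ### Type G2 -/

set_option maxRecDepth 100000 in
theorem descG2_ok : allB 12 (chkDesc FTabG2.fd) = true := by decide +kernel

theorem dG2 : DFacts FTabG2.fd := DFacts.of_checks (fun r hr => allB_imp descG2_ok r hr)

def fwG2 : ℕ → ℕ → ℤ := fwOf [[2, 3], [1, 2]]

set_option maxRecDepth 100000 in
theorem jG2_ok : chkJ FTabG2.fd 1 fwG2 = true := by decide +kernel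

theorem jG2 : JFacts FTabG2.fd 1 fwG2 := JFacts.of_checks jG2_ok

/-! ### Type B2 -/

set_option maxRecDepth 100000 in
theorem descB2_ok : allB 8 (chkDesc FTabB2.fd) = true := by decide +kernel

theorem dB2 : DFacts FTabB2.fd := DFacts.of_checks (fun r hr => allB_imp descB2_ok r hr)

def fwB2 : ℕ → ℕ → ℤ := fwOf [[2, 2], [1, 2]]

set_option maxRecDepth 100000 in
theorem jB2_ok : chkJ FTabB2.fd 2 fwB2 = true := by decide +kernel

theorem jB2 : JFacts FTabB2.fd 2 fwB2 := JFacts.of_checks jB2_ok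

/-! ### Type D4 -/

set_option maxRecDepth 100000 in
theorem descD4_ok : allB 24 (chkDesc FTabD4.fd) = true := by decide +kernel

theorem dD4 : DFacts FTabD4.fd := DFacts.of_checks (fun r hr => allB_imp descD4_ok r hr)

def fwD4 : ℕ → ℕ → ℤ := fwOf [[2, 2, 1, 1], [2, 4, 2, 2], [1, 2, 2, 1], [1, 2, 1, 2]]

set_option maxRecDepth 100000 in
theorem jD4_ok : chkJ FTabD4.fd 2 fwD4 = true := by decide +kernel

theorem jD4 : JFacts FTabD4.fd 2 fwD4 := JFacts.of_checks jD4_ok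

/-! ### Type F4 -/

set_option maxRecDepth 100000 in
theorem descF4_ok : allB 48 (chkDesc FTabF4.fd) = true := by decide +kernel

theorem dF4 : DFacts FTabF4.fd := DFacts.of_checks (fun r hr => allB_imp descF4_ok r hr)

def fwF4 : ℕ → ℕ → ℤ := fwOf [[2, 3, 4, 2], [3, 6, 8, 4], [2, 4, 6, 3], [1, 2, 3, 2]]

set_option maxRecDepth 100000 in
theorem jF4_ok : chkJ FTabF4.fd 1 fwF4 = true := by decide +kernel

theorem jF4 : JFacts FTabF4.fd 1 fwF4 := JFacts.of_checks jF4_ok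

/-! ### Type E6 -/

set_option maxRecDepth 100000 in
theorem descE6_ok : allB 72 (chkDesc FTabE6.fd) = true := by decide +kernel

theorem dE6 : DFacts FTabE6.fd := DFacts.of_checks (fun r hr => allB_imp descE6_ok r hr)

def fwE6 : ℕ → ℕ → ℤ := fwOf [[4, 3, 5, 6, 4, 2], [3, 6, 6, 9, 6, 3], [5, 6, 10, 12, 8, 4], [6, 9, 12, 18, 12, 6], [4, 6, 8, 12, 10, 5], [2, 3, 4, 6, 5, 4]]

set_option maxRecDepth 100000 in
theorem jE6_ok : chkJ FTabE6.fd 3 fwE6 = true := by decide +kernel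

theorem jE6 : JFacts FTabE6.fd 3 fwE6 := JFacts.of_checks jE6_ok

/-! ### Type E7 -/

set_option maxRecDepth 100000 in
theorem descE7_ok : allB 126 (chkDesc FTabE7.fd) = true := by decide +kernel

theorem dE7 : DFacts FTabE7.fd := DFacts.of_checks (fun r hr => allB_imp descE7_ok r hr)

def fwE7 : ℕ → ℕ → ℤ := fwOf [[4, 4, 6, 8, 6, 4, 2], [4, 7, 8, 12, 9, 6, 3], [6, 8, 12, 16, 12, 8, 4], [8, 12, 16, 24, 18, 12, 6], [6, 9, 12, 18, 15, 10, 5], [4, 6, 8, 12, 10, 8, 4], [2, 3, 4, 6, 5, 4, 3]]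

set_option maxRecDepth 100000 in
theorem jE7_ok : chkJ FTabE7.fd 2 fwE7 = true := by decide +kernel

theorem jE7 : JFacts FTabE7.fd 2 fwE7 := JFacts.of_checks jE7_ok

/-! ### Type E8 -/

set_option maxRecDepth 100000 in
theorem descE8_ok : allB 240 (chkDesc FTabE8.fd) = true := by decide +kernel

theorem dE8 : DFacts FTabE8.fd := DFacts.of_checks (fun r hr => allB_imp descE8_ok r hr)

def fwE8 : ℕ → ℕ → ℤ := fwOf [[4, 5, 7, 10, 8, 6, 4, 2], [5, 8, 10, 15, 12, 9, 6, 3], [7, 10, 14, 20, 16, 12, 8, 4], [10, 15, 20, 30, 24, 18, 12, 6], [8, 12, 16, 24, 20, 15, 10, 5], [6, 9, 12, 18, 15, 12, 8, 4], [4, 6, 8, 12, 10, 8, 6, 3], [2, 3, 4, 6, 5, 4, 3, 2]]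

set_option maxRecDepth 100000 in
theorem jE8_ok : chkJ FTabE8.fd 1 fwE8 = true := by decide +kernel

theorem jE8 : JFacts FTabE8.fd 1 fwE8 := JFacts.of_checks jE8_ok

/-- All the table facts used for the parabolic subgroups. -/
theorem exists_pfacts (D : ChevalleyDatum)
    (hD : D ∈ [chevG2, chevB2, chevD4, chevF4, chevE6, chevE7, chevE8]) :
    ∃ (A : FData) (X : WD) (m : ℕ → ℕ → ℤ) (w w' : ℕ → ℤ) (N : ℕ) (ord rnk : ℕ → ℕ)
      (bz : ℕ → ℕ → ℤ) (c : ℤ) (fw : ℕ → ℕ → ℤ), CFacts A D X m w ∧ RFacts A X ∧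
        UFacts A w' N ord rnk bz ∧ 0 < A.n ∧ DFacts A ∧ JFacts A c fw := by
  simp only [List.mem_cons, List.not_mem_nil, or_false] at hD
  rcases hD with rfl | rfl | rfl | rfl | rfl | rfl | rfl
  · exact ⟨_, _, _, _, _, _, _, _, _, _, _, CAll.cfG2, ChainAll.rG2, UAll.uG2, by decide,
      dG2, jG2⟩
  · exact ⟨_, _, _, _, _, _, _, _, _, _, _, CAll.cfB2, ChainAll.rB2, UAll.uB2, by decide,
      dB2, jB2⟩
  · exact ⟨_, _, _, _, _, _, _, _, _, _, _, CAll.cfD4, ChainAll.rD4, UAll.uD4, by decide,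
      dD4, jD4⟩
  · exact ⟨_, _, _, _, _, _, _, _, _, _, _, CAll.cfF4, ChainAll.rF4, UAll.uF4, by decide,
      dF4, jF4⟩
  · exact ⟨_, _, _, _, _, _, _, _, _, _, _, CAll.cfE6, ChainAll.rE6, UAll.uE6, by decide,
      dE6, jE6⟩
  · exact ⟨_, _, _, _, _, _, _, _, _, _, _, CAll.cfE7, ChainAll.rE7, UAll.uE7, by decide,
      dE7, jE7⟩
  · exact ⟨_, _, _, _, _, _, _, _, _, _, _, CAll.cfE8, ChainAll.rE8, UAll.uE8, by decide,
      dE8, jE8⟩

end Cfsg.Agent.Lib.Helper18.ParAll
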