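import Mathlib
import Cfsg.Agent.Lib.Helper18.BNPairC

set_option autoImplicit false
set_option linter.unusedSimpArgs false

namespace Cfsg.Agent.Lib.Helper18.Perfect

open Cfsg Cfsg.Lie Cfsg.Agent.Lib.Helper18.Fast Cfsg.Agent.Lib.Helper18.Grade
  Cfsg.Agent.Lib.Helper18.Facts Cfsg.Agent.Lib.Helper18.AllRoots Cfsg.Agent.Lib.Helper18.Loop
  Cfsg.Agent.Lib.Helper18.Weyl Cfsg.Agent.Lib.Helper18.RootSys Cfsg.Agent.Lib.Helper18.Orbit
  Cfsg.Agent.Lib.Helper18.Units Cfsg.Agent.Lib.Helper18.Sub Cfsg.Agent.Lib.Helper18.Norm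
  Cfsg.Agent.Lib.Helper18.HAll Cfsg.Agent.Lib.Helper18.Torus Cfsg.Agent.Lib.Helper18.Pos
  Cfsg.Agent.Lib.Helper18.WGroup Cfsg.Agent.Lib.Helper18.BNChev Cfsg.Agent.Lib.Helper18.Mono
  Cfsg.Agent.Lib.Helper18.BNPairC Cfsg.Agent.Lib.Helper18.Poly2

/-- Witnesses that the root subgroups of the simple roots lie in the derived group: a commutator
identity with a single term (constant `±1`, or `±2` for the small types), or a root `s` with
`⟨p_i, s^∨⟩ = ±1` (small types). -/
structure QFacts (A : FData) (small : Bool) : Prop where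
  wit : ∀ i < A.rank,
    (∃ a b κ, (κ = 1 ∨ κ = -1 ∨ (small = true ∧ (κ = 2 ∨ κ = -2))) ∧ a < A.n ∧ b < A.n ∧
      chkComm A a b [(A.simple i, κ, 1, 1)] = true) ∨
    (small = true ∧ ∃ s < A.n, pairE A s (A.simple i) = 1 ∨ pairE A s (A.simple i) = -1)

/-- Check of a witness `(kind, a, b, κ)` for the simple root `i`. -/
def chkQ (A : FData) (small : Bool) (i : ℕ) (q : ℕ × ℕ × ℕ × ℤ) : Bool :=
  if q.1 = 0 then
    (q.2.2.2 == 1 || q.2.2.2 == -1 || (small && (q.2.2.2 == 2 || q.2.2.2 == -2))) &&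
      decide (q.2.1 < A.n) && decide (q.2.2.1 < A.n) &&
      chkComm A q.2.1 q.2.2.1 [(A.simple i, q.2.2.2, 1, 1)]
  else small && decide (q.2.1 < A.n) &&
    (pairK A q.2.1 (A.simple i) == 1 || pairK A q.2.1 (A.simple i) == -1)

theorem QFacts.of_checks {A : FData} {small : Bool} (qs : List (ℕ × ℕ × ℕ × ℤ))
    (h : ∀ i < A.rank, chkQ A small i (qs.getD i (0, 0, 0, 0)) = true) : QFacts A small := by
  constructor
  intro i hi
  have := h i hi
  unfold chkQ at this
  split_ifs at this with h0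
  · left
    simp only [Bool.and_eq_true, Bool.or_eq_true, beq_iff_eq, decide_eq_true_eq] at this
    obtain ⟨⟨⟨h1, h2⟩, h3⟩, h4⟩ := this
    refine ⟨_, _, _, ?_, h2, h3, h4⟩
    rcases h1 with (h1 | h1) | h1
    · exact Or.inl h1
    · exact Or.inr (Or.inl h1)
    · exact Or.inr (Or.inr h1)
  · right
    simp only [Bool.and_eq_true, Bool.or_eq_true, beq_iff_eq, decide_eq_true_eq] at this
    obtain ⟨⟨h1, h2⟩, h3⟩ := this
    rw [pairK_eq] at h3
    exact ⟨h1, _, h2, h3⟩

variable {A : FData} {D : ChevalleyDatum} {F : Type*} [Field F] {X : WD} {m : ℕ → ℕ → ℤ}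
  {w : ℕ → ℤ}

/-- Membership in the derived subgroup of the Chevalley group, for elements of `GL`. -/
def InC (D : ChevalleyDatum) (F : Type*) [Field F] (g : GL D.Idx F) : Prop :=
  ∃ h : g ∈ D.group F, (⟨g, h⟩ : ↥(D.group F)) ∈ commutator ↥(D.group F)

theorem InC.mul {g g' : GL D.Idx F} (h : InC D F g) (h' : InC D F g') : InC D F (g * g') := by
  obtain ⟨h1, h2⟩ := h
  obtain ⟨h1', h2'⟩ := h'
  exact ⟨Subgroup.mul_mem _ h1 h1', Subgroup.mul_mem _ h2 h2'⟩

theorem InC.inv {g : GL D.Idx F} (h : InC D F g) : InC D F g⁻¹ := by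
  obtain ⟨h1, h2⟩ := h
  exact ⟨Subgroup.inv_mem _ h1, Subgroup.inv_mem _ h2⟩

theorem InC.conj {g k : GL D.Idx F} (h : InC D F g) (hk : k ∈ D.group F) :
    InC D F (k * g * k⁻¹) := by
  obtain ⟨h1, h2⟩ := h
  refine ⟨Subgroup.mul_mem _ (Subgroup.mul_mem _ hk h1) (Subgroup.inv_mem _ hk), ?_⟩
  have hn : (commutator ↥(D.group F)).Normal := inferInstance
  exact hn.conj_mem _ h2 ⟨k, hk⟩

theorem InC.comm {g k : GL D.Idx F} (hg : g ∈ D.group F) (hk : k ∈ D.group F) :
    InC D F (g * k * g⁻¹ * k⁻¹) := by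
  refine ⟨Subgroup.mul_mem _ (Subgroup.mul_mem _ (Subgroup.mul_mem _ hg hk)
    (Subgroup.inv_mem _ hg)) (Subgroup.inv_mem _ hk), ?_⟩
  have := Subgroup.commutator_mem_commutator (Subgroup.mem_top (⟨g, hg⟩ : ↥(D.group F)))
    (Subgroup.mem_top (⟨k, hk⟩ : ↥(D.group F)))
  rw [commutator_def]
  exact this

theorem chi_hpar {s p : ℕ} {c : F} (hc : c ≠ 0) :
    chi A (fun i => c ^ A.cor s i) p = c ^ pairE A s p := by
  unfold chi chiN pairE
  rw [zpow_sum_aux hc]
  apply Finset.prod_congr rfl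
  intro i _
  rw [zpow_mul]

section

variable (hC : CFacts A D X m w)
  (hadd : ∀ r < D.nroots, ∀ t u : F, D.x F r t * D.x F r u = D.x F r (t + u))

include hC in
theorem xg_mem_group {r : ℕ} (hr : r < A.n) (t : F) : xg hC.af F r t ∈ D.group F := by
  rw [xg_eq hC.af (lt_nroots hC.af hr)]
  exact xU_mem_group hC.af _ _ _

include hC hadd in
/-- A torus element acting non-trivially on `X_p` puts `X_p` into the derived group. -/
theorem inC_of_torus {p : ℕ} (hp : p < A.n) {h : GL D.Idx F} (hh : h ∈ D.diagonalSubgroup F)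
    {a : F} (ha : a ≠ 1) (hconj : ∀ u : F, h * xg hC.af F p u * h⁻¹ = xg hC.af F p (a * u))
    (v : F) : InC D F (xg hC.af F p v) := by
  have hF := hC.af
  have ha' : a - 1 ≠ 0 := sub_ne_zero.mpr ha
  have hG : h ∈ D.group F := diagonalSubgroup_le hF F hh
  have key := InC.comm (F := F) hG (xg_mem_group hC hp (v / (a - 1)))
  rw [hconj, ← xg_neg hadd, ← xg_add hadd] at key
  have e : a * (v / (a - 1)) + -(v / (a - 1)) = v := by
    field_simp
    ring
  rwa [e] at key

include hC in
/-- A single-term commutator identity with a constant invertible in `F` puts `X_p` into the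
derived group. -/
theorem inC_of_comm {p a b : ℕ} {κ : ℤ} (hp : p < A.n) (ha : a < A.n) (hb : b < A.n)
    (hchk : chkComm A a b [(p, κ, 1, 1)] = true) (hκ : ((κ : ℤ) : F) ≠ 0) (v : F) :
    InC D F (xg hC.af F p v) := by
  have hF := hC.af
  have key := comm_of_chk (F := F) hF.agrees ha hb hchk (-1) (v / ((κ : ℤ) : F))
  have e1 : termProd D [(p, κ, 1, 1)] (-1 : F) (v / ((κ : ℤ) : F)) = D.x F p v := by
    simp only [termProd, List.map_cons, List.map_nil, List.prod_cons, List.prod_nil, mul_one,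
      pow_one, _root_.neg_neg]
    congr 1
    field_simp
  rw [e1] at key
  have e2 : xg hF F p v =
      (xg hF F b (v / ((κ : ℤ) : F)))⁻¹ * (xg hF F a (-1))⁻¹ *
        (xg hF F b (v / ((κ : ℤ) : F)))⁻¹⁻¹ * (xg hF F a (-1))⁻¹⁻¹ := by
    rw [inv_inv, inv_inv, mul_assoc, mul_assoc, eq_inv_mul_iff_mul_eq, eq_inv_mul_iff_mul_eq,
      ← mul_assoc]
    apply Units.ext
    rw [Units.val_mul, Units.val_mul, Units.val_mul, coe_xg hF (lt_nroots hF hp),
      coe_xg hF (lt_nroots hF ha), coe_xg hF (lt_nroots hF hb), key]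
  rw [e2]
  exact InC.comm (Subgroup.inv_mem _ (xg_mem_group hC hb _))
    (Subgroup.inv_mem _ (xg_mem_group hC ha _))

include hC hadd in
/-- The root subgroups of the simple roots lie in the derived group. -/
theorem inC_simple {small : Bool} (hQ : QFacts A small)
    (hs : small = true → ∃ c : F, c ≠ 0 ∧ c ≠ 1) {i : ℕ} (hi : i < A.rank) (v : F) :
    InC D F (xg hC.af F (A.simple i) v) := by
  have hF := hC.af
  have hp := hF.sfacts.simple_lt i hi
  have hp' := lt_nroots hF hp
  have torus : ∀ s < A.n, ∀ c : F, c ≠ 0 → c ^ pairE A s (A.simple i) ≠ 1 →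
      InC D F (xg hF F (A.simple i) v) := by
    intro s hs' c hc hne
    have hs'' := lt_nroots hF hs'
    have hconj : ∀ u : F, hU hF F s hs'' c * xg hF F (A.simple i) u * (hU hF F s hs'' c)⁻¹ =
        xg hF F (A.simple i) (c ^ pairE A s (A.simple i) * u) := by
      intro u
      have e : ((hU hF F s hs'' c : GL D.Idx F) : Matrix D.Idx D.Idx F) =
          tor D A (fun i => c ^ A.cor s i) := by
        rw [coe_hU, hMat_eq_tor hF hs'' hc]
      have := tor_conj_xU hF (fun i => zpow_ne_zero _ hc) e (A.simple i) hp' u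
      rw [chi_hpar hc] at this
      rw [xg_eq hF hp', xg_eq hF hp']
      exact this
    exact inC_of_torus hC hadd hp (hU_mem hF s hs'' hc) hne hconj v
  rcases hQ.wit i hi with ⟨a, b, κ, hκ, ha, hb, hchk⟩ | ⟨hsm, s, hs', hpair⟩
  · rcases hκ with hκ | hκ | ⟨hsm, hκ⟩
    · exact inC_of_comm hC hp ha hb hchk (by rw [hκ]; simp) v
    · exact inC_of_comm hC hp ha hb hchk (by rw [hκ]; simp) v
    · obtain ⟨c, hc0, hc1⟩ := hs hsm
      by_cases h2 : (2 : F) = 0
      · -- characteristic two: some square is not one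
        have hsq : c ^ (2 : ℤ) ≠ 1 := by
          intro h
          have h3 : (c - 1) * (c - 1) = 0 := by
            have : c ^ 2 = 1 := by exact_mod_cast h
            linear_combination this - (c - 1) * h2
          rcases mul_self_eq_zero.mp h3 with h4
          exact hc1 (sub_eq_zero.mp h4)
        have := torus (A.simple i) hp c hc0
        rw [(hF.sfacts.pair_self _ hp).1] at this
        exact this hsq
      · have hκ' : ((κ : ℤ) : F) ≠ 0 := by
          rcases hκ with hκ | hκ <;> rw [hκ] <;> simpa using h2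
        exact inC_of_comm hC hp ha hb hchk hκ' v
  · obtain ⟨c, hc0, hc1⟩ := hs hsm
    apply torus s hs' c hc0
    rcases hpair with h | h <;> rw [h]
    · simpa using hc1
    · rw [zpow_neg_one]
      intro h'
      exact hc1 (inv_eq_one.mp h')

include hC hadd in
/-- The Chevalley group is perfect. -/
theorem perfect {small : Bool} (hQ : QFacts A small)
    (hs : small = true → ∃ c : F, c ≠ 0 ∧ c ≠ 1) : commutator ↥(D.group F) = ⊤ := by
  have hF := hC.af
  obtain ⟨dep, stp, hO⟩ := hC.orb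
  have hall : ∀ r < A.n, ∀ v : F, InC D F (xg hF F r v) := by
    refine hO.induction hC.wf (P := fun r => ∀ v : F, InC D F (xg hF F r v)) ?_ ?_
    · exact fun i hi v => inC_simple hC hadd hQ hs hi v
    · intro i hi s hs' h v
      have h1 := h (((X.E i s : ℤ) : F) * v)
      have h2 := h1.conj (ng_mem_group hC hi)
      rw [ng_conj hF hC.wf hi hs', ← mul_assoc, sq_sign (hC.wf.sgn i hi s hs'), one_mul] at h2
      exact h2
  rw [eq_top_iff]
  rintro ⟨g, hg⟩ -
  have key : ∀ g ∈ D.group F, InC D F g := by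
    intro g hg
    unfold ChevalleyDatum.group at hg
    induction hg using Subgroup.closure_induction with
    | mem x hx =>
      obtain ⟨r, t, e⟩ := hx
      have : x = xg hF F r.val t := by
        apply Units.ext
        rw [e, coe_xg hF r.isLt, Vec.x_eq_xMat r.isLt]
      rw [this]
      exact hall r.val (lt_n hF r.isLt) t
    | one => exact ⟨Subgroup.one_mem _, Subgroup.one_mem _⟩
    | mul x y _ _ ihx ihy => exact ihx.mul ihy
    | inv x _ ih => exact ih.inv
  obtain ⟨_, h⟩ := key g hg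
  exact h

end

end Cfsg.Agent.Lib.Helper18.Perfect
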