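import Cfsg.Agent.Lib.Helper18.CAll
import Cfsg.Agent.Lib.Helper18.Perfect

set_option autoImplicit false

namespace Cfsg.Agent.Lib.Helper18.QAll

open Cfsg Cfsg.Lie Cfsg.Agent.Lib.Helper18.Fast Cfsg.Agent.Lib.Helper18.Facts
  Cfsg.Agent.Lib.Helper18.AllRoots Cfsg.Agent.Lib.Helper18.Weyl Cfsg.Agent.Lib.Helper18.Pos
  Cfsg.Agent.Lib.Helper18.RootSys Cfsg.Agent.Lib.Helper18.Orbit Cfsg.Agent.Lib.Helper18.BNPairC
  Cfsg.Agent.Lib.Helper18.Perfect Cfsg.Agent.Lib.Helper18.Loop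

def qsG2 : List (ℕ × ℕ × ℕ × ℤ) := [(1, 1, 0, 0), (0, 1, 11, -1)]

set_option maxRecDepth 100000 in
theorem qG2_ok : allB 2 (fun i => chkQ FTabG2.fd true i (qsG2.getD i (0, 0, 0, 0))) = true := by
  decide +kernel

theorem qG2 : QFacts FTabG2.fd true :=
  QFacts.of_checks qsG2 (fun i (hi : i < 2) => allB_imp qG2_ok i hi)

def qsB2 : List (ℕ × ℕ × ℕ × ℤ) := [(1, 0, 0, 0), (0, 2, 6, -2)]

set_option maxRecDepth 100000 in
theorem qB2_ok : allB 2 (fun i => chkQ FTabB2.fd true i (qsB2.getD i (0, 0, 0, 0))) = true := by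
  decide +kernel

theorem qB2 : QFacts FTabB2.fd true :=
  QFacts.of_checks qsB2 (fun i (hi : i < 2) => allB_imp qB2_ok i hi)

def qsD4 : List (ℕ × ℕ × ℕ × ℤ) := [(0, 6, 22, 1), (0, 1, 23, -1), (0, 3, 22, -1), (0, 2, 22, -1)]

set_option maxRecDepth 100000 in
theorem qD4_ok : allB 4 (fun i => chkQ FTabD4.fd false i (qsD4.getD i (0, 0, 0, 0))) = true := by
  decide +kernel

theorem qD4 : QFacts FTabD4.fd false :=
  QFacts.of_checks qsD4 (fun i (hi : i < 4) => allB_imp qD4_ok i hi)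

def qsF4 : List (ℕ × ℕ × ℕ × ℤ) := [(0, 7, 44, -1), (0, 8, 40, -1), (0, 2, 46, -1), (0, 1, 47, -1)]

set_option maxRecDepth 100000 in
theorem qF4_ok : allB 4 (fun i => chkQ FTabF4.fd false i (qsF4.getD i (0, 0, 0, 0))) = true := by
  decide +kernel

theorem qF4 : QFacts FTabF4.fd false :=
  QFacts.of_checks qsF4 (fun i (hi : i < 4) => allB_imp qF4_ok i hi)

def qsE6 : List (ℕ × ℕ × ℕ × ℤ) := [(0, 16, 66, 1), (0, 1, 71, -1), (0, 5, 69, -1), (0, 2, 70, -1), (0, 3, 69, -1), (0, 4, 68, -1)]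

set_option maxRecDepth 100000 in
theorem qE6_ok : allB 6 (fun i => chkQ FTabE6.fd false i (qsE6.getD i (0, 0, 0, 0))) = true := by
  decide +kernel

theorem qE6 : QFacts FTabE6.fd false :=
  QFacts.of_checks qsE6 (fun i (hi : i < 6) => allB_imp qE6_ok i hi)

def qsE7 : List (ℕ × ℕ × ℕ × ℤ) := [(0, 1, 125, -1), (0, 7, 122, -1), (0, 2, 124, -1), (0, 3, 123, -1), (0, 4, 122, -1), (0, 5, 121, -1), (0, 6, 120, -1)]

set_option maxRecDepth 100000 in
theorem qE7_ok : allB 7 (fun i => chkQ FTabE7.fd false i (qsE7.getD i (0, 0, 0, 0))) = true := by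
  decide +kernel

theorem qE7 : QFacts FTabE7.fd false :=
  QFacts.of_checks qsE7 (fun i (hi : i < 7) => allB_imp qE7_ok i hi)

def qsE8 : List (ℕ × ℕ × ℕ × ℤ) := [(0, 14, 233, -1), (0, 7, 234, -1), (0, 6, 234, -1), (0, 5, 235, -1), (0, 4, 236, -1), (0, 3, 237, -1), (0, 2, 238, -1), (0, 1, 239, -1)]

set_option maxRecDepth 100000 in
theorem qE8_ok : allB 8 (fun i => chkQ FTabE8.fd false i (qsE8.getD i (0, 0, 0, 0))) = true := by
  decide +kernel

theorem qE8 : QFacts FTabE8.fd false :=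
  QFacts.of_checks qsE8 (fun i (hi : i < 8) => allB_imp qE8_ok i hi)

/-- Each tabulated datum has the table facts for the `(B, N)`-pair and for perfectness; only
`G₂` and `B₂` need the field to have more than two elements. -/
theorem exists_qfacts (D : ChevalleyDatum)
    (hD : D ∈ [chevG2, chevB2, chevD4, chevF4, chevE6, chevE7, chevE8]) :
    ∃ (A : FData) (X : WD) (m : ℕ → ℕ → ℤ) (w : ℕ → ℤ) (small : Bool), CFacts A D X m w ∧
      QFacts A small ∧ (small = true → D = chevG2 ∨ D = chevB2) := by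
  simp only [List.mem_cons, List.not_mem_nil, or_false] at hD
  rcases hD with rfl | rfl | rfl | rfl | rfl | rfl | rfl
  · exact ⟨_, _, _, _, _, CAll.cfG2, qG2, fun _ => Or.inl rfl⟩
  · exact ⟨_, _, _, _, _, CAll.cfB2, qB2, fun _ => Or.inr rfl⟩
  · exact ⟨_, _, _, _, _, CAll.cfD4, qD4, fun h => absurd h (by decide)⟩
  · exact ⟨_, _, _, _, _, CAll.cfF4, qF4, fun h => absurd h (by decide)⟩
  · exact ⟨_, _, _, _, _, CAll.cfE6, qE6, fun h => absurd h (by decide)⟩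
  · exact ⟨_, _, _, _, _, CAll.cfE7, qE7, fun h => absurd h (by decide)⟩
  · exact ⟨_, _, _, _, _, CAll.cfE8, qE8, fun h => absurd h (by decide)⟩

end Cfsg.Agent.Lib.Helper18.QAll
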