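import Mathlib

/-!
Specification file for S2359 (centralisers of the cyclic subgroups of orders `(q-1)/2` and
`(q+1)/4` in the small Ree groups): exact statements (as `Prop`-valued definitions) of the
abstract pieces.  Each piece `X` is proved elsewhere as a theorem of type `X.{u}`.
-/

set_option autoImplicit false

namespace Cfsg.Agent.Lib.Helper18.R59Stmt

universe u

open Matrix

/-- The local structure at the pair `(a, t)`: `C(a) ∩ C(t)` is abelian of order `n` and the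
elements of square one in it are `1, t, t', t t'`. -/
def Loc {G : Type u} [Group G] (a t : G) (n : ℕ) : Prop :=
  (∀ x y : G, x * a = a * x → x * t = t * x → y * a = a * y → y * t = t * y → x * y = y * x) ∧
  Nat.card {x : G // x * a = a * x ∧ x * t = t * x} = n ∧
  ∃ t' : G, t' * t' = 1 ∧ t' ≠ 1 ∧ t' ≠ t ∧ t' * a = a * t' ∧ t' * t = t * t' ∧
    ∀ v : G, v * v = 1 → v * a = a * v → v * t = t * v → v = 1 ∨ v = t ∨ v = t' ∨ v = t * t'

/-- SLC: the centraliser in `SL₂(q)`, `q = 3^(2m+1)`, of an element of prime order `p ∤ 6(q-1)`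
is commutative of order `q + 1` (non-split torus). -/
def SLC : Prop := ∀ (K : Type u) [Field K] [Fintype K] (m : ℕ), Fintype.card K = 3 ^ (2 * m + 1) →
  ∀ (x : SpecialLinearGroup (Fin 2) K) (p : ℕ), p.Prime → p ≠ 2 → p ≠ 3 →
    ¬ p ∣ 3 ^ (2 * m + 1) - 1 → orderOf x = p →
    (∀ y z : SpecialLinearGroup (Fin 2) K, y * x = x * y → z * x = x * z → y * z = z * y) ∧
    Nat.card {y : SpecialLinearGroup (Fin 2) K // y * x = x * y} = 3 ^ (2 * m + 1) + 1

/-- SLI: the elements of that centraliser whose square is central form a cyclic group of order 4. -/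
def SLI : Prop := SLC.{u} →
  ∀ (K : Type u) [Field K] [Fintype K] (m : ℕ), Fintype.card K = 3 ^ (2 * m + 1) →
  ∀ (x : SpecialLinearGroup (Fin 2) K) (p : ℕ), p.Prime → p ≠ 2 → p ≠ 3 →
    ¬ p ∣ 3 ^ (2 * m + 1) - 1 → orderOf x = p →
    ∃ i₀ : SpecialLinearGroup (Fin 2) K, i₀ * x = x * i₀ ∧ i₀ * i₀ ≠ 1 ∧
      i₀ * i₀ ∈ Subgroup.center (SpecialLinearGroup (Fin 2) K) ∧
      ∀ y : SpecialLinearGroup (Fin 2) K, y * x = x * y →
        y * y ∈ Subgroup.center (SpecialLinearGroup (Fin 2) K) →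
        y = 1 ∨ y = i₀ ∨ y = i₀ * i₀ ∨ y = i₀ * i₀ * i₀

/-- R1ABS: a group `G` with an involution `a₀` whose centraliser is `⟨a₀⟩ × ψ(SL₂(q))`,
`ker ψ = Z(SL₂(q))`: the local structure at `(a, a₀)` for `a` of prime order `p ∤ 6(q-1)`
commuting with `a₀`. -/
def R1ABS : Prop := SLC.{u} → SLI.{u} →
  ∀ (K : Type u) [Field K] [Fintype K] (m : ℕ), Fintype.card K = 3 ^ (2 * m + 1) →
  ∀ (G : Type u) [Group G] (ψ : SpecialLinearGroup (Fin 2) K →* G) (a₀ : G),
    a₀ * a₀ = 1 → a₀ ∉ ψ.range → (∀ g, a₀ * ψ g = ψ g * a₀) →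
    (∀ c : G, a₀ * c = c * a₀ → c ∈ ψ.range ∨ a₀ * c ∈ ψ.range) →
    (∀ g, ψ g = 1 ↔ g ∈ Subgroup.center (SpecialLinearGroup (Fin 2) K)) →
    ∀ (a : G) (p : ℕ), p.Prime → p ≠ 2 → p ≠ 3 → ¬ p ∣ 3 ^ (2 * m + 1) - 1 → orderOf a = p →
      a * a₀ = a₀ * a → Loc a a₀ (3 ^ (2 * m + 1) + 1)

/-- TRANS: transport of the local structure by conjugation. -/
def TRANS : Prop := ∀ (G : Type u) [Group G] (a t g : G) (n : ℕ),
  Loc (g⁻¹ * a * g) t n → Loc a (g * t * g⁻¹) n

/-- ABS: the fusion argument.  If `C(a) ∩ C(v)` is abelian for every involution `v` of `C(a)`,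
the involutions of `C(a) ∩ C(t)` form a four-group `{1, t, t', t t'}`, and `C(a)` contains no
non-trivial 3-element, then `t` is central in `C(a)`. -/
def ABS : Prop := ∀ (G : Type u) [Group G] [Finite G] (a t t' : G),
  t * t = 1 → t ≠ 1 → t * a = a * t →
  t' * t' = 1 → t' ≠ 1 → t' ≠ t → t' * a = a * t' → t' * t = t * t' →
  (∀ v : G, v * v = 1 → v * a = a * v → v * t = t * v → v = 1 ∨ v = t ∨ v = t' ∨ v = t * t') →
  (∀ v : G, v * v = 1 → v ≠ 1 → v * a = a * v → ∀ x y : G, x * a = a * x → x * v = v * x →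
    y * a = a * y → y * v = v * y → x * y = y * x) →
  (∀ x : G, x * a = a * x → (∃ k : ℕ, x ^ 3 ^ k = 1) → x = 1) →
  ∀ x : G, x * a = a * x → x * t = t * x

/-- FIN: the centraliser of `a` is abelian of order `n`. -/
def FIN : Prop := ABS.{u} → ∀ (G : Type u) [Group G] [Finite G] (a : G) (n : ℕ),
  (∃ t : G, t * t = 1 ∧ t ≠ 1 ∧ t * a = a * t) →
  (∀ t : G, t * t = 1 → t ≠ 1 → t * a = a * t → Loc a t n) →
  (∀ x : G, x * a = a * x → (∃ k : ℕ, x ^ 3 ^ k = 1) → x = 1) →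
  (∀ x y : G, x * a = a * x → y * a = a * y → x * y = y * x) ∧
    Nat.card {x : G // x * a = a * x} = n

/-- SYLC: an element of prime order `p` is conjugate into any subgroup containing a Sylow
`p`-subgroup. -/
def SYLC : Prop := ∀ (G : Type u) [Group G] [Finite G] (X : Subgroup G) (p : ℕ), p.Prime →
  (Nat.card X).factorization p = (Nat.card G).factorization p →
  ∀ a : G, orderOf a = p → ∃ g : G, g * a * g⁻¹ ∈ X

/-- CLOSE: if `C(a)` is abelian and `a ∈ A ≤ H` with `H` commutative, then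
`C(A) = C(H) = C(a)`. -/
def CLOSE : Prop := ∀ (G : Type u) [Group G] (H A : Subgroup G) (a : G),
  (∀ x ∈ H, ∀ y ∈ H, x * y = y * x) → A ≤ H → a ∈ A →
  (∀ x y : G, x * a = a * x → y * a = a * y → x * y = y * x) →
  Subgroup.centralizer (A : Set G) = Subgroup.centralizer ({a} : Set G) ∧
  Subgroup.centralizer (H : Set G) = Subgroup.centralizer ({a} : Set G)

end Cfsg.Agent.Lib.Helper18.R59Stmt
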