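import Mathlib

/-!
Specification file (part 2) for S2359: three more abstract pieces.
-/

set_option autoImplicit false

namespace Cfsg.Agent.Lib.Helper18.R59Stmt2

universe u

/-- NO3: if the Sylow 3-subgroups are TI, the normaliser of one of them lies in `B`, and `B` has
no element of order `p`, then an element of prime order `p` commutes with no non-trivial
3-element. -/
def NO3 : Prop := ∀ (G : Type u) [Group G] [Finite G] (P₀ : Sylow 3 G) (B : Subgroup G) (p : ℕ),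
  p.Prime →
  (∀ P Q : Sylow 3 G, P ≠ Q → (P : Subgroup G) ⊓ (Q : Subgroup G) = ⊥) →
  (∀ g : G, (∀ u ∈ (P₀ : Subgroup G), g * u * g⁻¹ ∈ (P₀ : Subgroup G)) → g ∈ B) →
  (∀ b ∈ B, b ^ p = 1 → b = 1) →
  ∀ a : G, orderOf a = p → ∀ x : G, x * a = a * x → (∃ k : ℕ, x ^ 3 ^ k = 1) → x = 1

/-- AR1: arithmetic for the primes dividing `(q - 1)/2`, `q = 3^(2m+1)`. -/
def AR1 : Prop := ∀ (m p : ℕ), p.Prime → p ∣ (3 ^ (2 * m + 1) - 1) / 2 →
  p ≠ 2 ∧ (3 ^ (2 * m + 1) - 1).factorization p =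
    ((3 ^ (2 * m + 1)) ^ 3 * (3 ^ (2 * m + 1) - 1) * ((3 ^ (2 * m + 1)) ^ 3 + 1)).factorization p

/-- AR2: arithmetic for the primes dividing `(q + 1)/4`, `q = 3^(2m+1)`. -/
def AR2 : Prop := ∀ (m p : ℕ), p.Prime → p ∣ (3 ^ (2 * m + 1) + 1) / 4 →
  p ≠ 2 ∧ p ≠ 3 ∧ ¬ p ∣ 3 ^ (2 * m + 1) - 1 ∧
  (3 ^ (2 * m + 1) * ((3 ^ (2 * m + 1)) ^ 2 - 1)).factorization p =
    ((3 ^ (2 * m + 1)) ^ 3 * (3 ^ (2 * m + 1) - 1) * ((3 ^ (2 * m + 1)) ^ 3 + 1)).factorization p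

end Cfsg.Agent.Lib.Helper18.R59Stmt2
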