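import Mathlib
import Cfsg.Agent.Lib.Helper18.UOrd

set_option autoImplicit false
set_option linter.unusedSimpArgs false
set_option linter.unusedSectionVars false
set_option linter.unusedVariables false

/-!
# Ordered normal forms in the unipotent subgroup `U`
-/

namespace Cfsg.Agent.Lib.Helper18.UNF

open Cfsg Cfsg.Lie Cfsg.Agent.Lib.Helper18.Fast Cfsg.Agent.Lib.Helper18.Grade
  Cfsg.Agent.Lib.Helper18.Facts Cfsg.Agent.Lib.Helper18.AllRoots Cfsg.Agent.Lib.Helper18.Loop
  Cfsg.Agent.Lib.Helper18.Weyl Cfsg.Agent.Lib.Helper18.RootSys Cfsg.Agent.Lib.Helper18.Orbit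
  Cfsg.Agent.Lib.Helper18.Units Cfsg.Agent.Lib.Helper18.Sub Cfsg.Agent.Lib.Helper18.Norm
  Cfsg.Agent.Lib.Helper18.HAll Cfsg.Agent.Lib.Helper18.Torus Cfsg.Agent.Lib.Helper18.Pos
  Cfsg.Agent.Lib.Helper18.WGroup Cfsg.Agent.Lib.Helper18.BNChev Cfsg.Agent.Lib.Helper18.Mono
  Cfsg.Agent.Lib.Helper18.BNPairC Cfsg.Agent.Lib.Helper18.Tri Cfsg.Agent.Lib.Helper18.Solv
  Cfsg.Agent.Lib.Helper18.Vec Cfsg.Agent.Lib.Helper18.XMat Cfsg.Agent.Lib.Helper18.Core
  Cfsg.Agent.Lib.Helper18.UOrd

variable {A : FData} {D : ChevalleyDatum} {F : Type*} [Field F] {X : WD} {m : ℕ → ℕ → ℤ}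
  {w : ℕ → ℤ} {N : ℕ} {ord rnk : ℕ → ℕ} {bz : ℕ → ℕ → ℤ}

/-- The ordered product of `j` root elements starting at position `k` of the ordering. -/
noncomputable def tailP (hF : AFacts A D) (F : Type*) [Field F] (ord : ℕ → ℕ) (c : ℕ → F) :
    ℕ → ℕ → GL D.Idx F
  | _, 0 => 1
  | k, j + 1 => xg hF F (ord k) (c k) * tailP hF F ord c (k + 1) j

theorem tailP_succ (hF : AFacts A D) (c : ℕ → F) (k j : ℕ) :
    tailP hF F ord c k (j + 1) = xg hF F (ord k) (c k) * tailP hF F ord c (k + 1) j := rfl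

theorem tailP_zero (hF : AFacts A D) (c : ℕ → F) (k : ℕ) : tailP hF F ord c k 0 = 1 := rfl

theorem tailP_congr (hF : AFacts A D) {c c' : ℕ → F} :
    ∀ j k, (∀ i, k ≤ i → c i = c' i) → tailP hF F ord c k j = tailP hF F ord c' k j := by
  intro j
  induction j with
  | zero => intro k _; rfl
  | succ j ih =>
    intro k h
    rw [tailP_succ, tailP_succ, h k le_rfl, ih (k + 1) (fun i hi => h i (by omega))]

theorem tailP_mem (hF : AFacts A D) (c : ℕ → F) :
    ∀ j k, k + j ≤ N → tailP hF F ord c k j ∈ K hF F N ord k := by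
  intro j
  induction j with
  | zero => intro k _; exact Subgroup.one_mem _
  | succ j ih =>
    intro k h
    rw [tailP_succ]
    exact Subgroup.mul_mem _ (Subgroup.subset_closure ⟨k, le_rfl, by omega, c k, rfl⟩)
      (K_anti hF k (ih (k + 1) (by omega)))

section

variable (hC : CFacts A D X m w)
  (hadd : ∀ r < D.nroots, ∀ t u : F, D.x F r t * D.x F r u = D.x F r (t + u))

include hC hadd in
/-- Uniqueness of the ordered normal form. -/
theorem tailP_inj {w' : ℕ → ℤ} (hU : UFacts A w' N ord rnk bz) (c c' : ℕ → F) :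
    ∀ j k, k + j = N → tailP hC.af F ord c k j = tailP hC.af F ord c' k j →
      ∀ i, k ≤ i → i < N → c i = c' i := by
  intro j
  induction j with
  | zero => intro k hk _ i hi hiN; omega
  | succ j ih =>
    intro k hk e i hi hiN
    have hkN : k < N := by omega
    rw [tailP_succ, tailP_succ] at e
    have m1 := tailP_mem (N := N) (ord := ord) hC.af c j (k + 1) (by omega)
    have m2 := tailP_mem (N := N) (ord := ord) hC.af c' j (k + 1) (by omega)
    have e2 : xg hC.af F (ord k) (c k - c' k) =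
        tailP hC.af F ord c' (k + 1) j * (tailP hC.af F ord c (k + 1) j)⁻¹ := by
      rw [sub_eq_add_neg, add_comm, xg_add hadd, xg_neg hadd]
      rw [inv_mul_eq_iff_eq_mul, ← mul_assoc, ← e]
      group
    have h3 : xg hC.af F (ord k) (c k - c' k) ∈ K hC.af F N ord (k + 1) := by
      rw [e2]
      exact Subgroup.mul_mem _ m2 (Subgroup.inv_mem _ m1)
    have h4 := K_sep hC hU hkN h3
    have h5 : c k = c' k := sub_eq_zero.mp h4
    rw [h5] at e
    have h6 := mul_left_cancel e
    rcases Nat.eq_or_lt_of_le hi with rfl | hlt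
    · exact h5
    · exact ih (k + 1) (by omega) h6 i hlt hiN

include hC hadd in
/-- Existence of the ordered normal form. -/
theorem exists_tailP {w' : ℕ → ℤ} (hU : UFacts A w' N ord rnk bz) :
    ∀ j k, k + j = N → ∀ g ∈ K hC.af F N ord k, ∃ c : ℕ → F, g = tailP hC.af F ord c k j := by
  intro j
  induction j with
  | zero =>
    intro k hk g hg
    have : k = N := by omega
    subst this
    rw [K_top] at hg
    exact ⟨fun _ => 0, by rw [Subgroup.mem_bot.mp hg]; rfl⟩
  | succ j ih =>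
    intro k hk g hg
    obtain ⟨t, g', hg', rfl⟩ := K_decomp hC hadd hU (by omega) hg
    obtain ⟨c, rfl⟩ := ih (k + 1) (by omega) g' hg'
    refine ⟨Function.update c k t, ?_⟩
    rw [tailP_succ, Function.update_self]
    congr 1
    apply tailP_congr
    intro i hi
    rw [Function.update_of_ne (by omega)]

end

end Cfsg.Agent.Lib.Helper18.UNF
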