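import Mathlib
import Cfsg.Agent.Lib.Helper18.CAll
import Cfsg.Agent.Lib.Helper18.ChainAll
import Cfsg.Agent.Lib.Helper18.UAll
import Cfsg.Agent.Lib.Helper18.LAll
import Cfsg.Agent.Lib.Helper18.UNF
import Cfsg.Agent.Lib.Helper19.TwEngine
import Cfsg.Agent.Lib.Helper36.ChevTabG2
import Cfsg.Agent.S1023
import Cfsg.Agent.S1024

set_option autoImplicit false
set_option linter.unusedSimpArgs false
set_option linter.unusedSectionVars false
set_option linter.unusedVariables false

/-!
# Root elements of `G₂` in characteristic 3: the relations used for the Ree groups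
-/

namespace Cfsg.Agent.Lib.Helper18.Ree1

open Cfsg Cfsg.Lie Cfsg.Agent.Lib.Helper18 Cfsg.Agent.Lib.Helper18.Fast
  Cfsg.Agent.Lib.Helper18.Facts Cfsg.Agent.Lib.Helper18.WGroup Cfsg.Agent.Lib.Helper18.BNPairC
  Cfsg.Agent.Lib.Helper18.UOrd Cfsg.Agent.Lib.Helper18.UNF Cfsg.Agent.Lib.Helper18.Units
  Cfsg.Agent.Lib.Helper18.Sub Cfsg.Agent.Lib.Helper18.Core
  Cfsg.Agent.Lib.Helper36 Cfsg.Agent.Lib.Helper36.ChevEngine Cfsg.Agent.Lib.Helper36.ChevSound
  Cfsg.Agent.Lib.Helper19.TwEngine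

variable {K : Type*} [Field K]

theorem hD : Cfsg.Lie.chevG2 ∈ [Cfsg.Lie.chevG2, Cfsg.Lie.chevB2, Cfsg.Lie.chevD4,
    Cfsg.Lie.chevF4, Cfsg.Lie.chevE6, Cfsg.Lie.chevE7, Cfsg.Lie.chevE8] := by simp

theorem haddG : ∀ r < chevG2.nroots, ∀ t u : K,
    chevG2.x K r t * chevG2.x K r u = chevG2.x K r (t + u) :=
  fun r hr t u => Cfsg.Agent.S1023.result _ hD r hr t u

theorem hinjG : ∀ r < chevG2.nroots, ∀ t : K, chevG2.x K r t = 1 → t = 0 :=
  fun r hr t h => (Cfsg.Agent.S1024.result _ hD r hr t).mp h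

/-- The root element `x_r(t)` of `G₂(K)`. -/
noncomputable abbrev X (K : Type*) [Field K] (r : ℕ) (t : K) : GL chevG2.Idx K :=
  xg CAll.cfG2.af K r t

theorem coe_X (r : ℕ) (t : K) : ((X K r t : GL chevG2.Idx K) : Matrix _ _ K) = chevG2.x K r t := by
  by_cases hr : r < chevG2.nroots
  · exact coe_xg CAll.cfG2.af hr t
  · unfold X xg ChevalleyDatum.x
    rw [dif_neg hr, dif_neg hr]
    rfl

theorem X_add (r : ℕ) (t u : K) : X K r (t + u) = X K r t * X K r u := xg_add haddG _ r t u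

theorem X_zero (r : ℕ) : X K r (0 : K) = 1 := xg_zero haddG _ r

theorem X_neg (r : ℕ) (t : K) : X K r (-t) = (X K r t)⁻¹ := xg_neg haddG _ r t

theorem X_mem (r : ℕ) (t : K) : X K r t ∈ chevG2.group K := xg_mem_group' CAll.cfG2 r t

/-- The product of the root elements along a word. -/
noncomputable def wg (K : Type*) [Field K] (w : List (ℕ × K)) : GL chevG2.Idx K :=
  (w.map fun p => X K p.1 p.2).prod

theorem wg_nil : wg K [] = 1 := rfl

theorem wg_cons (p : ℕ × K) (w : List (ℕ × K)) : wg K (p :: w) = X K p.1 p.2 * wg K w := by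
  simp [wg]

theorem wg_append (w w' : List (ℕ × K)) : wg K (w ++ w') = wg K w * wg K w' := by
  simp [wg]

theorem coe_wg (w : List (ℕ × K)) :
    ((wg K w : GL chevG2.Idx K) : Matrix _ _ K) = chevG2.wordMat K w := by
  induction w with
  | nil => simp [wg, ChevalleyDatum.wordMat]
  | cons p w ih =>
    rw [wg_cons, Units.val_mul, ih, coe_X]
    simp [ChevalleyDatum.wordMat]

theorem wg_mem (w : List (ℕ × K)) : wg K w ∈ chevG2.group K := by
  induction w with
  | nil => exact Subgroup.one_mem _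
  | cons p w ih =>
    rw [wg_cons]
    exact Subgroup.mul_mem _ (X_mem _ _) ih

theorem eq_wg {g : GL chevG2.Idx K} {w : List (ℕ × K)}
    (h : (g : Matrix _ _ K) = chevG2.wordMat K w) : g = wg K w :=
  Units.ext (by rw [h, coe_wg])

section char3

variable [CharP K 3]

/-- Identities between words checked on the tables, in characteristic 3. -/
theorem rel_of_chk (L R : SWord)
    (h : checkRelP 3 ChevTabG2.tab chevG2.rank chevG2.nroots L R = true) (t u v : K) :
    wg K (evalWord t u v L) = wg K (evalWord t u v R) := by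
  apply Units.ext
  rw [coe_wg, coe_wg]
  exact checkRelP_sound 3 (CharP.cast_eq_zero K 3) chevG2 ChevTabG2.tab ChevTabG2.tok L R h t u v

/-- the monomial `t` -/
def mt : Param := [⟨1, 1, 0, 0⟩]
/-- the monomial `u` -/
def mu : Param := [⟨1, 0, 1, 0⟩]

theorem ev_mt (t u v : K) : evalParam t u v mt = t := by simp [mt, evalParam, monoEval]
theorem ev_mu (t u v : K) : evalParam t u v mu = u := by simp [mu, evalParam, monoEval]

set_option maxRecDepth 100000 in
theorem chk_ab : checkRelP 3 ChevTabG2.tab chevG2.rank chevG2.nroots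
    [(6, mt), (7, mu)]
    [(7, mu), (6, mt), (8, [⟨1, 1, 1, 0⟩]), (9, [⟨1, 1, 2, 0⟩]), (10, [⟨-1, 1, 3, 0⟩]),
      (11, [⟨-1, 2, 3, 0⟩])] = true := by decide +kernel

/-- The commutator relation of the fundamental root elements in characteristic 3. -/
theorem rel_ab (B A : K) : X K 6 B * X K 7 A =
    X K 7 A * X K 6 B * (X K 8 (B * A) * X K 9 (B * A ^ 2) * X K 10 (-(B * A ^ 3)) *
      X K 11 (-(B ^ 2 * A ^ 3))) := by
  have := rel_of_chk _ _ chk_ab B A (0 : K)
  simp only [evalWord, List.map_cons, List.map_nil, wg, List.prod_cons, List.prod_nil, mul_one,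
    ev_mt, ev_mu] at this
  simp only [evalParam, monoEval] at this
  simpa [mul_assoc] using this


set_option maxRecDepth 100000 in
theorem chk_abn : checkRelP 3 ChevTabG2.tab chevG2.rank chevG2.nroots
    [(5, mt), (4, mu)]
    [(4, mu), (5, mt), (3, [⟨-1, 1, 1, 0⟩]), (2, [⟨1, 1, 2, 0⟩]), (1, [⟨1, 1, 3, 0⟩]),
      (0, [⟨-1, 2, 3, 0⟩])] = true := by decide +kernel

/-- The commutator relation of the negative fundamental root elements in characteristic 3. -/
theorem rel_abn (B A : K) : X K 5 B * X K 4 A =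
    X K 4 A * X K 5 B * (X K 3 (-(B * A)) * X K 2 (B * A ^ 2) * X K 1 (B * A ^ 3) *
      X K 0 (-(B ^ 2 * A ^ 3))) := by
  have := rel_of_chk _ _ chk_abn B A (0 : K)
  simp only [evalWord, List.map_cons, List.map_nil, wg, List.prod_cons, List.prod_nil, mul_one,
    ev_mt, ev_mu] at this
  simp only [evalParam, monoEval] at this
  simpa [mul_assoc] using this

/-- Pairs of commuting root subgroups. -/
def commPairs : List (ℕ × ℕ) :=
  [(8, 9), (8, 10), (8, 11), (9, 10), (9, 11), (10, 11), (3, 2), (3, 1), (3, 0), (2, 1), (2, 0),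
    (1, 0), (10, 3), (1, 8)]

set_option maxRecDepth 100000 in
theorem comm_ok : commPairs.all (fun p => checkRelP 3 ChevTabG2.tab chevG2.rank chevG2.nroots
    [(p.1, mt), (p.2, mu)] [(p.2, mu), (p.1, mt)]) = true := by decide +kernel

theorem comm_X {r s : ℕ} (h : (r, s) ∈ commPairs) (t u : K) : Commute (X K r t) (X K s u) := by
  have h1 := List.all_eq_true.mp comm_ok (r, s) h
  have := rel_of_chk _ _ h1 t u (0 : K)
  simp only [evalWord, List.map_cons, List.map_nil, wg, List.prod_cons, List.prod_nil, mul_one,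
    ev_mt, ev_mu] at this
  exact this

theorem four_mul {G : Type*} [Group G] {a b c d a' b' c' d' : G} (h1 : Commute b a')
    (h2 : Commute c a') (h3 : Commute d a') (h4 : Commute c b') (h5 : Commute d b')
    (h6 : Commute d c') :
    a * b * c * d * (a' * b' * c' * d') = (a * a') * (b * b') * (c * c') * (d * d') := by
  simp only [mul_assoc]
  rw [h3.left_comm, h2.left_comm, h1.left_comm, h5.left_comm, h4.left_comm, h6.left_comm]

/-- A product of four root elements of pairwise commuting root subgroups. -/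
noncomputable def E4 (K : Type*) [Field K] (i j k l : ℕ) (p q r s : K) : GL chevG2.Idx K :=
  X K i p * X K j q * X K k r * X K l s

theorem E4_mul {i j k l : ℕ} (h1 : (i, j) ∈ commPairs) (h2 : (i, k) ∈ commPairs)
    (h3 : (i, l) ∈ commPairs) (h4 : (j, k) ∈ commPairs) (h5 : (j, l) ∈ commPairs)
    (h6 : (k, l) ∈ commPairs) (p q r s p' q' r' s' : K) :
    E4 K i j k l p q r s * E4 K i j k l p' q' r' s' =
      E4 K i j k l (p + p') (q + q') (r + r') (s + s') := by
  unfold E4
  rw [four_mul (comm_X h1 p' q).symm (comm_X h2 p' r).symm (comm_X h3 p' s).symm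
    (comm_X h4 q' r).symm (comm_X h5 q' s).symm (comm_X h6 r' s).symm,
    ← X_add, ← X_add, ← X_add, ← X_add]

theorem E4_zero (i j k l : ℕ) : E4 K i j k l (0 : K) 0 0 0 = 1 := by
  unfold E4
  rw [X_zero, X_zero, X_zero, X_zero]
  simp

theorem E4_inv {i j k l : ℕ} (h1 : (i, j) ∈ commPairs) (h2 : (i, k) ∈ commPairs)
    (h3 : (i, l) ∈ commPairs) (h4 : (j, k) ∈ commPairs) (h5 : (j, l) ∈ commPairs)
    (h6 : (k, l) ∈ commPairs) (p q r s : K) :
    (E4 K i j k l p q r s)⁻¹ = E4 K i j k l (-p) (-q) (-r) (-s) := by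
  apply inv_eq_of_mul_eq_one_right
  rw [E4_mul h1 h2 h3 h4 h5 h6]
  simp [E4_zero]

/-- `x_{a+b}(p) x_{2a+b}(q) x_{3a+b}(r) x_{3a+2b}(s)` -/
noncomputable abbrev e4 (p q r s : K) : GL chevG2.Idx K := E4 K 8 9 10 11 p q r s

/-- `x_{-a-b}(p) x_{-2a-b}(q) x_{-3a-b}(r) x_{-3a-2b}(s)` -/
noncomputable abbrev e4n (p q r s : K) : GL chevG2.Idx K := E4 K 3 2 1 0 p q r s

theorem e4_mul (p q r s p' q' r' s' : K) :
    e4 p q r s * e4 p' q' r' s' = e4 (p + p') (q + q') (r + r') (s + s') :=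
  E4_mul (by decide) (by decide) (by decide) (by decide) (by decide) (by decide) _ _ _ _ _ _ _ _

theorem e4n_mul (p q r s p' q' r' s' : K) :
    e4n p q r s * e4n p' q' r' s' = e4n (p + p') (q + q') (r + r') (s + s') :=
  E4_mul (by decide) (by decide) (by decide) (by decide) (by decide) (by decide) _ _ _ _ _ _ _ _

theorem e4_inv (p q r s : K) : (e4 p q r s)⁻¹ = e4 (-p) (-q) (-r) (-s) :=
  E4_inv (by decide) (by decide) (by decide) (by decide) (by decide) (by decide) _ _ _ _

theorem e4n_inv (p q r s : K) : (e4n p q r s)⁻¹ = e4n (-p) (-q) (-r) (-s) :=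
  E4_inv (by decide) (by decide) (by decide) (by decide) (by decide) (by decide) _ _ _ _

/-- The factors of `e4` in the order obtained from the twisting endomorphism. -/
theorem e4_perm (p q r s : K) : X K 10 r * X K 11 s * X K 8 p * X K 9 q = e4 p q r s := by
  have c1 : Commute (X K 10 r * X K 11 s) (X K 8 p * X K 9 q) :=
    (((comm_X (by decide) p r).symm.mul_right (comm_X (by decide) q r).symm)).mul_left
      ((comm_X (by decide) p s).symm.mul_right (comm_X (by decide) q s).symm)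
  rw [mul_assoc (X K 10 r * X K 11 s), c1.eq]
  simp [E4, mul_assoc]

theorem e4n_perm (p q r s : K) : X K 1 r * X K 0 s * X K 3 p * X K 2 q = e4n p q r s := by
  have c1 : Commute (X K 1 r * X K 0 s) (X K 3 p * X K 2 q) :=
    (((comm_X (by decide) p r).symm.mul_right (comm_X (by decide) q r).symm)).mul_left
      ((comm_X (by decide) p s).symm.mul_right (comm_X (by decide) q s).symm)
  rw [mul_assoc (X K 1 r * X K 0 s), c1.eq]
  simp [E4, mul_assoc]

/-- `x_a(A) x_b(B) · (higher terms)` -/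
noncomputable def nf (A B p q r s : K) : GL chevG2.Idx K := X K 7 A * X K 6 B * e4 p q r s

/-- `x_b(B) x_a(A) · (higher terms)` -/
noncomputable def nf' (B A p q r s : K) : GL chevG2.Idx K := X K 6 B * X K 7 A * e4 p q r s

/-- `x_{-a}(A) x_{-b}(B) · (lower terms)` -/
noncomputable def nfn (A B p q r s : K) : GL chevG2.Idx K := X K 4 A * X K 5 B * e4n p q r s

/-- `x_{-b}(B) x_{-a}(A) · (lower terms)` -/
noncomputable def nfn' (B A p q r s : K) : GL chevG2.Idx K := X K 5 B * X K 4 A * e4n p q r s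

theorem swap_ab (A B : K) : X K 7 A * X K 6 B =
    X K 6 B * X K 7 A * e4 (-(B * A)) (-(B * A ^ 2)) (B * A ^ 3) (B ^ 2 * A ^ 3) := by
  have h := rel_ab B A
  have h2 : X K 6 B * X K 7 A = X K 7 A * X K 6 B *
      e4 (B * A) (B * A ^ 2) (-(B * A ^ 3)) (-(B ^ 2 * A ^ 3)) := h
  rw [h2, mul_assoc (X K 7 A * X K 6 B), e4_mul]
  simp [E4_zero]

theorem swap_abn (A B : K) : X K 4 A * X K 5 B =
    X K 5 B * X K 4 A * e4n (B * A) (-(B * A ^ 2)) (-(B * A ^ 3)) (B ^ 2 * A ^ 3) := by
  have h := rel_abn B A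
  have h2 : X K 5 B * X K 4 A = X K 4 A * X K 5 B *
      e4n (-(B * A)) (B * A ^ 2) (B * A ^ 3) (-(B ^ 2 * A ^ 3)) := h
  rw [h2, mul_assoc (X K 4 A * X K 5 B), e4n_mul]
  simp [E4_zero]

theorem nf_eq_nf' (A B p q r s : K) : nf A B p q r s =
    nf' B A (p - B * A) (q - B * A ^ 2) (r + B * A ^ 3) (s + B ^ 2 * A ^ 3) := by
  unfold nf nf'
  rw [swap_ab, mul_assoc (X K 6 B * X K 7 A), e4_mul]
  congr 2 <;> ring

theorem nfn_eq_nfn' (A B p q r s : K) : nfn A B p q r s =
    nfn' B A (p + B * A) (q - B * A ^ 2) (r - B * A ^ 3) (s + B ^ 2 * A ^ 3) := by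
  unfold nfn nfn'
  rw [swap_abn, mul_assoc (X K 5 B * X K 4 A), e4n_mul]
  congr 2 <;> ring

end char3

end Cfsg.Agent.Lib.Helper18.Ree1
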