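import Mathlib
import Cfsg.Agent.Lib.Helper18.Ree1

set_option autoImplicit false
set_option linter.unusedSimpArgs false
set_option linter.unusedSectionVars false
set_option linter.unusedVariables false

/-!
# The twisting endomorphism of `G₂` in characteristic 3 and its fixed points in `U`
-/

namespace Cfsg.Agent.Lib.Helper18.Ree2

open Cfsg Cfsg.Lie Cfsg.Agent.Lib.Helper18 Cfsg.Agent.Lib.Helper18.Fast
  Cfsg.Agent.Lib.Helper18.Facts Cfsg.Agent.Lib.Helper18.WGroup Cfsg.Agent.Lib.Helper18.BNPairC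
  Cfsg.Agent.Lib.Helper18.UOrd Cfsg.Agent.Lib.Helper18.UNF Cfsg.Agent.Lib.Helper18.Units
  Cfsg.Agent.Lib.Helper18.Sub Cfsg.Agent.Lib.Helper18.Core Cfsg.Agent.Lib.Helper18.Ree1

variable {K : Type*} [Field K]

/-- The permutation of the roots induced by the graph automorphism. -/
def pi (r : ℕ) : ℕ := [2, 3, 0, 1, 5, 4, 7, 6, 10, 11, 8, 9].getD r 0

/-- The twist of the parameter: `t ↦ φ(t)^3` on short roots, `t ↦ φ(t)` on long roots. -/
def tw (φ : K →+* K) (r : ℕ) (t : K) : K := if r ∈ [2, 3, 4, 7, 8, 9] then φ t ^ 3 else φ t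

/-- A twisting endomorphism of `G₂(K)`: multiplicative on the Chevalley group, with the action
`x_r(t) ↦ x_{π r}(φ(t)^{λ r})` on the root elements. -/
structure Sig (K : Type*) [Field K] (φ : K →+* K) where
  s : GL chevG2.Idx K → GL chevG2.Idx K
  mul : ∀ g ∈ chevG2.group K, ∀ g' ∈ chevG2.group K, s (g * g') = s g * s g'
  x : ∀ r < 12, ∀ t : K, s (X K r t) = X K (pi r) (tw φ r t)

namespace Sig

variable {φ : K →+* K} (S : Sig K φ)

theorem one : S.s 1 = 1 := by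
  have h := S.mul 1 (Subgroup.one_mem _) 1 (Subgroup.one_mem _)
  rw [mul_one] at h
  exact (mul_eq_left).mp h.symm

theorem inv {g : GL chevG2.Idx K} (hg : g ∈ chevG2.group K) : S.s g⁻¹ = (S.s g)⁻¹ := by
  have h := S.mul g⁻¹ (Subgroup.inv_mem _ hg) g hg
  rw [inv_mul_cancel, S.one] at h
  exact eq_inv_of_mul_eq_one_left h.symm

/-- The twisted word. -/
def twW (φ : K →+* K) (w : List (ℕ × K)) : List (ℕ × K) := w.map fun p => (pi p.1, tw φ p.1 p.2)

theorem wg_word (w : List (ℕ × K)) (hw : ∀ p ∈ w, p.1 < 12) :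
    S.s (wg K w) = wg K (twW φ w) := by
  induction w with
  | nil => exact S.one
  | cons p w ih =>
    rw [wg_cons, S.mul _ (X_mem _ _) _ (wg_mem _), S.x p.1 (hw p List.mem_cons_self),
      ih (fun q hq => hw q (List.mem_cons_of_mem _ hq))]
    simp [twW, wg_cons]

/-- The fixed points of the twisting endomorphism in the Chevalley group. -/
def Fix : Subgroup (GL chevG2.Idx K) where
  carrier := {g | g ∈ chevG2.group K ∧ S.s g = g}
  mul_mem' := by
    rintro a b ⟨ha, ha'⟩ ⟨hb, hb'⟩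
    exact ⟨Subgroup.mul_mem _ ha hb, by rw [S.mul a ha b hb, ha', hb']⟩
  one_mem' := ⟨Subgroup.one_mem _, S.one⟩
  inv_mem' := by
    rintro a ⟨ha, ha'⟩
    exact ⟨Subgroup.inv_mem _ ha, by rw [S.inv ha, ha']⟩

theorem mem_Fix (g : GL chevG2.Idx K) : g ∈ S.Fix ↔ g ∈ chevG2.group K ∧ S.s g = g := Iff.rfl

end Sig

section char3

variable [CharP K 3]

theorem nf_eq_wg (A B p q r s : K) :
    nf A B p q r s = wg K [(7, A), (6, B), (8, p), (9, q), (10, r), (11, s)] := by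
  simp [nf, E4, wg, mul_assoc]

theorem nf'_eq_wg (B A p q r s : K) :
    nf' B A p q r s = wg K [(6, B), (7, A), (8, p), (9, q), (10, r), (11, s)] := by
  simp [nf', E4, wg, mul_assoc]

theorem nfn_eq_wg (A B p q r s : K) :
    nfn A B p q r s = wg K [(4, A), (5, B), (3, p), (2, q), (1, r), (0, s)] := by
  simp [nfn, E4, wg, mul_assoc]

theorem nfn'_eq_wg (B A p q r s : K) :
    nfn' B A p q r s = wg K [(5, B), (4, A), (3, p), (2, q), (1, r), (0, s)] := by
  simp [nfn', E4, wg, mul_assoc]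

variable {φ : K →+* K} (S : Sig K φ)

theorem s_nf (A B p q r s : K) :
    S.s (nf A B p q r s) = nf' (φ A ^ 3) (φ B) (φ r) (φ s) (φ p ^ 3) (φ q ^ 3) := by
  rw [nf_eq_wg, S.wg_word _ (by simp)]
  simp only [Sig.twW, List.map_cons, List.map_nil, pi, tw, wg, List.prod_cons, List.prod_nil]
  simp only [List.getD_cons_zero, List.getD_cons_succ, List.mem_cons, List.not_mem_nil]
  norm_num
  rw [nf', ← e4_perm]
  simp [mul_assoc]

theorem s_nf' (B A p q r s : K) :
    S.s (nf' B A p q r s) = nf (φ B) (φ A ^ 3) (φ r) (φ s) (φ p ^ 3) (φ q ^ 3) := by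
  rw [nf'_eq_wg, S.wg_word _ (by simp)]
  simp only [Sig.twW, List.map_cons, List.map_nil, pi, tw, wg, List.prod_cons, List.prod_nil]
  simp only [List.getD_cons_zero, List.getD_cons_succ, List.mem_cons, List.not_mem_nil]
  norm_num
  rw [nf, ← e4_perm]
  simp [mul_assoc]

theorem s_nfn (A B p q r s : K) :
    S.s (nfn A B p q r s) = nfn' (φ A ^ 3) (φ B) (φ r) (φ s) (φ p ^ 3) (φ q ^ 3) := by
  rw [nfn_eq_wg, S.wg_word _ (by simp)]
  simp only [Sig.twW, List.map_cons, List.map_nil, pi, tw, wg, List.prod_cons, List.prod_nil]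
  simp only [List.getD_cons_zero, List.getD_cons_succ, List.mem_cons, List.not_mem_nil]
  norm_num
  rw [nfn', ← e4n_perm]
  simp [mul_assoc]

end char3


section fixed

variable [CharP K 3] {φ : K →+* K} (S : Sig K φ)

/-- The fixed elements of `U`:
`x_a(t^θ) x_b(t) x_{a+b}(t^{θ+1} + u^θ) x_{2a+b}(t^{2θ+1} + v^θ) x_{3a+b}(u) x_{3a+2b}(v)`. -/
noncomputable def reeU (φ : K →+* K) (t u v : K) : GL chevG2.Idx K :=
  nf (φ t) t (φ t * t + φ u) (φ t ^ 2 * t + φ v) u v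

/-- The fixed elements of `V`. -/
noncomputable def reeV (φ : K →+* K) (t u v : K) : GL chevG2.Idx K :=
  nfn (-φ t) (-t) (-(φ t * t + φ u)) (-(φ t ^ 2 * t + φ v)) (-u) (-v)

theorem reeU_eq (t u v : K) : reeU φ t u v =
    nf' t (φ t) (φ u) (φ v) (u + t * φ t ^ 3) (v + t ^ 2 * φ t ^ 3) := by
  unfold reeU
  rw [nf_eq_nf']
  congr 1 <;> ring

theorem reeV_eq (t u v : K) : reeV φ t u v =
    nfn' (-t) (-φ t) (-φ u) (-φ v) (-(u + t * φ t ^ 3)) (-(v + t ^ 2 * φ t ^ 3)) := by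
  unfold reeV
  rw [nfn_eq_nfn']
  congr 1 <;> ring

theorem cube_add (x y : K) : (x + y) ^ 3 = x ^ 3 + y ^ 3 := add_pow_char x y 3

variable (h3 : ∀ x : K, φ (φ x) ^ 3 = x)

include h3 in
theorem s_reeU (t u v : K) : S.s (reeU φ t u v) = reeU φ t u v := by
  have e1 : φ (φ t * t + φ u) ^ 3 = u + t * φ t ^ 3 := by
    rw [map_add, map_mul, cube_add, mul_pow, h3, h3]
    ring
  have e2 : φ (φ t ^ 2 * t + φ v) ^ 3 = v + t ^ 2 * φ t ^ 3 := by
    rw [map_add, map_mul, map_pow, cube_add, mul_pow, ← pow_mul, mul_comm 2 3, pow_mul, h3, h3]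
    ring
  calc S.s (reeU φ t u v) = S.s (nf (φ t) t (φ t * t + φ u) (φ t ^ 2 * t + φ v) u v) := rfl
    _ = nf' t (φ t) (φ u) (φ v) (u + t * φ t ^ 3) (v + t ^ 2 * φ t ^ 3) := by
      rw [s_nf, h3, e1, e2]
    _ = reeU φ t u v := (reeU_eq t u v).symm

include h3 in
theorem s_reeV (t u v : K) : S.s (reeV φ t u v) = reeV φ t u v := by
  have e1 : φ (-(φ t * t + φ u)) ^ 3 = -(u + t * φ t ^ 3) := by
    rw [map_neg, map_add, map_mul, neg_pow, cube_add, mul_pow, h3, h3]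
    ring
  have e2 : φ (-(φ t ^ 2 * t + φ v)) ^ 3 = -(v + t ^ 2 * φ t ^ 3) := by
    rw [map_neg, map_add, map_mul, map_pow, neg_pow, cube_add, mul_pow, ← pow_mul, mul_comm 2 3,
      pow_mul, h3, h3]
    ring
  have e3 : φ (-φ t) ^ 3 = -t := by
    rw [map_neg, neg_pow, h3]
    ring
  calc S.s (reeV φ t u v)
      = S.s (nfn (-φ t) (-t) (-(φ t * t + φ u)) (-(φ t ^ 2 * t + φ v)) (-u) (-v)) := rfl
    _ = nfn' (-t) (-φ t) (-φ u) (-φ v) (-(u + t * φ t ^ 3)) (-(v + t ^ 2 * φ t ^ 3)) := by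
      rw [s_nfn, e1, e2, e3, map_neg, map_neg, map_neg]
    _ = reeV φ t u v := (reeV_eq t u v).symm

end fixed

end Cfsg.Agent.Lib.Helper18.Ree2
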