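import Mathlib
import Cfsg.Agent.Lib.Helper18.Ree2

set_option autoImplicit false
set_option linter.unusedSimpArgs false
set_option linter.unusedSectionVars false
set_option linter.unusedVariables false

/-!
# The fixed points of the twisting endomorphism in `U`, and the Ree group inside them
-/

namespace Cfsg.Agent.Lib.Helper18.Ree3

open Cfsg Cfsg.Lie Cfsg.Agent.Lib.Helper18 Cfsg.Agent.Lib.Helper18.Fast
  Cfsg.Agent.Lib.Helper18.Facts Cfsg.Agent.Lib.Helper18.WGroup Cfsg.Agent.Lib.Helper18.BNPairC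
  Cfsg.Agent.Lib.Helper18.UOrd Cfsg.Agent.Lib.Helper18.UNF Cfsg.Agent.Lib.Helper18.Units
  Cfsg.Agent.Lib.Helper18.Sub Cfsg.Agent.Lib.Helper18.Core Cfsg.Agent.Lib.Helper18.Ree1
  Cfsg.Agent.Lib.Helper18.Ree2

variable {K : Type*} [Field K]

theorem ord0 : byteOf UAll.ordTG2 0 = 6 := by decide
theorem ord1 : byteOf UAll.ordTG2 1 = 7 := by decide
theorem ord2 : byteOf UAll.ordTG2 2 = 8 := by decide
theorem ord3 : byteOf UAll.ordTG2 3 = 9 := by decide
theorem ord4 : byteOf UAll.ordTG2 4 = 10 := by decide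
theorem ord5 : byteOf UAll.ordTG2 5 = 11 := by decide

theorem tailP6 (c : ℕ → K) : tailP CAll.cfG2.af K (byteOf UAll.ordTG2) c 0 6 =
    nf' (c 0) (c 1) (c 2) (c 3) (c 4) (c 5) := by
  simp only [tailP_succ, tailP_zero, ord0, ord1, ord2, ord3, ord4, ord5, nf', E4, mul_assoc,
    mul_one, zero_add, Nat.reduceAdd]

section char3

variable [CharP K 3]

/-- Uniqueness of the normal form in `U`. -/
theorem nf'_inj {B A p q r s B' A' p' q' r' s' : K}
    (h : nf' B A p q r s = nf' B' A' p' q' r' s') :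
    B = B' ∧ A = A' ∧ p = p' ∧ q = q' ∧ r = r' ∧ s = s' := by
  have e1 := tailP6 (fun i => [B, A, p, q, r, s].getD i 0)
  have e2 := tailP6 (fun i => [B', A', p', q', r', s'].getD i 0)
  simp only [List.getD_cons_zero, List.getD_cons_succ] at e1 e2
  rw [← e1, ← e2] at h
  have key := tailP_inj CAll.cfG2 haddG UAll.uG2 _ _ 6 0 rfl h
  refine ⟨?_, ?_, ?_, ?_, ?_, ?_⟩
  · simpa using key 0 (Nat.zero_le _) (by norm_num)
  · simpa using key 1 (Nat.zero_le _) (by norm_num)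
  · simpa using key 2 (Nat.zero_le _) (by norm_num)
  · simpa using key 3 (Nat.zero_le _) (by norm_num)
  · simpa using key 4 (Nat.zero_le _) (by norm_num)
  · simpa using key 5 (Nat.zero_le _) (by norm_num)

/-- Existence of the normal form in `U`. -/
theorem exists_nf' {g : GL chevG2.Idx K} (hg : g ∈ chevG2.posUnipotent K) :
    ∃ B A p q r s : K, g = nf' B A p q r s := by
  rw [← K_zero CAll.cfG2.af UAll.uG2] at hg
  obtain ⟨c, rfl⟩ := exists_tailP CAll.cfG2 haddG UAll.uG2 6 0 rfl g hg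
  exact ⟨c 0, c 1, c 2, c 3, c 4, c 5, tailP6 c⟩

theorem X_pos {r : ℕ} (hp : chevG2.IsPosRoot r) (t : K) :
    X K r t ∈ chevG2.posUnipotent K :=
  Subgroup.subset_closure ⟨r, t, hp, coe_X r t⟩

theorem X_neg_mem {r : ℕ} (hp : chevG2.IsNegRoot r) (t : K) :
    X K r t ∈ chevG2.negUnipotent K :=
  Subgroup.subset_closure ⟨r, t, hp, coe_X r t⟩

theorem pos6 : chevG2.IsPosRoot 6 := by decide
theorem pos7 : chevG2.IsPosRoot 7 := by decide
theorem pos8 : chevG2.IsPosRoot 8 := by decide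
theorem pos9 : chevG2.IsPosRoot 9 := by decide
theorem pos10 : chevG2.IsPosRoot 10 := by decide
theorem pos11 : chevG2.IsPosRoot 11 := by decide

theorem nf'_mem (B A p q r s : K) : nf' B A p q r s ∈ chevG2.posUnipotent K := by
  unfold nf' e4 E4
  exact Subgroup.mul_mem _ (Subgroup.mul_mem _ (X_pos pos6 _) (X_pos pos7 _))
    (Subgroup.mul_mem _ (Subgroup.mul_mem _ (Subgroup.mul_mem _ (X_pos pos8 _) (X_pos pos9 _))
    (X_pos pos10 _)) (X_pos pos11 _))

variable {φ : K →+* K} (S : Sig K φ)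

theorem reeU_mem (t u v : K) : reeU φ t u v ∈ chevG2.posUnipotent K := by
  rw [reeU_eq]
  exact nf'_mem _ _ _ _ _ _

theorem reeU_inj {t u v t' u' v' : K} (h : reeU φ t u v = reeU φ t' u' v') :
    t = t' ∧ u = u' ∧ v = v' := by
  rw [reeU_eq, reeU_eq] at h
  obtain ⟨h1, -, -, -, h5, h6⟩ := nf'_inj h
  subst h1
  exact ⟨rfl, add_right_cancel h5, add_right_cancel h6⟩

variable (h3 : ∀ x : K, φ (φ x) ^ 3 = x)

include h3 in
/-- The fixed points of the twisting endomorphism in `U`. -/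
theorem U_fix {g : GL chevG2.Idx K} (hg : g ∈ chevG2.posUnipotent K) (hs : S.s g = g) :
    ∃ t u v : K, g = reeU φ t u v := by
  obtain ⟨B, A, p, q, r, s, rfl⟩ := exists_nf' hg
  rw [s_nf', nf_eq_nf'] at hs
  obtain ⟨e1, e2, e3, e4, -, -⟩ := nf'_inj hs
  refine ⟨B, r - B * A ^ 3, s - B ^ 2 * A ^ 3, ?_⟩
  rw [reeU_eq]
  have f1 : φ B = A := e2
  have f2 : φ A ^ 3 = B := e1
  have f3 : φ (r - B * A ^ 3) = p := by
    rw [map_sub, map_mul, map_pow, f1, f2, ← e3, f1, f2]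
    ring
  have f4 : φ (s - B ^ 2 * A ^ 3) = q := by
    rw [map_sub, map_mul, map_pow, map_pow, f1, f2, ← e4, f1, f2]
    ring
  rw [f1, f3, f4]
  congr 1 <;> ring

end char3

end Cfsg.Agent.Lib.Helper18.Ree3
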