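import Mathlib
import Cfsg.Agent.Lib.Helper18.Ree3

set_option autoImplicit false
set_option linter.unusedSimpArgs false
set_option linter.unusedSectionVars false
set_option linter.unusedVariables false

/-!
# The Ree group inside the fixed points, and `U ∩ ²G₂`
-/

namespace Cfsg.Agent.Lib.Helper18.Ree4

open Cfsg Cfsg.Lie Cfsg.Agent.Lib.Helper18 Cfsg.Agent.Lib.Helper18.Fast
  Cfsg.Agent.Lib.Helper18.Facts Cfsg.Agent.Lib.Helper18.WGroup Cfsg.Agent.Lib.Helper18.BNPairC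
  Cfsg.Agent.Lib.Helper18.UOrd Cfsg.Agent.Lib.Helper18.UNF Cfsg.Agent.Lib.Helper18.Units
  Cfsg.Agent.Lib.Helper18.Sub Cfsg.Agent.Lib.Helper18.Core Cfsg.Agent.Lib.Helper18.Ree1
  Cfsg.Agent.Lib.Helper18.Ree2 Cfsg.Agent.Lib.Helper18.Ree3

variable {K : Type*} [Field K]

/-- A finite field of order a power of 3 has characteristic 3. -/
theorem charP3 [Fintype K] {n : ℕ} (hK : Fintype.card K = 3 ^ n) : CharP K 3 := by
  obtain ⟨p', hp'⟩ := CharP.exists K
  obtain ⟨k, hpr, hk⟩ := FiniteField.card K p'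
  have h1 : p' ∣ 3 ^ n := by
    rw [← hK, hk]
    exact dvd_pow_self _ k.ne_zero
  have h2 := (Nat.prime_dvd_prime_iff_eq hpr Nat.prime_three).mp (hpr.dvd_of_dvd_pow h1)
  subst h2
  exact hp'

/-- The field automorphism `t ↦ t^(3^m)`. -/
theorem exists_theta [Fintype K] {m : ℕ} (hK : Fintype.card K = 3 ^ (2 * m + 1)) :
    ∃ φ : K →+* K, (∀ x, φ x = x ^ 3 ^ m) ∧ ∀ x, φ (φ x) ^ 3 = x := by
  have := charP3 hK
  refine ⟨iterateFrobenius K 3 m, fun x => iterateFrobenius_def 3 m x, fun x => ?_⟩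
  rw [iterateFrobenius_def, iterateFrobenius_def, ← pow_mul, ← pow_mul]
  have e : 3 ^ m * (3 ^ m * 3) = 3 ^ (2 * m + 1) := by ring
  rw [e, ← hK]
  exact FiniteField.pow_card x

theorem n7 : chevG2.negIdx[7]?.getD 0 = 4 := rfl
theorem n6 : chevG2.negIdx[6]?.getD 0 = 5 := rfl
theorem n8 : chevG2.negIdx[8]?.getD 0 = 3 := rfl
theorem n9 : chevG2.negIdx[9]?.getD 0 = 2 := rfl
theorem n10 : chevG2.negIdx[10]?.getD 0 = 1 := rfl
theorem n11 : chevG2.negIdx[11]?.getD 0 = 0 := rfl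

section char3

variable [CharP K 3] {φ : K →+* K} (S : Sig K φ) {e : ℕ} (hφ : ∀ x, φ x = x ^ e)

include hφ in
theorem wg_reeWordU (t u v : K) : wg K (reeWordU e t u v) = reeU φ t u v := by
  unfold reeU
  rw [nf_eq_wg, hφ t, hφ u, hφ v]
  simp only [reeWordU, g2a, g2b, g2ab, g2aab, g2aaab, g2aaabb]
  have e1 : t ^ (e + 1) + u ^ e = t ^ e * t + u ^ e := by ring
  have e2 : t ^ (2 * e + 1) + v ^ e = (t ^ e) ^ 2 * t + v ^ e := by ring
  rw [e1, e2]

include hφ in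
theorem wg_reeWordV (t u v : K) : wg K (reeWordV e t u v) = reeV φ t u v := by
  unfold reeV
  rw [nfn_eq_wg, hφ t, hφ u, hφ v]
  simp only [reeWordV, reeWordU, ChevalleyDatum.negWord, g2a, g2b, g2ab, g2aab, g2aaab, g2aaabb,
    List.map_cons, List.map_nil, Array.getD_eq_getD_getElem?, n7, n6, n8, n9, n10, n11]
  have e1 : t ^ (e + 1) + u ^ e = t ^ e * t + u ^ e := by ring
  have e2 : t ^ (2 * e + 1) + v ^ e = (t ^ e) ^ 2 * t + v ^ e := by ring
  rw [e1, e2]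

include hφ in
theorem reeU_mem_Gam (t u v : K) : reeU φ t u v ∈ twistedG2 K e := by
  apply Subgroup.subset_closure
  refine ⟨reeWordU e t u v, ⟨t, u, v, Or.inl rfl⟩, ?_⟩
  rw [← wg_reeWordU hφ, coe_wg]

include hφ in
theorem reeV_mem_Gam (t u v : K) : reeV φ t u v ∈ twistedG2 K e := by
  apply Subgroup.subset_closure
  refine ⟨reeWordV e t u v, ⟨t, u, v, Or.inr rfl⟩, ?_⟩
  rw [← wg_reeWordV hφ, coe_wg]

variable (h3 : ∀ x : K, φ (φ x) ^ 3 = x)

include hφ h3 in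
/-- The Ree group consists of fixed points of the twisting endomorphism. -/
theorem Gam_le_Fix : twistedG2 K e ≤ S.Fix := by
  unfold twistedG2 ChevalleyDatum.genSubgroup
  rw [Subgroup.closure_le]
  rintro g ⟨w, ⟨t, u, v, hw | hw⟩, hg⟩
  · subst hw
    have e1 : g = reeU φ t u v := by rw [eq_wg hg, wg_reeWordU hφ]
    rw [e1]
    exact ⟨by rw [← wg_reeWordU hφ]; exact wg_mem _, s_reeU S h3 t u v⟩
  · subst hw
    have e1 : g = reeV φ t u v := by rw [eq_wg hg, wg_reeWordV hφ]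
    rw [e1]
    exact ⟨by rw [← wg_reeWordV hφ]; exact wg_mem _, s_reeV S h3 t u v⟩

include S hφ h3 in
/-- `U ∩ ²G₂` is the set of the `reeU`. -/
theorem mem_U_Gam (g : GL chevG2.Idx K) :
    g ∈ chevG2.posUnipotent K ⊓ twistedG2 K e ↔ ∃ t u v : K, g = reeU φ t u v := by
  constructor
  · rintro ⟨h1, h2⟩
    exact U_fix S h3 h1 (Gam_le_Fix S hφ h3 h2).2
  · rintro ⟨t, u, v, rfl⟩
    exact ⟨reeU_mem t u v, reeU_mem_Gam hφ t u v⟩

include S hφ h3 in
theorem card_U_Gam [Fintype K] :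
    Nat.card ↥(chevG2.posUnipotent K ⊓ twistedG2 K e) = Fintype.card K ^ 3 := by
  have hb : Function.Bijective (fun p : K × K × K =>
      (⟨reeU φ p.1 p.2.1 p.2.2, (mem_U_Gam S hφ h3 _).mpr ⟨_, _, _, rfl⟩⟩ :
        ↥(chevG2.posUnipotent K ⊓ twistedG2 K e))) := by
    constructor
    · rintro ⟨t, u, v⟩ ⟨t', u', v'⟩ h
      have h' : reeU φ t u v = reeU φ t' u' v' := congrArg Subtype.val h
      obtain ⟨h1, h2, h3'⟩ := reeU_inj h'
      rw [h1, h2, h3']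
    · rintro ⟨g, hg⟩
      obtain ⟨t, u, v, rfl⟩ := (mem_U_Gam S hφ h3 g).mp hg
      exact ⟨(t, u, v), rfl⟩
  rw [← Nat.card_congr (Equiv.ofBijective _ hb), Nat.card_prod, Nat.card_prod,
    Nat.card_eq_fintype_card]
  ring

include S hφ h3 in
/-- The statement on `U ∩ ²G₂`, from a twisting endomorphism. -/
theorem stmt_U [Fintype K] :
    (∀ g : GL chevG2.Idx K, g ∈ chevG2.posUnipotent K ⊓ twistedG2 K e ↔
      ∃ t u v : K, (g : Matrix chevG2.Idx chevG2.Idx K) = chevG2.wordMat K (reeWordU e t u v)) ∧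
    Nat.card ↥(chevG2.posUnipotent K ⊓ twistedG2 K e) = Fintype.card K ^ 3 := by
  refine ⟨fun g => ?_, card_U_Gam S hφ h3⟩
  rw [mem_U_Gam S hφ h3]
  constructor
  · rintro ⟨t, u, v, rfl⟩
    exact ⟨t, u, v, by rw [← wg_reeWordU hφ, coe_wg]⟩
  · rintro ⟨t, u, v, h⟩
    exact ⟨t, u, v, by rw [eq_wg h, wg_reeWordU hφ]⟩

end char3

end Cfsg.Agent.Lib.Helper18.Ree4
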