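import Mathlib
import Cfsg.Agent.Lib.Helper18.Ree4

set_option autoImplicit false
set_option linter.unusedSimpArgs false
set_option linter.unusedSectionVars false
set_option linter.unusedVariables false

/-!
# The torus of `G₂` and the twisting endomorphism
-/

namespace Cfsg.Agent.Lib.Helper18.Ree5

open Cfsg Cfsg.Lie Cfsg.Agent.Lib.Helper18 Cfsg.Agent.Lib.Helper18.Fast
  Cfsg.Agent.Lib.Helper18.Facts Cfsg.Agent.Lib.Helper18.WGroup Cfsg.Agent.Lib.Helper18.BNPairC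
  Cfsg.Agent.Lib.Helper18.UOrd Cfsg.Agent.Lib.Helper18.UNF Cfsg.Agent.Lib.Helper18.Units
  Cfsg.Agent.Lib.Helper18.Sub Cfsg.Agent.Lib.Helper18.Core Cfsg.Agent.Lib.Helper18.Ree1
  Cfsg.Agent.Lib.Helper18.Ree2 Cfsg.Agent.Lib.Helper18.Ree3 Cfsg.Agent.Lib.Helper18.Ree4
  Cfsg.Agent.Lib.Helper18.Torus Cfsg.Agent.Lib.Helper18.XMat Cfsg.Agent.Lib.Helper18.Grade

variable {K : Type*} [Field K]

/-- The torus element `h_a(c0) h_b(c1)` as a matrix. -/
noncomputable def T2 (c0 c1 : K) : Matrix chevG2.Idx chevG2.Idx K :=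
  tor chevG2 FTabG2.fd (fun i => if i = 0 then c0 else c1)

theorem tor_eq_T2 (c : ℕ → K) : tor chevG2 FTabG2.fd c = T2 (c 0) (c 1) := by
  apply tor_congr
  intro i hi
  have hi' : i < 2 := hi
  interval_cases i <;> simp

theorem T2_mul (c0 c1 d0 d1 : K) : T2 c0 c1 * T2 d0 d1 = T2 (c0 * d0) (c1 * d1) := by
  unfold T2
  rw [tor_mul_tor]
  apply tor_congr
  intro i hi
  by_cases h : i = 0 <;> simp [h]

theorem chi9 (c : ℕ → K) : chi FTabG2.fd c 9 = c 0 := by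
  have e0 : carE FTabG2.fd 0 9 = 1 := by decide
  have e1 : carE FTabG2.fd 1 9 = 0 := by decide
  have hr : FTabG2.fd.rank = 2 := by decide
  unfold chi chiN
  rw [hr, Finset.prod_range_succ, Finset.prod_range_succ, Finset.prod_range_zero, e0, e1]
  simp

theorem chi11 (c : ℕ → K) : chi FTabG2.fd c 11 = c 1 := by
  have e0 : carE FTabG2.fd 0 11 = 0 := by decide
  have e1 : carE FTabG2.fd 1 11 = 1 := by decide
  have hr : FTabG2.fd.rank = 2 := by decide
  unfold chi chiN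
  rw [hr, Finset.prod_range_succ, Finset.prod_range_succ, Finset.prod_range_zero, e0, e1]
  simp

theorem T2_inj {c0 c1 d0 d1 : K} (h : T2 c0 c1 = T2 d0 d1) : c0 = d0 ∧ c1 = d1 := by
  unfold T2 tor at h
  have h9 := congrFun (congrFun h (Sum.inr ⟨9, by decide⟩)) (Sum.inr ⟨9, by decide⟩)
  have h11 := congrFun (congrFun h (Sum.inr ⟨11, by decide⟩)) (Sum.inr ⟨11, by decide⟩)
  rw [Matrix.diagonal_apply_eq, Matrix.diagonal_apply_eq] at h9 h11
  simp only [enc] at h9 h11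
  rw [chi9, chi9] at h9
  rw [chi11, chi11] at h11
  exact ⟨by simpa using h9, by simpa using h11⟩

theorem mem_H_iff (g : GL chevG2.Idx K) : g ∈ chevG2.diagonalSubgroup K ↔
    ∃ c0 c1 : K, c0 ≠ 0 ∧ c1 ≠ 0 ∧ (g : Matrix chevG2.Idx chevG2.Idx K) = T2 c0 c1 := by
  rw [mem_diagonalSubgroup_iff CAll.cfG2.af]
  constructor
  · rintro ⟨c, hc, e⟩
    exact ⟨c 0, c 1, hc 0, hc 1, by rw [e, tor_eq_T2]⟩
  · rintro ⟨c0, c1, h0, h1, e⟩
    refine ⟨fun i => if i = 0 then c0 else c1, fun i => ?_, e⟩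
    by_cases h : i = 0 <;> simp [h, h0, h1]

theorem hMat_T2 {r : ℕ} (hr : r < 12) {t : K} (ht : t ≠ 0) :
    chevG2.hMat K r t = T2 (t ^ FTabG2.fd.cor r 0) (t ^ FTabG2.fd.cor r 1) := by
  rw [hMat_eq_tor CAll.cfG2.af (show r < chevG2.nroots from hr) ht, tor_eq_T2]

theorem hMat7 {t : K} (ht : t ≠ 0) : chevG2.hMat K 7 t = T2 t 1 := by
  rw [hMat_T2 (by norm_num) ht]
  have e0 : FTabG2.fd.cor 7 0 = 1 := by decide
  have e1 : FTabG2.fd.cor 7 1 = 0 := by decide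
  rw [e0, e1]
  simp

theorem hMat6 {t : K} (ht : t ≠ 0) : chevG2.hMat K 6 t = T2 1 t := by
  rw [hMat_T2 (by norm_num) ht]
  have e0 : FTabG2.fd.cor 6 0 = 0 := by decide
  have e1 : FTabG2.fd.cor 6 1 = 1 := by decide
  rw [e0, e1]
  simp

theorem hMat8 {t : K} (ht : t ≠ 0) : chevG2.hMat K 8 t = T2 t (t ^ 3) := by
  rw [hMat_T2 (by norm_num) ht]
  have e0 : FTabG2.fd.cor 8 0 = 1 := by decide
  have e1 : FTabG2.fd.cor 8 1 = 3 := by decide
  rw [e0, e1]
  simp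

theorem hMat10 {t : K} (ht : t ≠ 0) : chevG2.hMat K 10 t = T2 t t := by
  rw [hMat_T2 (by norm_num) ht]
  have e0 : FTabG2.fd.cor 10 0 = 1 := by decide
  have e1 : FTabG2.fd.cor 10 1 = 1 := by decide
  rw [e0, e1]
  simp

/-- `n_r(t)` as a product of root elements. -/
noncomputable def nx (K : Type*) [Field K] (r : ℕ) (t : K) : GL chevG2.Idx K :=
  wg K (chevG2.nWord r t)

/-- `h_r(t)` as a product of root elements. -/
noncomputable def hx (K : Type*) [Field K] (r : ℕ) (t : K) : GL chevG2.Idx K :=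
  wg K (chevG2.hWord r t)

theorem coe_hx (r : ℕ) (t : K) :
    ((hx K r t : GL chevG2.Idx K) : Matrix chevG2.Idx chevG2.Idx K) = chevG2.hMat K r t :=
  coe_wg _

theorem hx_eq (r : ℕ) (t : K) : hx K r t = nx K r t * nx K r (-1) := by
  unfold hx nx ChevalleyDatum.hWord
  rw [wg_append]

theorem hx_mem (r : ℕ) (t : K) : hx K r t ∈ chevG2.group K := wg_mem _

theorem neg7 : chevG2.neg 7 = 4 := rfl
theorem neg6 : chevG2.neg 6 = 5 := rfl
theorem neg8 : chevG2.neg 8 = 3 := rfl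
theorem neg10 : chevG2.neg 10 = 1 := rfl

section char3

variable [CharP K 3] {φ : K →+* K} (S : Sig K φ)

theorem s_hx7 (t : K) : S.s (hx K 7 t) = hx K 6 (φ t ^ 3) := by
  unfold hx
  rw [S.wg_word _ (by simp [ChevalleyDatum.hWord, ChevalleyDatum.nWord, neg7])]
  simp only [ChevalleyDatum.hWord, ChevalleyDatum.nWord, neg7, neg6, Sig.twW, List.map_cons,
    List.map_nil, List.cons_append, List.nil_append, pi, tw]
  simp only [List.getD_cons_zero, List.getD_cons_succ, List.mem_cons, List.not_mem_nil]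
  norm_num
  simp [map_inv₀, Odd.neg_pow (by decide : Odd 3)]

theorem s_hx6 (t : K) : S.s (hx K 6 t) = hx K 7 (φ t) := by
  unfold hx
  rw [S.wg_word _ (by simp [ChevalleyDatum.hWord, ChevalleyDatum.nWord, neg6])]
  simp only [ChevalleyDatum.hWord, ChevalleyDatum.nWord, neg7, neg6, Sig.twW, List.map_cons,
    List.map_nil, List.cons_append, List.nil_append, pi, tw]
  simp only [List.getD_cons_zero, List.getD_cons_succ, List.mem_cons, List.not_mem_nil]
  norm_num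

/-- The fixed points of the twisting endomorphism in `H`. -/
theorem H_fix {g : GL chevG2.Idx K} (hg : g ∈ chevG2.diagonalSubgroup K) (hs : S.s g = g) :
    ∃ s : K, s ≠ 0 ∧ (g : Matrix chevG2.Idx chevG2.Idx K) = T2 (φ s) s := by
  obtain ⟨c0, c1, h0, h1, e⟩ := (mem_H_iff g).mp hg
  have e1 : g = hx K 7 c0 * hx K 6 c1 := by
    apply Units.ext
    rw [e, Units.val_mul, coe_hx, coe_hx, hMat7 h0, hMat6 h1, T2_mul, mul_one, one_mul]
  have h0' : φ c0 ^ 3 ≠ 0 := pow_ne_zero _ ((map_ne_zero φ).mpr h0)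
  have h1' : φ c1 ≠ 0 := (map_ne_zero φ).mpr h1
  have e2 : (S.s g : Matrix chevG2.Idx chevG2.Idx K) = T2 (φ c1) (φ c0 ^ 3) := by
    rw [e1, S.mul _ (hx_mem _ _) _ (hx_mem _ _), s_hx7, s_hx6, Units.val_mul, coe_hx, coe_hx,
      hMat6 h0', hMat7 h1', T2_mul, mul_one, one_mul]
  rw [hs, e] at e2
  obtain ⟨f0, f1⟩ := T2_inj e2
  exact ⟨c1, h1, by rw [e, f0]⟩

end char3

end Cfsg.Agent.Lib.Helper18.Ree5
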