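import Mathlib
import Cfsg.Agent.Lib.Helper18.Ree5
import Cfsg.Agent.Lib.Helper19.TwGlue

set_option autoImplicit false
set_option linter.unusedSimpArgs false
set_option linter.unusedSectionVars false
set_option linter.unusedVariables false

/-!
# The torus of the Ree group
-/

namespace Cfsg.Agent.Lib.Helper18.Ree6

open Cfsg Cfsg.Lie Cfsg.Agent.Lib.Helper18 Cfsg.Agent.Lib.Helper18.Fast
  Cfsg.Agent.Lib.Helper18.Facts Cfsg.Agent.Lib.Helper18.WGroup Cfsg.Agent.Lib.Helper18.BNPairC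
  Cfsg.Agent.Lib.Helper18.UOrd Cfsg.Agent.Lib.Helper18.UNF Cfsg.Agent.Lib.Helper18.Units
  Cfsg.Agent.Lib.Helper18.Sub Cfsg.Agent.Lib.Helper18.Core Cfsg.Agent.Lib.Helper18.Ree1
  Cfsg.Agent.Lib.Helper18.Ree2 Cfsg.Agent.Lib.Helper18.Ree3 Cfsg.Agent.Lib.Helper18.Ree4
  Cfsg.Agent.Lib.Helper18.Ree5
  Cfsg.Agent.Lib.Helper18.Torus Cfsg.Agent.Lib.Helper18.XMat Cfsg.Agent.Lib.Helper18.Grade
  Cfsg.Agent.Lib.Helper36 Cfsg.Agent.Lib.Helper36.ChevEngine Cfsg.Agent.Lib.Helper36.ChevSound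
  Cfsg.Agent.Lib.Helper19.TwEngine Cfsg.Agent.Lib.Helper19.TwGlue

variable {K : Type*} [Field K]

/-- A word of the Ree group over the prime field representing the involution of the torus. -/
def zJ : List (ℕ × ℤ) := [(9, 1), (11, 1), (2, -1), (0, -1), (7, 1), (6, 1), (8, 2), (9, 2),
  (10, 1), (11, 1), (4, 1), (5, 1), (3, -2), (2, 2), (1, -1), (0, 1)]

/-- The word `h_a(-1) h_b(-1)`. -/
def zH : List (ℕ × ℤ) := [(7, -1), (4, 1), (7, -1), (7, -1), (4, 1), (7, -1), (6, -1), (5, 1),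
  (6, -1), (6, -1), (5, 1), (6, -1)]

set_option maxRecDepth 100000 in
theorem chkJ : checkRelP 3 ChevTabG2.tab chevG2.rank chevG2.nroots (symC zJ) (symC zH) = true := by
  decide +kernel

section char3

variable [CharP K 3] {φ : K →+* K}

theorem reeU_0u0 (u : K) : reeU φ 0 u 0 = X K 8 (φ u) * X K 10 u := by
  simp [reeU, nf, E4, X_zero]

theorem reeV_0u0 (u : K) : reeV φ 0 u 0 = X K 3 (-φ u) * X K 1 (-u) := by
  simp [reeV, nfn, E4, X_zero]

theorem nx8 (t : K) : nx K 8 t = X K 8 t * X K 3 (-t⁻¹) * X K 8 t := by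
  simp [nx, ChevalleyDatum.nWord, neg8, wg, mul_assoc]

theorem nx10 (t : K) : nx K 10 t = X K 10 t * X K 1 (-t⁻¹) * X K 10 t := by
  simp [nx, ChevalleyDatum.nWord, neg10, wg, mul_assoc]

theorem c10_3 (t u : K) : Commute (X K 10 t) (X K 3 u) := comm_X (by decide) t u
theorem c8_10 (t u : K) : Commute (X K 8 t) (X K 10 u) := comm_X (by decide) t u
theorem c1_8 (t u : K) : Commute (X K 1 t) (X K 8 u) := comm_X (by decide) t u
theorem c3_1 (t u : K) : Commute (X K 3 t) (X K 1 u) := comm_X (by decide) t u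

theorem nprod (u : K) : reeU φ 0 u 0 * reeV φ 0 u⁻¹ 0 * reeU φ 0 u 0 =
    nx K 8 (φ u) * nx K 10 u := by
  rw [reeU_0u0, reeV_0u0, nx8, nx10, map_inv₀]
  simp only [mul_assoc]
  rw [(c10_3 u (-(φ u)⁻¹)).left_comm, (c1_8 (-u⁻¹) (φ u)).left_comm,
    ((c8_10 (φ u) u).symm).left_comm]

theorem comm_nx (u t : K) : Commute (nx K 10 u) (nx K 8 t) := by
  rw [nx8, nx10]
  have h1 : ∀ a b c d : K, Commute (X K 10 a) (X K 8 b * X K 3 c * X K 8 d) := fun a b c d =>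
    (((c8_10 b a).symm.mul_right (c10_3 a c)).mul_right (c8_10 d a).symm)
  have h2 : ∀ a b c d : K, Commute (X K 1 a) (X K 8 b * X K 3 c * X K 8 d) := fun a b c d =>
    (((c1_8 a b).mul_right (c3_1 c a).symm).mul_right (c1_8 a d))
  exact ((h1 _ _ _ _).mul_left (h2 _ _ _ _)).mul_left (h1 _ _ _ _)

variable (S : Sig K φ) {e : ℕ} (hφ : ∀ x, φ x = x ^ e)

include hφ in
/-- The elements `h_{a+b}(u^θ) h_{3a+b}(u)` lie in the Ree group. -/
theorem hh_mem (u : K) : hx K 8 (φ u) * hx K 10 u ∈ twistedG2 K e := by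
  have h1 : nx K 8 (φ u) * nx K 10 u ∈ twistedG2 K e := by
    rw [← nprod]
    exact Subgroup.mul_mem _ (Subgroup.mul_mem _ (reeU_mem_Gam hφ _ _ _) (reeV_mem_Gam hφ _ _ _))
      (reeU_mem_Gam hφ _ _ _)
  have h2 : nx K 8 (-1) * nx K 10 (-1) ∈ twistedG2 K e := by
    have := nprod (φ := φ) (-1 : K)
    rw [map_neg, map_one] at this
    rw [← this]
    exact Subgroup.mul_mem _ (Subgroup.mul_mem _ (reeU_mem_Gam hφ _ _ _) (reeV_mem_Gam hφ _ _ _))
      (reeU_mem_Gam hφ _ _ _)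
  have e1 : hx K 8 (φ u) * hx K 10 u =
      (nx K 8 (φ u) * nx K 10 u) * (nx K 8 (-1) * nx K 10 (-1)) := by
    rw [hx_eq, hx_eq]
    simp only [mul_assoc]
    rw [(comm_nx u (-1)).left_comm]
  rw [e1]
  exact Subgroup.mul_mem _ h1 h2


theorem inv_rel : wg K [(9, 1), (11, 1), (2, -1), (0, -1), (7, 1), (6, 1), (8, 2), (9, 2),
    (10, 1), (11, 1), (4, 1), (5, 1), (3, -2), (2, 2), (1, -1), (0, 1)] =
    hx K 7 (-1) * hx K 6 (-1) := by
  have := rel_of_chk (K := K) (symC zJ) (symC zH) chkJ 0 0 0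
  rw [evalWord_symC, evalWord_symC] at this
  unfold hx
  rw [← wg_append]
  simpa [castW, zJ, zH, ChevalleyDatum.hWord, ChevalleyDatum.nWord, neg7, neg6] using this

include hφ in
/-- The involution `h_a(-1) h_b(-1)` lies in the Ree group. -/
theorem inv_mem : hx K 7 (-1) * hx K 6 (-1) ∈ twistedG2 K e := by
  have e1 : reeU φ 0 0 1 = wg K [(9, 1), (11, 1)] := by
    simp [reeU, nf, E4, X_zero, wg]
  have e2 : reeV φ 0 0 1 = wg K [(2, -1), (0, -1)] := by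
    simp [reeV, nfn, E4, X_zero, wg]
  have e3 : reeU φ 1 1 1 = wg K [(7, 1), (6, 1), (8, 2), (9, 2), (10, 1), (11, 1)] := by
    rw [← nf_eq_wg]
    unfold reeU
    rw [map_one]
    congr 1 <;> norm_num
  have e4 : reeV φ (-1) 1 (-1) = wg K [(4, 1), (5, 1), (3, -2), (2, 2), (1, -1), (0, 1)] := by
    rw [← nfn_eq_wg]
    unfold reeV
    rw [map_neg, map_one]
    congr 1 <;> norm_num
  have h : reeU φ 0 0 1 * reeV φ 0 0 1 * reeU φ 1 1 1 * reeV φ (-1) 1 (-1) ∈ twistedG2 K e :=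
    Subgroup.mul_mem _ (Subgroup.mul_mem _ (Subgroup.mul_mem _ (reeU_mem_Gam hφ _ _ _)
      (reeV_mem_Gam hφ _ _ _)) (reeU_mem_Gam hφ _ _ _)) (reeV_mem_Gam hφ _ _ _)
  rw [e1, e2, e3, e4, ← wg_append, ← wg_append, ← wg_append] at h
  rw [← inv_rel]
  exact h

/-- Every non-zero element is, up to sign, of the form `u^(3θ+1)`. -/
theorem exists_pow [Fintype K] {m : ℕ} (hK : Fintype.card K = 3 ^ (2 * m + 1)) {s : K}
    (hs : s ≠ 0) : ∃ u : K, u ≠ 0 ∧ ((u ^ 3 ^ m) ^ 3 * u = s ∨ (u ^ 3 ^ m) ^ 3 * u = -s) := by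
  obtain ⟨k, hk⟩ : ∃ k, 3 ^ (m + 1) = 2 * k + 1 := (Odd.pow (by decide : Odd 3))
  obtain ⟨d, hd⟩ : ∃ d, 3 ^ (2 * m + 1) = 2 * d + 1 := (Odd.pow (by decide : Odd 3))
  have h1 : 3 ^ (m + 1) * 3 ^ (m + 1) = 3 * 3 ^ (2 * m + 1) := by ring
  rw [hk, hd] at h1
  have key : k * (3 ^ m * 3 + 1) = 3 * d + 1 := by
    have e : 3 ^ m * 3 = 2 * k + 1 := by rw [← hk]; ring
    rw [e]
    nlinarith [h1]
  have hsd : (s ^ d) * (s ^ d) = 1 := by
    rw [← pow_add]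
    have e : d + d = Fintype.card K - 1 := by rw [hK, hd]; omega
    rw [e]
    exact FiniteField.pow_card_sub_one_eq_one s hs
  refine ⟨s ^ k, pow_ne_zero _ hs, ?_⟩
  have e2 : ((s ^ k) ^ 3 ^ m) ^ 3 * s ^ k = (s ^ d) ^ 3 * s := by
    calc ((s ^ k) ^ 3 ^ m) ^ 3 * s ^ k = s ^ (k * (3 ^ m * 3 + 1)) := by ring
      _ = s ^ (3 * d + 1) := by rw [key]
      _ = (s ^ d) ^ 3 * s := by ring
  rw [e2]
  rcases mul_self_eq_one_iff.mp hsd with h | h
  · left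
    rw [h]
    ring
  · right
    rw [h]
    ring

variable (h3 : ∀ x : K, φ (φ x) ^ 3 = x)

include hφ h3 in
/-- The fixed torus elements lie in the Ree group. -/
theorem T2_mem [Fintype K] {m : ℕ} (hK : Fintype.card K = 3 ^ (2 * m + 1)) (he : e = 3 ^ m)
    {s : K} (hs : s ≠ 0) {g : GL chevG2.Idx K}
    (hg : (g : Matrix chevG2.Idx chevG2.Idx K) = T2 (φ s) s) : g ∈ twistedG2 K e := by
  obtain ⟨u, hu, hus⟩ := exists_pow hK hs
  have hφu : φ u ≠ 0 := (map_ne_zero φ).mpr hu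
  have e1 : ((hx K 8 (φ u) * hx K 10 u : GL chevG2.Idx K) : Matrix chevG2.Idx chevG2.Idx K) =
      T2 (φ (φ u ^ 3 * u)) (φ u ^ 3 * u) := by
    rw [Units.val_mul, coe_hx, coe_hx, hMat8 hφu, hMat10 hu, T2_mul, map_mul, map_pow, h3]
    congr 1
    ring
  have e0 : (u ^ 3 ^ m) ^ 3 * u = φ u ^ 3 * u := by rw [hφ u, he]
  rw [e0] at hus
  rcases hus with h | h
  · have : g = hx K 8 (φ u) * hx K 10 u := by
      apply Units.ext
      rw [hg, e1, h]
    rw [this]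
    exact hh_mem hφ u
  · have e5 : ((hx K 7 (-1) * hx K 6 (-1) : GL chevG2.Idx K) :
        Matrix chevG2.Idx chevG2.Idx K) = T2 (-1) (-1) := by
      rw [Units.val_mul, coe_hx, coe_hx, hMat7 (by norm_num), hMat6 (by norm_num), T2_mul, mul_one,
        one_mul]
    have : g = (hx K 7 (-1) * hx K 6 (-1)) * (hx K 8 (φ u) * hx K 10 u) := by
      apply Units.ext
      rw [hg, Units.val_mul, e5, e1, h, T2_mul, map_neg]
      congr 1 <;> ring
    rw [this]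
    exact Subgroup.mul_mem _ (inv_mem hφ) (hh_mem hφ u)

end char3

end Cfsg.Agent.Lib.Helper18.Ree6
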