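import Mathlib
import Cfsg.Agent.Lib.Helper18.Ree6

set_option autoImplicit false
set_option linter.unusedSimpArgs false
set_option linter.unusedSectionVars false
set_option linter.unusedVariables false

/-!
# `H ∩ ²G₂`: order, cyclicity
-/

namespace Cfsg.Agent.Lib.Helper18.Ree7

open Cfsg Cfsg.Lie Cfsg.Agent.Lib.Helper18 Cfsg.Agent.Lib.Helper18.Fast
  Cfsg.Agent.Lib.Helper18.Facts Cfsg.Agent.Lib.Helper18.WGroup Cfsg.Agent.Lib.Helper18.BNPairC
  Cfsg.Agent.Lib.Helper18.UOrd Cfsg.Agent.Lib.Helper18.UNF Cfsg.Agent.Lib.Helper18.Units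
  Cfsg.Agent.Lib.Helper18.Sub Cfsg.Agent.Lib.Helper18.Core Cfsg.Agent.Lib.Helper18.Ree1
  Cfsg.Agent.Lib.Helper18.Ree2 Cfsg.Agent.Lib.Helper18.Ree3 Cfsg.Agent.Lib.Helper18.Ree4
  Cfsg.Agent.Lib.Helper18.Ree5 Cfsg.Agent.Lib.Helper18.Ree6
  Cfsg.Agent.Lib.Helper18.Torus Cfsg.Agent.Lib.Helper18.XMat Cfsg.Agent.Lib.Helper18.Grade

variable {K : Type*} [Field K]

/-- The torus element `h_a(s^θ) h_b(s)`. -/
noncomputable def eta (φ : K →+* K) (s : K) : GL chevG2.Idx K := hx K 7 (φ s) * hx K 6 s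

theorem coe_eta (φ : K →+* K) {s : K} (hs : s ≠ 0) :
    ((eta φ s : GL chevG2.Idx K) : Matrix chevG2.Idx chevG2.Idx K) = T2 (φ s) s := by
  unfold eta
  rw [Units.val_mul, coe_hx, coe_hx, hMat7 ((map_ne_zero φ).mpr hs), hMat6 hs, T2_mul, mul_one,
    one_mul]

theorem eta_mul (φ : K →+* K) {s s' : K} (hs : s ≠ 0) (hs' : s' ≠ 0) :
    eta φ (s * s') = eta φ s * eta φ s' := by
  apply Units.ext
  rw [Units.val_mul, coe_eta φ (mul_ne_zero hs hs'), coe_eta φ hs, coe_eta φ hs', T2_mul, map_mul]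

theorem eta_one (φ : K →+* K) : eta φ 1 = 1 := by
  have h := eta_mul φ (one_ne_zero (α := K)) (one_ne_zero (α := K))
  rw [mul_one] at h
  exact (mul_eq_left).mp h.symm

theorem eta_inj (φ : K →+* K) {s s' : K} (hs : s ≠ 0) (hs' : s' ≠ 0) (h : eta φ s = eta φ s') :
    s = s' := by
  have h' := congrArg (fun g : GL chevG2.Idx K => (g : Matrix chevG2.Idx chevG2.Idx K)) h
  beta_reduce at h'
  rw [coe_eta φ hs, coe_eta φ hs'] at h'
  exact (T2_inj h').2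

theorem eta_mem_H (φ : K →+* K) {s : K} (hs : s ≠ 0) : eta φ s ∈ chevG2.diagonalSubgroup K :=
  (mem_H_iff _).mpr ⟨φ s, s, (map_ne_zero φ).mpr hs, hs, coe_eta φ hs⟩

section char3

variable [CharP K 3] {φ : K →+* K} (S : Sig K φ) {e : ℕ} (hφ : ∀ x, φ x = x ^ e)
  (h3 : ∀ x : K, φ (φ x) ^ 3 = x) [Fintype K] {m : ℕ} (hK : Fintype.card K = 3 ^ (2 * m + 1))
  (he : e = 3 ^ m)

include S hφ h3 hK he in
/-- `H ∩ ²G₂` is the set of the `h_a(s^θ) h_b(s)`. -/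
theorem mem_H_Gam (g : GL chevG2.Idx K) :
    g ∈ chevG2.diagonalSubgroup K ⊓ twistedG2 K e ↔ ∃ s : K, s ≠ 0 ∧ g = eta φ s := by
  constructor
  · rintro ⟨h1, h2⟩
    obtain ⟨s, hs, e1⟩ := H_fix S h1 (Gam_le_Fix S hφ h3 h2).2
    exact ⟨s, hs, Units.ext (by rw [e1, coe_eta φ hs])⟩
  · rintro ⟨s, hs, rfl⟩
    exact ⟨eta_mem_H φ hs, T2_mem hφ h3 hK he hs (coe_eta φ hs)⟩

include S hφ h3 hK he in
/-- The isomorphism of `K^×` with `H ∩ ²G₂`. -/
theorem exists_etaEquiv : ∃ f : Kˣ ≃* ↥(chevG2.diagonalSubgroup K ⊓ twistedG2 K e),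
    ∀ s : Kˣ, ((f s : ↥(chevG2.diagonalSubgroup K ⊓ twistedG2 K e)) : GL chevG2.Idx K) =
      eta φ (s : K) := by
  let f0 : Kˣ →* ↥(chevG2.diagonalSubgroup K ⊓ twistedG2 K e) :=
    { toFun := fun s => ⟨eta φ (s : K), (mem_H_Gam S hφ h3 hK he _).mpr ⟨s, s.ne_zero, rfl⟩⟩
      map_one' := Subtype.ext (by simp [eta_one])
      map_mul' := fun s s' => Subtype.ext (by
        show eta φ ((s * s' : Kˣ) : K) = eta φ s * eta φ s'
        rw [Units.val_mul, eta_mul φ s.ne_zero s'.ne_zero]) }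
  have hb : Function.Bijective f0 := by
    constructor
    · intro s s' h
      have h' : eta φ (s : K) = eta φ (s' : K) := congrArg Subtype.val h
      exact Units.ext (eta_inj φ s.ne_zero s'.ne_zero h')
    · rintro ⟨g, hg⟩
      obtain ⟨s, hs, rfl⟩ := (mem_H_Gam S hφ h3 hK he g).mp hg
      exact ⟨Units.mk0 s hs, rfl⟩
  exact ⟨MulEquiv.ofBijective f0 hb, fun s => rfl⟩

include S hφ h3 hK he in
theorem card_H_Gam :
    Nat.card ↥(chevG2.diagonalSubgroup K ⊓ twistedG2 K e) = Fintype.card K - 1 := by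
  obtain ⟨f, -⟩ := exists_etaEquiv S hφ h3 hK he
  rw [← Nat.card_congr f.toEquiv, Nat.card_units, Nat.card_eq_fintype_card]

include S hφ h3 hK he in
theorem cyclic_H_Gam : IsCyclic ↥(chevG2.diagonalSubgroup K ⊓ twistedG2 K e) := by
  obtain ⟨f, -⟩ := exists_etaEquiv S hφ h3 hK he
  exact isCyclic_of_surjective f.toMonoidHom f.surjective

end char3

end Cfsg.Agent.Lib.Helper18.Ree7
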