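import Mathlib
import Cfsg.Agent.Lib.Helper18.Tw8

set_option autoImplicit false
set_option linter.unusedSimpArgs false
set_option linter.unusedSectionVars false
set_option linter.unusedVariables false

/-!
# The `(B, N)`-pair of a twisted group
-/

namespace Cfsg.Agent.Lib.Helper18.TwBN

open Cfsg Cfsg.Lie Cfsg.Agent.Lib.Helper18.Fast Cfsg.Agent.Lib.Helper18.Grade
  Cfsg.Agent.Lib.Helper18.Facts Cfsg.Agent.Lib.Helper18.AllRoots Cfsg.Agent.Lib.Helper18.Loop
  Cfsg.Agent.Lib.Helper18.Weyl Cfsg.Agent.Lib.Helper18.RootSys Cfsg.Agent.Lib.Helper18.Orbit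
  Cfsg.Agent.Lib.Helper18.Units Cfsg.Agent.Lib.Helper18.Sub Cfsg.Agent.Lib.Helper18.Norm
  Cfsg.Agent.Lib.Helper18.HAll Cfsg.Agent.Lib.Helper18.Torus Cfsg.Agent.Lib.Helper18.Pos
  Cfsg.Agent.Lib.Helper18.WGroup Cfsg.Agent.Lib.Helper18.BNChev Cfsg.Agent.Lib.Helper18.Mono
  Cfsg.Agent.Lib.Helper18.BNPairC Cfsg.Agent.Lib.Helper18.UOrd Cfsg.Agent.Lib.Helper18.Cox
  Cfsg.Agent.Lib.Helper18.Long Cfsg.Agent.Lib.Helper18.Core Cfsg.Agent.Lib.Helper18.Conj
  Cfsg.Agent.Lib.Helper18.RFact Cfsg.Agent.Lib.Helper18.BNCell Cfsg.Agent.Lib.Helper18.Vec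
  Cfsg.Agent.Lib.Helper18.XMat Cfsg.Agent.Lib.Helper18.Cells Cfsg.Agent.Lib.Helper18.Cox2
  Cfsg.Agent.Lib.Helper18.Cells2 Cfsg.Agent.Lib.Helper18.BNAbs Cfsg.Agent.Lib.Helper18.Poly2
  Cfsg.Agent.Lib.Helper18.Graph Cfsg.Agent.Lib.Helper18.Tw0 Cfsg.Agent.Lib.Helper18.Tw1
  Cfsg.Agent.Lib.Helper18.Par Cfsg.Agent.Lib.Helper18.Par2 Cfsg.Agent.Lib.Helper18.Tw2
  Cfsg.Agent.Lib.Helper18.Tw3 Cfsg.Agent.Lib.Helper18.Tw4 Cfsg.Agent.Lib.Helper18.Tw5
  Cfsg.Agent.Lib.Helper18.Tw6 Cfsg.Agent.Lib.Helper18.Tw7 Cfsg.Agent.Lib.Helper18.Tw8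

/-- A `(B, N)`-pair of a subgroup from conditions stated in the ambient group. -/
theorem bnPair_of_internal {G : Type*} [Group G] (Γ B N : Subgroup G) (S : Set G)
    (h_gen : Γ ≤ (B ⊓ Γ) ⊔ (N ⊓ Γ))
    (h_conj : ∀ n ∈ N ⊓ Γ, ∀ t ∈ B ⊓ N, n * t * n⁻¹ ∈ B)
    (h_sub : ∀ s ∈ S, s ∈ N ⊓ Γ)
    (h_sq : ∀ s ∈ S, s * s ∈ B)
    (h_inj : ∀ s ∈ S, ∀ s' ∈ S, s⁻¹ * s' ∈ B → s = s')
    (h_cl : ∀ n ∈ N ⊓ Γ, ∃ a ∈ Subgroup.closure S, a⁻¹ * n ∈ B)
    (h_mul : ∀ s ∈ S, ∀ n ∈ N ⊓ Γ, ∀ b ∈ B ⊓ Γ,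
      (∃ b1 ∈ B ⊓ Γ, ∃ b2 ∈ B ⊓ Γ, s * b * n = b1 * (s * n) * b2) ∨
      (∃ b1 ∈ B ⊓ Γ, ∃ b2 ∈ B ⊓ Γ, s * b * n = b1 * n * b2))
    (h_ne : ∀ s ∈ S, ∃ b ∈ B ⊓ Γ, s * b * s ∉ B) :
    ∃ P : Cfsg.BNPair ↥Γ, P.B = (B ⊓ Γ).subgroupOf Γ ∧ P.N = (N ⊓ Γ).subgroupOf Γ ∧
      P.S = {s : ↥Γ | (s : G) ∈ S} := by
  have hSΓ : ∀ s ∈ S, s ∈ Γ := fun s hs => (h_sub s hs).2
  have hclN : Subgroup.closure {s : ↥Γ | (s : G) ∈ S} ≤ (N ⊓ Γ).subgroupOf Γ := by
    rw [Subgroup.closure_le]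
    intro s hs
    exact Subgroup.mem_subgroupOf.mpr (h_sub s hs)
  refine ⟨{ B := (B ⊓ Γ).subgroupOf Γ
            N := (N ⊓ Γ).subgroupOf Γ
            S := {s : ↥Γ | (s : G) ∈ S}
            sup_eq_top := ?_
            conj_mem := ?_
            subset := ?_
            sq_mem := ?_
            inj := ?_
            closure_sup := ?_
            mul_mem_union := ?_
            conj_ne := ?_ }, rfl, rfl, rfl⟩
  · rw [← Subgroup.subgroupOf_sup inf_le_right inf_le_right, eq_top_iff]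
    intro g _
    rw [Subgroup.mem_subgroupOf]
    exact h_gen g.2
  · intro n hn t ht
    rw [Subgroup.mem_subgroupOf] at hn
    rw [Subgroup.mem_inf, Subgroup.mem_subgroupOf, Subgroup.mem_subgroupOf] at ht
    rw [Subgroup.mem_subgroupOf]
    refine ⟨?_, (n * t * n⁻¹).2⟩
    have := h_conj n hn t ⟨ht.1.1, ht.2.1⟩
    simpa using this
  · intro s hs
    exact Subgroup.mem_subgroupOf.mpr (h_sub s hs)
  · intro s hs
    refine Subgroup.mem_subgroupOf.mpr ⟨?_, (s * s).2⟩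
    have := h_sq s hs
    simpa using this
  · intro s hs s' hs' h
    apply Subtype.ext
    apply h_inj s hs s' hs'
    have := (Subgroup.mem_subgroupOf.mp h).1
    simpa using this
  · apply le_antisymm
    · exact sup_le hclN inf_le_right
    · intro n hn
      have hn' := Subgroup.mem_subgroupOf.mp hn
      obtain ⟨a, ha, hab⟩ := h_cl n hn'
      have hcl : Subgroup.closure S =
          (Subgroup.closure {s : ↥Γ | (s : G) ∈ S}).map Γ.subtype := by
        rw [MonoidHom.map_closure]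
        congr 1
        ext x
        constructor
        · intro hx
          exact ⟨⟨x, hSΓ x hx⟩, hx, rfl⟩
        · rintro ⟨y, hy, rfl⟩
          exact hy
      rw [hcl] at ha
      obtain ⟨a', ha', rfl⟩ := ha
      have haN := hclN ha'
      have e : n = a' * (a'⁻¹ * n) := by group
      rw [e]
      apply Subgroup.mul_mem_sup ha'
      refine ⟨Subgroup.mem_subgroupOf.mpr ⟨?_, (a'⁻¹ * n).2⟩, ?_⟩
      · simpa using hab
      · exact Subgroup.mul_mem _ (Subgroup.inv_mem _ haN) hn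
  · intro s hs n hn b hb
    rw [Subgroup.mem_subgroupOf] at hn hb
    rcases h_mul s hs n hn b hb with ⟨b1, hb1, b2, hb2, e⟩ | ⟨b1, hb1, b2, hb2, e⟩
    · left
      rw [DoubleCoset.mem_doubleCoset]
      exact ⟨⟨b1, hb1.2⟩, Subgroup.mem_subgroupOf.mpr hb1, ⟨b2, hb2.2⟩,
        Subgroup.mem_subgroupOf.mpr hb2, Subtype.ext e⟩
    · right
      rw [DoubleCoset.mem_doubleCoset]
      exact ⟨⟨b1, hb1.2⟩, Subgroup.mem_subgroupOf.mpr hb1, ⟨b2, hb2.2⟩,
        Subgroup.mem_subgroupOf.mpr hb2, Subtype.ext e⟩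
  · intro s hs heq
    obtain ⟨b, hb, hnb⟩ := h_ne s hs
    have hmem : s * ⟨b, hb.2⟩ * s ∈ (((B ⊓ Γ).subgroupOf Γ : Subgroup ↥Γ) : Set ↥Γ) := by
      rw [← heq]
      exact ⟨⟨b, hb.2⟩, Subgroup.mem_subgroupOf.mpr hb, rfl⟩
    exact hnb (Subgroup.mem_subgroupOf.mp hmem).1


variable {A : FData} {D : ChevalleyDatum} {K : Type*} [Field K] {X : WD} {m : ℕ → ℕ → ℤ}
  {w : ℕ → ℤ} {N : ℕ} {ord rnk : ℕ → ℕ} {bz : ℕ → ℕ → ℤ} {w' : ℕ → ℤ} {P : SPerm} {l : List ℕ}

/-! ### Boolean checks -/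

/-- The sub-words of a block that are stable under the graph permutation are trivial. -/
def subB (A : FData) (X : WD) (l : List ℕ) (S : List ℕ) : Bool :=
  S.sublists.all fun T => decide (T = []) || decide (T = S) ||
    (List.range A.n).any fun r => decide (wperm X (T.map fun i => l.getD i 0) r ≠ wperm X T r)

theorem sub_of_subB {S : List ℕ} (h : subB A X l S = true) {T : List ℕ} (hT : T.Sublist S)
    (hw : ∀ r < A.n, wperm X (T.map fun i => l.getD i 0) r = wperm X T r) : T = [] ∨ T = S := by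
  unfold subB at h
  rw [List.all_eq_true] at h
  have h1 := h T (List.mem_sublists.mpr hT)
  rw [Bool.or_eq_true, Bool.or_eq_true, decide_eq_true_eq, decide_eq_true_eq,
    List.any_eq_true] at h1
  rcases h1 with (h1 | h1) | ⟨r, hr, h1⟩
  · exact Or.inl h1
  · exact Or.inr h1
  · rw [decide_eq_true_eq] at h1
    exact absurd (hw r (List.mem_range.mp hr)) h1

/-- Distinct blocks give distinct Weyl group elements. -/
def injB (A : FData) (X : WD) (Bs : List (List ℕ)) : Bool :=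
  Bs.all fun S => Bs.all fun T => decide (S = T) ||
    (List.range A.n).any fun r => decide (wperm X S r ≠ wperm X T r)

theorem inj_of_injB {Bs : List (List ℕ)} (h : injB A X Bs = true) {S T : List ℕ} (hS : S ∈ Bs)
    (hT : T ∈ Bs) (hw : ∀ r < A.n, wperm X S r = wperm X T r) : S = T := by
  unfold injB at h
  rw [List.all_eq_true] at h
  have h1 := h S hS
  rw [List.all_eq_true] at h1
  have h2 := h1 T hT
  rw [Bool.or_eq_true, decide_eq_true_eq, List.any_eq_true] at h2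
  rcases h2 with h2 | ⟨r, hr, h2⟩
  · exact h2
  · rw [decide_eq_true_eq] at h2
    exact absurd (hw r (List.mem_range.mp hr)) h2

/-- The Weyl group element of a block is an involution. -/
def sqB (A : FData) (X : WD) (S : List ℕ) : Bool :=
  (List.range A.n).all fun r => decide (wperm X (S ++ S) r = r)

theorem sq_of_sqB {S : List ℕ} (h : sqB A X S = true) : ∀ r < A.n, wperm X (S ++ S) r = r := by
  unfold sqB at h
  simp only [List.all_eq_true, List.mem_range, decide_eq_true_eq] at h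
  exact h

section

variable (hC : CFacts A D X m w) (hR : RFacts A X) (hU : UFacts A w' N ord rnk bz) (hn : 0 < A.n)
  (hadd : ∀ r < D.nroots, ∀ t u : K, D.x K r t * D.x K r u = D.x K r (t + u))
  (hinj : ∀ r < D.nroots, ∀ t : K, D.x K r t = 1 → t = 0)
  (hP : P.OK A) (hl : SimpleOK P A l) (φ : K →+* K)
  (hpos : ∀ r < A.n, PosA A r → PosA A (P.rho r))
  (linv : ℕ → ℕ) (hlinv : ∀ i < A.rank, linv (l.getD i 0) = i)

include hR hU hn hadd hinj hl hpos in
/-- Every element of the chevalley group fixed by the twisting endomorphism lies in the cell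
of one of the words of a list closed under the blocks. -/
theorem hexG {Γ : Subgroup (GL D.Idx K)} (hΓ : Γ ≤ fixS hP hC.af.agrees φ)
    (hΓG : Γ ≤ D.group K)
    (hTρ : ∀ i < A.rank, ∀ r < A.n, P.rho (X.W i r) = X.W (l.getD i 0) (P.rho r))
    (hposr : ∀ r < A.n, PosA A (P.rho r) → PosA A r)
    (Bs : List (List ℕ)) (hBs : ∀ S ∈ Bs, WBlk A X l S) (hcov : ∀ i < A.rank, ∃ S ∈ Bs, i ∈ S)
    (Wss : List (List (List ℕ))) (hW0 : [] ∈ Wss)
    (hWlt : ∀ Ss ∈ Wss, ∀ i ∈ Ss.flatten, i < A.rank)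
    (hcl : ∀ Ss ∈ Wss, ∀ S ∈ Bs, ∃ Ss' ∈ Wss, ∀ i < A.rank,
      wperm X (Ss.flatten ++ S.reverse) (A.simple i) = wperm X Ss'.flatten (A.simple i)) :
    ∀ g ∈ Γ, ∃ Ss ∈ Wss, g ∈ cell hC K Ss.flatten := by
  intro g hg
  obtain ⟨wd, hwd, hc⟩ := exists_cell hC hadd hinj (hΓG hg)
  have hwd' : ∀ i ∈ wd.map (fun i => l.getD i 0), i < A.rank := by
    intro i hi
    obtain ⟨j, hj, rfl⟩ := List.mem_map.mp hi
    exact (hl j (hwd j hj)).1
  have hc' := sg_cell_raw hC hP hl φ hpos hwd hc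
  rw [(mem_fixS hP hC.af.agrees φ g).mp (hΓ hg)] at hc'
  have hw := wprod_eq_of_meet hC hR hU hn hadd hinj hwd' hwd hc' hc
  have hinv : ∀ r < A.n, wperm X (wd.map fun a => l.getD a 0) r = wperm X wd r := by
    intro r hr
    have := congrArg (fun σ : Equiv.Perm (Fin A.n) => (σ ⟨r, hr⟩).val) hw
    beta_reduce at this
    rwa [wprod_val hC hR hU hn hwd', wprod_val hC hR hU hn hwd] at this
  obtain ⟨wd', hwd'mem, e⟩ := exists_word_of_comm hC hR hU hn hadd hinj hP hl hTρ hposr Bs hBs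
    hcov (Wss.map List.flatten) (List.mem_map.mpr ⟨[], hW0, rfl⟩)
    (by
      intro wd1 h1 i hi
      obtain ⟨Ss, hSs, rfl⟩ := List.mem_map.mp h1
      exact hWlt Ss hSs i hi)
    (by
      intro wd1 h1 S hS
      obtain ⟨Ss, hSs, rfl⟩ := List.mem_map.mp h1
      obtain ⟨Ss', hSs', e⟩ := hcl Ss hSs S hS
      refine ⟨Ss'.flatten, List.mem_map.mpr ⟨Ss', hSs', rfl⟩, ?_⟩
      have hlt1 : ∀ i ∈ Ss.flatten ++ S.reverse, i < A.rank := by
        intro i hi
        rcases List.mem_append.mp hi with hi | hi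
        · exact hWlt Ss hSs i hi
        · exact (hBs S hS).lt i (List.mem_reverse.mp hi)
      have hw2 := wprod_eq_of_simple hC hR hU hn hadd hinj hlt1 (hWlt Ss' hSs') e
      intro r hr
      have := congrArg (fun σ : Equiv.Perm (Fin A.n) => (σ ⟨r, hr⟩).val) hw2
      beta_reduce at this
      rwa [wprod_val hC hR hU hn hlt1, wprod_val hC hR hU hn (hWlt Ss' hSs')] at this)
    hwd hinv
  obtain ⟨Ss, hSs, rfl⟩ := List.mem_map.mp hwd'mem
  refine ⟨Ss, hSs, ?_⟩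
  rw [cell_eq_of_wprod hC hR hU hn hadd hinj hwd (hWlt Ss hSs) e]
  exact hc

include hC hR hU hn hadd hinj in
/-- The closure condition from the table of fingerprints. -/
theorem cl_of_clF (Bs : List (List ℕ)) (hBs : ∀ S ∈ Bs, WBlk A X l S)
    (Wss : List (List (List ℕ)))
    (hWlt : ∀ Ss ∈ Wss, ∀ i ∈ Ss.flatten, i < A.rank)
    (F : List (List ℕ)) (nxt : ℕ → ℕ → ℕ) (hF : Wss.map (fpI A X) = F)
    (hclF : clF X Bs F nxt = true) :
    ∀ Ss ∈ Wss, ∀ S ∈ Bs, ∃ Ss' ∈ Wss, ∀ i < A.rank,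
      wperm X (Ss.flatten ++ S.reverse) (A.simple i) = wperm X Ss'.flatten (A.simple i) := by
  have hlen : F.length = Wss.length := by rw [← hF, List.length_map]
  have hFi : ∀ i (hi : i < Wss.length), F.getD i [] = fpI A X Wss[i] := by
    intro i hi
    subst hF
    rw [List.getD_eq_getElem _ _ (by rw [List.length_map]; exact hi), List.getElem_map]
  intro Ss hSs S hS
  obtain ⟨i, hi, rfl⟩ := List.getElem_of_mem hSs
  obtain ⟨b, hb, rfl⟩ := List.getElem_of_mem hS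
  unfold clF at hclF
  simp only [List.all_eq_true, List.mem_range, Bool.and_eq_true, decide_eq_true_eq] at hclF
  obtain ⟨h1, h2⟩ := hclF i (by rw [hlen]; exact hi) b hb
  rw [hlen] at h1
  rw [hFi i hi, hFi _ h1, List.getD_eq_getElem _ _ hb] at h2
  refine ⟨Wss[nxt i b], List.getElem_mem _, ?_⟩
  have hlt1 : ∀ a ∈ Wss[i].flatten ++ Bs[b].reverse, a < A.rank := by
    intro a ha
    rcases List.mem_append.mp ha with ha | ha
    · exact hWlt _ (List.getElem_mem _) a ha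
    · exact (hBs _ (List.getElem_mem _)).lt a (List.mem_reverse.mp ha)
  have hlt2 := hWlt _ (List.getElem_mem h1)
  have hw := simple_of_inv hC hR hU hn hadd hinj hlt1 hlt2 (by
    intro j hj
    unfold fpI at h2
    rw [List.map_map] at h2
    have h3 := (List.map_inj_left.mp h2) j (List.mem_range.mpr hj)
    rw [List.reverse_append, List.reverse_reverse, wperm_append]
    exact h3)
  intro j hj
  have hs : A.simple j < A.n := hC.af.sfacts.simple_lt j hj
  have := congrArg (fun σ : Equiv.Perm (Fin A.n) => (σ ⟨A.simple j, hs⟩).val) hw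
  beta_reduce at this
  rwa [wprod_val hC hR hU hn hlt1, wprod_val hC hR hU hn hlt2] at this

/-- The table of fingerprints as a list. -/
theorem clF_of_clG (Bs : List (List ℕ)) (n : ℕ) (fT : ℕ → List ℕ) (nxt : ℕ → ℕ → ℕ)
    (hclG : clG X Bs n fT nxt = true) : clF X Bs ((List.range n).map fT) nxt = true := by
  have hget : ∀ i, i < n → ((List.range n).map fT).getD i [] = fT i := by
    intro i hi
    rw [List.getD_eq_getElem _ _ (by rw [List.length_map, List.length_range]; exact hi),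
      List.getElem_map, List.getElem_range]
  unfold clG at hclG
  unfold clF
  simp only [List.all_eq_true, List.mem_range, Bool.and_eq_true, decide_eq_true_eq,
    List.length_map, List.length_range] at hclG ⊢
  intro i hi b hb
  obtain ⟨h1, h2⟩ := hclG i hi b hb
  refine ⟨h1, ?_⟩
  rw [hget i hi, hget _ h1]
  exact h2

end

end Cfsg.Agent.Lib.Helper18.TwBN
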