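import Mathlib
import Cfsg.Agent.Lib.Helper18.Ree7
import Cfsg.Agent.Lib.Helper18.TwBN

set_option autoImplicit false
set_option linter.unusedSimpArgs false
set_option linter.unusedSectionVars false
set_option linter.unusedVariables false

/-!
# The twisting endomorphism on `N` and on the Bruhat cells of `G₂`
-/

namespace Cfsg.Agent.Lib.Helper18.Ree8

open Cfsg Cfsg.Lie Cfsg.Agent.Lib.Helper18.Fast Cfsg.Agent.Lib.Helper18.Grade
  Cfsg.Agent.Lib.Helper18.Facts Cfsg.Agent.Lib.Helper18.AllRoots Cfsg.Agent.Lib.Helper18.Loop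
  Cfsg.Agent.Lib.Helper18.Weyl Cfsg.Agent.Lib.Helper18.RootSys Cfsg.Agent.Lib.Helper18.Orbit
  Cfsg.Agent.Lib.Helper18.Units Cfsg.Agent.Lib.Helper18.Sub Cfsg.Agent.Lib.Helper18.Norm
  Cfsg.Agent.Lib.Helper18.HAll Cfsg.Agent.Lib.Helper18.Torus Cfsg.Agent.Lib.Helper18.Pos
  Cfsg.Agent.Lib.Helper18.WGroup Cfsg.Agent.Lib.Helper18.BNChev Cfsg.Agent.Lib.Helper18.Mono
  Cfsg.Agent.Lib.Helper18.BNPairC Cfsg.Agent.Lib.Helper18.UOrd Cfsg.Agent.Lib.Helper18.Cox
  Cfsg.Agent.Lib.Helper18.Long Cfsg.Agent.Lib.Helper18.Core Cfsg.Agent.Lib.Helper18.Conj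
  Cfsg.Agent.Lib.Helper18.RFact Cfsg.Agent.Lib.Helper18.BNCell Cfsg.Agent.Lib.Helper18.Vec
  Cfsg.Agent.Lib.Helper18.XMat Cfsg.Agent.Lib.Helper18.Cells Cfsg.Agent.Lib.Helper18.Cox2
  Cfsg.Agent.Lib.Helper18.Cells2 Cfsg.Agent.Lib.Helper18.BNAbs
  Cfsg.Agent.Lib.Helper18.Ree1 Cfsg.Agent.Lib.Helper18.Ree2 Cfsg.Agent.Lib.Helper18.Ree3
  Cfsg.Agent.Lib.Helper18.Ree4 Cfsg.Agent.Lib.Helper18.Ree5 Cfsg.Agent.Lib.Helper18.Ree6
  Cfsg.Agent.Lib.Helper18.Ree7

open Cfsg.Agent.Lib.Helper18 (CAll.cfG2 ChainAll.rG2 UAll.uG2 LAll.wdG2 LAll.lG2 FTabG2.fd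
  WTabG2.X)

variable {K : Type*} [Field K]

/-- The swap of the two fundamental reflections. -/
def swp (i : ℕ) : ℕ := 1 - i

theorem fd_n : FTabG2.fd.n = 12 := by decide
theorem fd_rank : FTabG2.fd.rank = 2 := by decide
theorem hn0 : 0 < FTabG2.fd.n := by decide

theorem ng0 : ng CAll.cfG2.af K 0 = wg K [(7, 1), (4, -1), (7, 1)] := by
  have h0 : (0 : ℕ) < FTabG2.fd.rank := by decide
  have s0 : FTabG2.fd.simple 0 = 7 := by decide
  have m0 : FTabG2.fd.neg 7 = 4 := by decide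
  rw [ng_eq CAll.cfG2.af h0, Cent.nU_eq_xg CAll.cfG2.af h0]
  simp [s0, m0, wg, mul_assoc]

theorem ng1 : ng CAll.cfG2.af K 1 = wg K [(6, 1), (5, -1), (6, 1)] := by
  have h0 : (1 : ℕ) < FTabG2.fd.rank := by decide
  have s0 : FTabG2.fd.simple 1 = 6 := by decide
  have m0 : FTabG2.fd.neg 6 = 5 := by decide
  rw [ng_eq CAll.cfG2.af h0, Cent.nU_eq_xg CAll.cfG2.af h0]
  simp [s0, m0, wg, mul_assoc]

/-! ### The table of the Weyl group -/

/-- Reduced words for the twelve elements of the Weyl group. -/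
def words12 : List (List ℕ) := [[], [0], [1], [0, 1], [1, 0], [0, 1, 0], [1, 0, 1], [0, 1, 0, 1],
  [1, 0, 1, 0], [0, 1, 0, 1, 0], [1, 0, 1, 0, 1], [0, 1, 0, 1, 0, 1]]

/-- The list of the images of the roots under a word. -/
noncomputable def permL (wd : List ℕ) : List ℕ := (List.range 12).map (wperm WTabG2.X wd)

/-- The twelve permutations. -/
noncomputable def P12 : List (List ℕ) := words12.map permL

set_option maxRecDepth 100000 in
theorem P12_closed : P12.all (fun l => (List.range 2).all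
    (fun i => decide (l.map (WTabG2.X.W i) ∈ P12))) = true := by decide +kernel

theorem permL_mem : ∀ wd : List ℕ, (∀ i ∈ wd, i < 2) → permL wd ∈ P12 := by
  intro wd
  induction wd with
  | nil => intro _; decide +kernel
  | cons i wd ih =>
    intro h
    have h1 := ih (fun j hj => h j (List.mem_cons_of_mem _ hj))
    have h2 := List.all_eq_true.mp (List.all_eq_true.mp P12_closed _ h1) i
      (List.mem_range.mpr (h i List.mem_cons_self))
    rw [decide_eq_true_eq] at h2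
    have e : permL (i :: wd) = (permL wd).map (WTabG2.X.W i) := by
      simp [permL, wperm, List.map_map, Function.comp_def]
    rw [e]
    exact h2

theorem pi_equiv : ∀ i < 2, ∀ r < 12, WTabG2.X.W (swp i) (pi r) = pi (WTabG2.X.W i r) := by
  decide +kernel

theorem pi_lt : ∀ r < 12, pi r < 12 := by decide

theorem wperm_lt12 {wd : List ℕ} (hwd : ∀ i ∈ wd, i < 2) {r : ℕ} (hr : r < 12) :
    wperm WTabG2.X wd r < 12 :=
  wperm_lt CAll.cfG2.wf (A := FTabG2.fd) hwd hr

theorem swp_lt {wd : List ℕ} (hwd : ∀ i ∈ wd, i < 2) : ∀ i ∈ wd.map swp, i < 2 := by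
  intro i hi
  obtain ⟨j, -, rfl⟩ := List.mem_map.mp hi
  unfold swp
  omega

theorem wperm_pi : ∀ wd : List ℕ, (∀ i ∈ wd, i < 2) → ∀ r < 12,
    wperm WTabG2.X (wd.map swp) (pi r) = pi (wperm WTabG2.X wd r) := by
  intro wd
  induction wd with
  | nil => intro _ r _; rfl
  | cons i wd ih =>
    intro h r hr
    have hwd : ∀ j ∈ wd, j < 2 := fun j hj => h j (List.mem_cons_of_mem _ hj)
    show WTabG2.X.W (swp i) (wperm WTabG2.X (wd.map swp) (pi r)) =
      pi (WTabG2.X.W i (wperm WTabG2.X wd r))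
    rw [ih hwd r hr, pi_equiv i (h i List.mem_cons_self) _ (wperm_lt12 hwd hr)]

set_option maxRecDepth 100000 in
theorem fix_table : P12.all (fun l => decide ((List.range 12).all
    (fun r => decide (l.getD (pi r) 0 = pi (l.getD r 0))) = true →
      l = permL [] ∨ l = permL LAll.wdG2)) = true := by decide +kernel

theorem permL_getD (wd : List ℕ) {r : ℕ} (hr : r < 12) :
    (permL wd).getD r 0 = wperm WTabG2.X wd r := by
  unfold permL
  rw [List.getD_eq_getElem _ _ (by simpa using hr)]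
  simp

/-- A word whose permutation commutes with the graph permutation is trivial or longest. -/
theorem wperm_fixed {wd : List ℕ} (hwd : ∀ i ∈ wd, i < 2)
    (h : ∀ r < 12, wperm WTabG2.X (wd.map swp) r = wperm WTabG2.X wd r) :
    (∀ r < 12, wperm WTabG2.X wd r = r) ∨
      (∀ r < 12, wperm WTabG2.X wd r = wperm WTabG2.X LAll.wdG2 r) := by
  have hl := permL_mem wd hwd
  have hfix : (List.range 12).all
      (fun r => decide ((permL wd).getD (pi r) 0 = pi ((permL wd).getD r 0))) = true := by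
    rw [List.all_eq_true]
    intro r hr
    rw [List.mem_range] at hr
    rw [decide_eq_true_eq, permL_getD _ (pi_lt r hr), permL_getD _ hr, ← h _ (pi_lt r hr),
      wperm_pi wd hwd r hr]
  have h1 := List.all_eq_true.mp fix_table _ hl
  rw [decide_eq_true_eq] at h1
  rcases h1 hfix with e | e
  · left
    intro r hr
    rw [← permL_getD wd hr, e, permL_getD _ hr]
    rfl
  · right
    intro r hr
    rw [← permL_getD wd hr, e, permL_getD _ hr]

end Cfsg.Agent.Lib.Helper18.Ree8
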