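import Mathlib
import Cfsg.Agent.Lib.Helper18.Ree8

set_option autoImplicit false
set_option linter.unusedSimpArgs false
set_option linter.unusedSectionVars false
set_option linter.unusedVariables false

/-!
# The twisting endomorphism on `B`, `N` and the Bruhat cells of `G₂`
-/

namespace Cfsg.Agent.Lib.Helper18.Ree9

open Cfsg Cfsg.Lie Cfsg.Agent.Lib.Helper18.Fast Cfsg.Agent.Lib.Helper18.Grade
  Cfsg.Agent.Lib.Helper18.Facts Cfsg.Agent.Lib.Helper18.AllRoots Cfsg.Agent.Lib.Helper18.Loop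
  Cfsg.Agent.Lib.Helper18.Weyl Cfsg.Agent.Lib.Helper18.RootSys Cfsg.Agent.Lib.Helper18.Orbit
  Cfsg.Agent.Lib.Helper18.Units Cfsg.Agent.Lib.Helper18.Sub Cfsg.Agent.Lib.Helper18.Norm
  Cfsg.Agent.Lib.Helper18.HAll Cfsg.Agent.Lib.Helper18.Torus Cfsg.Agent.Lib.Helper18.Pos
  Cfsg.Agent.Lib.Helper18.WGroup Cfsg.Agent.Lib.Helper18.BNChev Cfsg.Agent.Lib.Helper18.Mono
  Cfsg.Agent.Lib.Helper18.BNPairC Cfsg.Agent.Lib.Helper18.UOrd Cfsg.Agent.Lib.Helper18.Cox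
  Cfsg.Agent.Lib.Helper18.Long Cfsg.Agent.Lib.Helper18.Core Cfsg.Agent.Lib.Helper18.Conj
  Cfsg.Agent.Lib.Helper18.RFact Cfsg.Agent.Lib.Helper18.BNCell Cfsg.Agent.Lib.Helper18.Vec
  Cfsg.Agent.Lib.Helper18.XMat Cfsg.Agent.Lib.Helper18.Cells Cfsg.Agent.Lib.Helper18.Cox2
  Cfsg.Agent.Lib.Helper18.Cells2 Cfsg.Agent.Lib.Helper18.BNAbs
  Cfsg.Agent.Lib.Helper18.Ree1 Cfsg.Agent.Lib.Helper18.Ree2 Cfsg.Agent.Lib.Helper18.Ree3
  Cfsg.Agent.Lib.Helper18.Ree4 Cfsg.Agent.Lib.Helper18.Ree5 Cfsg.Agent.Lib.Helper18.Ree6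
  Cfsg.Agent.Lib.Helper18.Ree7 Cfsg.Agent.Lib.Helper18.Ree8

open Cfsg.Agent.Lib.Helper18 (CAll.cfG2 ChainAll.rG2 UAll.uG2 LAll.wdG2 LAll.lG2 FTabG2.fd
  WTabG2.X)

variable {K : Type*} [Field K]

theorem pi_pos : ∀ r < 12, chevG2.IsPosRoot r → chevG2.IsPosRoot (pi r) := by decide +kernel

section char3

variable [CharP K 3] {φ : K →+* K} (S : Sig K φ)

theorem s_ng0 : S.s (ng CAll.cfG2.af K 0) = ng CAll.cfG2.af K 1 := by
  rw [ng0, ng1, S.wg_word _ (by simp)]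
  simp only [Sig.twW, List.map_cons, List.map_nil, pi, tw]
  simp only [List.getD_cons_zero, List.getD_cons_succ, List.mem_cons, List.not_mem_nil]
  norm_num

theorem s_ng1 : S.s (ng CAll.cfG2.af K 1) = ng CAll.cfG2.af K 0 := by
  rw [ng0, ng1, S.wg_word _ (by simp)]
  simp only [Sig.twW, List.map_cons, List.map_nil, pi, tw]
  simp only [List.getD_cons_zero, List.getD_cons_succ, List.mem_cons, List.not_mem_nil]
  norm_num

theorem nw_mem_G {wd : List ℕ} (hwd : ∀ i ∈ wd, i < 2) :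
    nw CAll.cfG2.af K (plain wd) ∈ chevG2.group K :=
  nw_mem_group CAll.cfG2 (plain_lt (A := FTabG2.fd) hwd)

theorem s_nw : ∀ wd : List ℕ, (∀ i ∈ wd, i < 2) →
    S.s (nw CAll.cfG2.af K (plain wd)) = nw CAll.cfG2.af K (plain (wd.map swp)) := by
  intro wd
  induction wd with
  | nil => intro _; exact S.one
  | cons i wd ih =>
    intro h
    have hwd : ∀ j ∈ wd, j < 2 := fun j hj => h j (List.mem_cons_of_mem _ hj)
    have hi : i < 2 := h i List.mem_cons_self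
    rw [List.map_cons, nw_plain_cons, nw_plain_cons,
      S.mul _ (ng_mem_group CAll.cfG2 (show i < FTabG2.fd.rank from hi)) _ (nw_mem_G hwd), ih hwd]
    congr 1
    interval_cases i
    · exact s_ng0 S
    · exact s_ng1 S

theorem s_U {g : GL chevG2.Idx K} (hg : g ∈ chevG2.posUnipotent K) :
    S.s g ∈ chevG2.posUnipotent K := by
  have key : g ∈ chevG2.group K ∧ S.s g ∈ chevG2.posUnipotent K := by
    unfold ChevalleyDatum.posUnipotent at hg
    induction hg using Subgroup.closure_induction with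
    | mem x hx =>
      obtain ⟨r, t, hr, hx⟩ := hx
      have e : x = X K r t := Units.ext (by rw [hx, coe_X])
      rw [e]
      refine ⟨X_mem _ _, ?_⟩
      rw [S.x r hr.1 t]
      exact X_pos (pi_pos r hr.1 hr) _
    | one => exact ⟨Subgroup.one_mem _, by rw [S.one]; exact Subgroup.one_mem _⟩
    | mul x y _ _ hx hy =>
      exact ⟨Subgroup.mul_mem _ hx.1 hy.1, by
        rw [S.mul x hx.1 y hy.1]; exact Subgroup.mul_mem _ hx.2 hy.2⟩
    | inv x _ hx =>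
      exact ⟨Subgroup.inv_mem _ hx.1, by rw [S.inv hx.1]; exact Subgroup.inv_mem _ hx.2⟩
  exact key.2

theorem s_T2 {g : GL chevG2.Idx K} {c0 c1 : K} (h0 : c0 ≠ 0) (h1 : c1 ≠ 0)
    (e : (g : Matrix chevG2.Idx chevG2.Idx K) = T2 c0 c1) :
    (S.s g : Matrix chevG2.Idx chevG2.Idx K) = T2 (φ c1) (φ c0 ^ 3) := by
  have e1 : g = hx K 7 c0 * hx K 6 c1 := by
    apply Units.ext
    rw [e, Units.val_mul, coe_hx, coe_hx, hMat7 h0, hMat6 h1, T2_mul, mul_one, one_mul]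
  have h0' : φ c0 ^ 3 ≠ 0 := pow_ne_zero _ ((map_ne_zero φ).mpr h0)
  have h1' : φ c1 ≠ 0 := (map_ne_zero φ).mpr h1
  rw [e1, S.mul _ (hx_mem _ _) _ (hx_mem _ _), s_hx7, s_hx6, Units.val_mul, coe_hx, coe_hx,
    hMat6 h0', hMat7 h1', T2_mul, mul_one, one_mul]

theorem s_H {g : GL chevG2.Idx K} (hg : g ∈ chevG2.diagonalSubgroup K) :
    S.s g ∈ chevG2.diagonalSubgroup K := by
  obtain ⟨c0, c1, h0, h1, e⟩ := (mem_H_iff g).mp hg
  exact (mem_H_iff _).mpr ⟨φ c1, φ c0 ^ 3, (map_ne_zero φ).mpr h1,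
    pow_ne_zero _ ((map_ne_zero φ).mpr h0), s_T2 S h0 h1 e⟩

theorem U_le_G : chevG2.posUnipotent K ≤ chevG2.group K := posUnipotent_le chevG2 K

theorem H_le_G : chevG2.diagonalSubgroup K ≤ chevG2.group K := diagonalSubgroup_le CAll.cfG2.af K

theorem B_le_G : chevG2.borelSubgroup K ≤ chevG2.group K := borelSubgroup_le CAll.cfG2.af K

theorem s_B {g : GL chevG2.Idx K} (hg : g ∈ chevG2.borelSubgroup K) :
    S.s g ∈ chevG2.borelSubgroup K := by
  obtain ⟨u, hu, h, hh, rfl⟩ := exists_mul_of_mem_sup (diag_le_normalizer_pos CAll.cfG2.af) hg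
  rw [S.mul u (U_le_G hu) h (H_le_G hh)]
  exact Subgroup.mul_mem _ (Subgroup.mem_sup_left (s_U S hu)) (Subgroup.mem_sup_right (s_H S hh))

/-- A fixed point of the twisting endomorphism lies in `B` or in the big cell. -/
theorem fix_cell {g : GL chevG2.Idx K} (hg : g ∈ S.Fix) :
    g ∈ chevG2.borelSubgroup K ∨ g ∈ cell CAll.cfG2 K LAll.wdG2 := by
  obtain ⟨wd, hwd, hc⟩ := exists_cell CAll.cfG2 haddG hinjG hg.1
  have hwd2 : ∀ i ∈ wd, i < 2 := hwd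
  have hswp : ∀ i ∈ wd.map swp, i < FTabG2.fd.rank := swp_lt hwd2
  have hc' : g ∈ cell CAll.cfG2 K (wd.map swp) := by
    unfold cell at hc ⊢
    rw [DoubleCoset.mem_doubleCoset] at hc ⊢
    obtain ⟨b₁, hb₁, b₂, hb₂, e⟩ := hc
    refine ⟨S.s b₁, s_B S hb₁, S.s b₂, s_B S hb₂, ?_⟩
    rw [← s_nw S wd hwd2, ← S.mul _ (B_le_G hb₁) _ (nw_mem_G hwd2),
      ← S.mul _ (Subgroup.mul_mem _ (B_le_G hb₁) (nw_mem_G hwd2)) _ (B_le_G hb₂), ← e, hg.2]
  have hw := wprod_eq_of_meet CAll.cfG2 ChainAll.rG2 UAll.uG2 hn0 haddG hinjG hswp hwd hc' hc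
  have hinv : ∀ r < 12, wperm WTabG2.X (wd.map swp) r = wperm WTabG2.X wd r := by
    intro r hr
    have := congrArg (fun σ : Equiv.Perm (Fin FTabG2.fd.n) => (σ ⟨r, hr⟩).val) hw
    beta_reduce at this
    rwa [wprod_val CAll.cfG2 ChainAll.rG2 UAll.uG2 hn0 hswp,
      wprod_val CAll.cfG2 ChainAll.rG2 UAll.uG2 hn0 hwd] at this
  rcases wperm_fixed hwd2 hinv with h | h
  · left
    have e : (rs CAll.cfG2 ChainAll.rG2 UAll.uG2 hn0).wprod [] =
        (rs CAll.cfG2 ChainAll.rG2 UAll.uG2 hn0).wprod wd := by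
      ext r
      rw [wprod_val CAll.cfG2 ChainAll.rG2 UAll.uG2 hn0 (by simp),
        wprod_val CAll.cfG2 ChainAll.rG2 UAll.uG2 hn0 hwd, h r.val r.isLt]
      rfl
    have := cell_eq_of_wprod (F := K) CAll.cfG2 ChainAll.rG2 UAll.uG2 hn0 haddG hinjG (by simp) hwd e
    rw [this, cell_nil] at hc
    exact hc
  · right
    have e : (rs CAll.cfG2 ChainAll.rG2 UAll.uG2 hn0).wprod LAll.wdG2 =
        (rs CAll.cfG2 ChainAll.rG2 UAll.uG2 hn0).wprod wd := by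
      ext r
      rw [wprod_val CAll.cfG2 ChainAll.rG2 UAll.uG2 hn0 LAll.lG2.lt,
        wprod_val CAll.cfG2 ChainAll.rG2 UAll.uG2 hn0 hwd, h r.val r.isLt]
    have := cell_eq_of_wprod (F := K) CAll.cfG2 ChainAll.rG2 UAll.uG2 hn0 haddG hinjG LAll.lG2.lt
      hwd e
    rw [this] at hc
    exact hc

end char3

end Cfsg.Agent.Lib.Helper18.Ree9
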