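import Mathlib
import Cfsg.Agent.Lib.Helper18.Ree9
import Cfsg.Agent.S1117

set_option autoImplicit false
set_option linter.unusedSimpArgs false
set_option linter.unusedSectionVars false
set_option linter.unusedVariables false

/-!
# The structure of the fixed points: `B`-part and big cell
-/

namespace Cfsg.Agent.Lib.Helper18.Ree10

open Cfsg Cfsg.Lie Cfsg.Agent.Lib.Helper18.Fast Cfsg.Agent.Lib.Helper18.Grade
  Cfsg.Agent.Lib.Helper18.Facts Cfsg.Agent.Lib.Helper18.AllRoots Cfsg.Agent.Lib.Helper18.Loop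
  Cfsg.Agent.Lib.Helper18.Weyl Cfsg.Agent.Lib.Helper18.RootSys Cfsg.Agent.Lib.Helper18.Orbit
  Cfsg.Agent.Lib.Helper18.Units Cfsg.Agent.Lib.Helper18.Sub Cfsg.Agent.Lib.Helper18.Norm
  Cfsg.Agent.Lib.Helper18.HAll Cfsg.Agent.Lib.Helper18.Torus Cfsg.Agent.Lib.Helper18.Pos
  Cfsg.Agent.Lib.Helper18.WGroup Cfsg.Agent.Lib.Helper18.BNChev Cfsg.Agent.Lib.Helper18.Mono
  Cfsg.Agent.Lib.Helper18.BNPairC Cfsg.Agent.Lib.Helper18.UOrd Cfsg.Agent.Lib.Helper18.Cox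
  Cfsg.Agent.Lib.Helper18.Long Cfsg.Agent.Lib.Helper18.Core Cfsg.Agent.Lib.Helper18.Conj
  Cfsg.Agent.Lib.Helper18.RFact Cfsg.Agent.Lib.Helper18.BNCell Cfsg.Agent.Lib.Helper18.Vec
  Cfsg.Agent.Lib.Helper18.XMat Cfsg.Agent.Lib.Helper18.Cells Cfsg.Agent.Lib.Helper18.Cox2
  Cfsg.Agent.Lib.Helper18.Cells2 Cfsg.Agent.Lib.Helper18.BNAbs
  Cfsg.Agent.Lib.Helper18.Ree1 Cfsg.Agent.Lib.Helper18.Ree2 Cfsg.Agent.Lib.Helper18.Ree3
  Cfsg.Agent.Lib.Helper18.Ree4 Cfsg.Agent.Lib.Helper18.Ree5 Cfsg.Agent.Lib.Helper18.Ree6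
  Cfsg.Agent.Lib.Helper18.Ree7 Cfsg.Agent.Lib.Helper18.Ree8 Cfsg.Agent.Lib.Helper18.Ree9
  Cfsg.Agent.Lib.Helper36 Cfsg.Agent.Lib.Helper36.ChevEngine Cfsg.Agent.Lib.Helper36.ChevSound
  Cfsg.Agent.Lib.Helper19.TwCore Cfsg.Agent.Lib.Helper19.TwEngine Cfsg.Agent.Lib.Helper19.TwGlue

open Cfsg.Agent.Lib.Helper18 (CAll.cfG2 ChainAll.rG2 UAll.uG2 LAll.wdG2 LAll.lG2 FTabG2.fd
  WTabG2.X)

variable {K : Type*} [Field K]

/-- The representative of the longest element of the Weyl group. -/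
noncomputable abbrev n0 (K : Type*) [Field K] : GL chevG2.Idx K :=
  nw CAll.cfG2.af K (plain LAll.wdG2)

theorem n0_mem_N : n0 K ∈ chevG2.monomialSubgroup K :=
  nw_mem_monomial CAll.cfG2 (plain_lt LAll.lG2.lt)

theorem n0_mem_G : n0 K ∈ chevG2.group K := nw_mem_group CAll.cfG2 (plain_lt LAll.lG2.lt)

theorem UH_bot : chevG2.posUnipotent K ⊓ chevG2.diagonalSubgroup K = ⊥ :=
  posUnipotent_inf_diagonal CAll.cfG2.af CAll.cfG2.pw

theorem U_le_B : chevG2.posUnipotent K ≤ chevG2.borelSubgroup K := le_sup_left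

theorem H_le_B : chevG2.diagonalSubgroup K ≤ chevG2.borelSubgroup K := le_sup_right

/-- `n₀² ∈ H`. -/
theorem n0_sq : n0 K * n0 K ∈ chevG2.diagonalSubgroup K := by
  have hid : ∀ r < FTabG2.fd.n, wperm WTabG2.X ((plain (LAll.wdG2 ++ LAll.wdG2)).map Prod.fst) r = r := by
    rw [plain_fst]
    decide +kernel
  have hlt : ∀ p ∈ plain (LAll.wdG2 ++ LAll.wdG2), p.1 < FTabG2.fd.rank := by
    apply plain_lt
    intro i hi
    rcases List.mem_append.mp hi with hi | hi <;> exact LAll.lG2.lt i hi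
  have := mem_H_of_id (F := K) CAll.cfG2 ChainAll.rG2 UAll.uG2 hn0 haddG hinjG hlt hid
  rwa [Cells.plain_append, nw_append] at this

/-- `n₀ ∉ B`. -/
theorem n0_not_mem_B : n0 K ∉ chevG2.borelSubgroup K := by
  intro h
  have h1 : n0 K ∈ chevG2.borelSubgroup K ⊓ chevG2.monomialSubgroup K := ⟨h, n0_mem_N⟩
  rw [borel_inf_monomial CAll.cfG2.af CAll.cfG2.pw] at h1
  have h2 := id_of_mem_H CAll.cfG2 UAll.uG2 (plain_lt LAll.lG2.lt) h1 6 (by decide)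
  rw [plain_fst] at h2
  revert h2
  decide +kernel

/-- Conjugation by an element of `N` preserves `H`. -/
theorem N_conj_H {n h : GL chevG2.Idx K} (hn : n ∈ chevG2.monomialSubgroup K)
    (hh : h ∈ chevG2.diagonalSubgroup K) : n * h * n⁻¹ ∈ chevG2.diagonalSubgroup K :=
  (Subgroup.mem_set_normalizer_iff.mp (monomial_le_normalizer CAll.cfG2.af K hn) h).mp hh

theorem N_conj_H' {n h : GL chevG2.Idx K} (hn : n ∈ chevG2.monomialSubgroup K)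
    (hh : h ∈ chevG2.diagonalSubgroup K) : n⁻¹ * h * n ∈ chevG2.diagonalSubgroup K := by
  have := N_conj_H (Subgroup.inv_mem _ hn) hh
  rwa [inv_inv] at this

/-- Conjugation by an element of `H` preserves `U`. -/
theorem H_conj_U' {h u : GL chevG2.Idx K} (hh : h ∈ chevG2.diagonalSubgroup K)
    (hu : u ∈ chevG2.posUnipotent K) : h⁻¹ * u * h ∈ chevG2.posUnipotent K := by
  have := (Subgroup.mem_set_normalizer_iff.mp
    (diag_le_normalizer_pos CAll.cfG2.af (Subgroup.inv_mem _ hh)) u).mp hu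
  rwa [inv_inv] at this

/-- Uniqueness of the normal form in the big cell. -/
theorem bigcell_uniq {u u₁ h h₁ u' u₁' : GL chevG2.Idx K} (hu : u ∈ chevG2.posUnipotent K)
    (hu₁ : u₁ ∈ chevG2.posUnipotent K) (hh : h ∈ chevG2.diagonalSubgroup K)
    (hh₁ : h₁ ∈ chevG2.diagonalSubgroup K) (hu' : u' ∈ chevG2.posUnipotent K)
    (hu₁' : u₁' ∈ chevG2.posUnipotent K)
    (e : u * n0 K * h * u' = u₁ * n0 K * h₁ * u₁') : u = u₁ ∧ h = h₁ ∧ u' = u₁' := by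
  have e2 : u₁⁻¹ * u = n0 K * (h₁ * u₁' * u'⁻¹ * h⁻¹) * (n0 K)⁻¹ := by
    have : u = u₁ * n0 K * h₁ * u₁' * u'⁻¹ * h⁻¹ * (n0 K)⁻¹ := by rw [← e]; group
    rw [this]
    group
  have hb : h₁ * u₁' * u'⁻¹ * h⁻¹ ∈ chevG2.borelSubgroup K :=
    Subgroup.mul_mem _ (Subgroup.mul_mem _ (Subgroup.mul_mem _ (H_le_B hh₁) (U_le_B hu₁'))
      (Subgroup.inv_mem _ (U_le_B hu'))) (Subgroup.inv_mem _ (H_le_B hh))
  have h1 := long_conj_borel CAll.cfG2 LAll.lG2 hb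
  rw [← e2] at h1
  have h2 : u₁⁻¹ * u ∈ chevG2.posUnipotent K := Subgroup.mul_mem _ (Subgroup.inv_mem _ hu₁) hu
  have h3 : u₁⁻¹ * u ∈ chevG2.borelSubgroup K ⊓
      (chevG2.negUnipotent K ⊔ chevG2.diagonalSubgroup K) := ⟨U_le_B h2, h1⟩
  rw [borel_inf_negUnipotent_sup CAll.cfG2.af CAll.cfG2.pw] at h3
  have h4 : u₁⁻¹ * u ∈ chevG2.posUnipotent K ⊓ chevG2.diagonalSubgroup K := ⟨h2, h3⟩
  rw [UH_bot, Subgroup.mem_bot] at h4
  have h5 : u = u₁ := (inv_mul_eq_one.mp h4).symm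
  subst h5
  have e3 : h * u' = h₁ * u₁' := by
    have := e
    rw [mul_assoc, mul_assoc, mul_assoc, mul_assoc] at this
    exact mul_left_cancel (mul_left_cancel this)
  have h6 : h₁⁻¹ * h = u₁' * u'⁻¹ := by
    rw [inv_mul_eq_iff_eq_mul, ← mul_assoc, ← e3]
    group
  have h7 : h₁⁻¹ * h ∈ chevG2.posUnipotent K ⊓ chevG2.diagonalSubgroup K :=
    ⟨by rw [h6]; exact Subgroup.mul_mem _ hu₁' (Subgroup.inv_mem _ hu'),
      Subgroup.mul_mem _ (Subgroup.inv_mem _ hh₁) hh⟩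
  rw [UH_bot, Subgroup.mem_bot] at h7
  have h8 : h = h₁ := (inv_mul_eq_one.mp h7).symm
  subst h8
  exact ⟨rfl, rfl, mul_left_cancel e3⟩

/-- Existence of the normal form in the big cell. -/
theorem bigcell_exists {g : GL chevG2.Idx K} (hg : g ∈ cell CAll.cfG2 K LAll.wdG2) :
    ∃ u ∈ chevG2.posUnipotent K, ∃ h ∈ chevG2.diagonalSubgroup K, ∃ u' ∈ chevG2.posUnipotent K,
      g = u * n0 K * h * u' := by
  unfold cell at hg
  rw [DoubleCoset.mem_doubleCoset] at hg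
  obtain ⟨b₁, hb₁, b₂, hb₂, rfl⟩ := hg
  obtain ⟨u₁, hu₁, h₁, hh₁, rfl⟩ := exists_mul_of_mem_sup (diag_le_normalizer_pos CAll.cfG2.af) hb₁
  obtain ⟨u₂, hu₂, h₂, hh₂, rfl⟩ := exists_mul_of_mem_sup (diag_le_normalizer_pos CAll.cfG2.af) hb₂
  refine ⟨u₁, hu₁, (n0 K)⁻¹ * h₁ * n0 K * h₂, Subgroup.mul_mem _ (N_conj_H' n0_mem_N hh₁) hh₂,
    h₂⁻¹ * u₂ * h₂, H_conj_U' hh₂ hu₂, ?_⟩
  group

section char3

variable [CharP K 3] {φ : K →+* K} (S : Sig K φ)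

/-- The fixed points in `B`. -/
theorem B_fix {g : GL chevG2.Idx K} (hg : g ∈ chevG2.borelSubgroup K) (hs : S.s g = g) :
    ∃ u ∈ chevG2.posUnipotent K, ∃ h ∈ chevG2.diagonalSubgroup K,
      S.s u = u ∧ S.s h = h ∧ g = u * h := by
  obtain ⟨u, hu, h, hh, rfl⟩ := exists_mul_of_mem_sup (diag_le_normalizer_pos CAll.cfG2.af) hg
  rw [S.mul u (U_le_G hu) h (H_le_G hh)] at hs
  have e : u⁻¹ * S.s u = h * (S.s h)⁻¹ := by
    rw [inv_mul_eq_iff_eq_mul, ← mul_assoc, ← hs]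
    group
  have h1 : u⁻¹ * S.s u ∈ chevG2.posUnipotent K ⊓ chevG2.diagonalSubgroup K :=
    ⟨Subgroup.mul_mem _ (Subgroup.inv_mem _ hu) (s_U S hu),
      by rw [e]; exact Subgroup.mul_mem _ hh (Subgroup.inv_mem _ (s_H S hh))⟩
  rw [UH_bot, Subgroup.mem_bot] at h1
  have h2 : S.s u = u := (inv_mul_eq_one.mp h1).symm
  rw [h2] at hs
  exact ⟨u, hu, h, hh, h2, mul_left_cancel hs, rfl⟩

/-- The fixed points in the big cell. -/
theorem cell_fix (hn : S.s (n0 K) = n0 K) {g : GL chevG2.Idx K}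
    (hg : g ∈ cell CAll.cfG2 K LAll.wdG2) (hs : S.s g = g) :
    ∃ u ∈ chevG2.posUnipotent K, ∃ h ∈ chevG2.diagonalSubgroup K, ∃ u' ∈ chevG2.posUnipotent K,
      S.s u = u ∧ S.s h = h ∧ S.s u' = u' ∧ g = u * n0 K * h * u' := by
  obtain ⟨u, hu, h, hh, u', hu', rfl⟩ := bigcell_exists hg
  have hG1 : u * n0 K ∈ chevG2.group K := Subgroup.mul_mem _ (U_le_G hu) n0_mem_G
  have hG2 : u * n0 K * h ∈ chevG2.group K := Subgroup.mul_mem _ hG1 (H_le_G hh)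
  rw [S.mul _ hG2 _ (U_le_G hu'), S.mul _ hG1 _ (H_le_G hh), S.mul _ (U_le_G hu) _ n0_mem_G, hn]
    at hs
  obtain ⟨e1, e2, e3⟩ := bigcell_uniq (s_U S hu) hu (s_H S hh) hh (s_U S hu') hu' hs
  exact ⟨u, hu, h, hh, u', hu', e1, e2, e3, rfl⟩

end char3

end Cfsg.Agent.Lib.Helper18.Ree10
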