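import Mathlib
import Cfsg.Agent.Lib.Helper18.Ree10

set_option autoImplicit false
set_option linter.unusedSimpArgs false
set_option linter.unusedSectionVars false
set_option linter.unusedVariables false

/-!
# The structure and the order of the Ree group
-/

namespace Cfsg.Agent.Lib.Helper18.Ree11

open Cfsg Cfsg.Lie Cfsg.Agent.Lib.Helper18.Fast Cfsg.Agent.Lib.Helper18.Grade
  Cfsg.Agent.Lib.Helper18.Facts Cfsg.Agent.Lib.Helper18.AllRoots Cfsg.Agent.Lib.Helper18.Loop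
  Cfsg.Agent.Lib.Helper18.Weyl Cfsg.Agent.Lib.Helper18.RootSys Cfsg.Agent.Lib.Helper18.Orbit
  Cfsg.Agent.Lib.Helper18.Units Cfsg.Agent.Lib.Helper18.Sub Cfsg.Agent.Lib.Helper18.Norm
  Cfsg.Agent.Lib.Helper18.HAll Cfsg.Agent.Lib.Helper18.Torus Cfsg.Agent.Lib.Helper18.Pos
  Cfsg.Agent.Lib.Helper18.WGroup Cfsg.Agent.Lib.Helper18.BNChev Cfsg.Agent.Lib.Helper18.Mono
  Cfsg.Agent.Lib.Helper18.BNPairC Cfsg.Agent.Lib.Helper18.UOrd Cfsg.Agent.Lib.Helper18.Cox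
  Cfsg.Agent.Lib.Helper18.Long Cfsg.Agent.Lib.Helper18.Core Cfsg.Agent.Lib.Helper18.Conj
  Cfsg.Agent.Lib.Helper18.RFact Cfsg.Agent.Lib.Helper18.BNCell Cfsg.Agent.Lib.Helper18.Vec
  Cfsg.Agent.Lib.Helper18.XMat Cfsg.Agent.Lib.Helper18.Cells Cfsg.Agent.Lib.Helper18.Cox2
  Cfsg.Agent.Lib.Helper18.Cells2 Cfsg.Agent.Lib.Helper18.BNAbs
  Cfsg.Agent.Lib.Helper18.Ree1 Cfsg.Agent.Lib.Helper18.Ree2 Cfsg.Agent.Lib.Helper18.Ree3
  Cfsg.Agent.Lib.Helper18.Ree4 Cfsg.Agent.Lib.Helper18.Ree5 Cfsg.Agent.Lib.Helper18.Ree6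
  Cfsg.Agent.Lib.Helper18.Ree7 Cfsg.Agent.Lib.Helper18.Ree8 Cfsg.Agent.Lib.Helper18.Ree9
  Cfsg.Agent.Lib.Helper18.Ree10
  Cfsg.Agent.Lib.Helper36 Cfsg.Agent.Lib.Helper36.ChevEngine Cfsg.Agent.Lib.Helper36.ChevSound
  Cfsg.Agent.Lib.Helper19.TwCore Cfsg.Agent.Lib.Helper19.TwEngine Cfsg.Agent.Lib.Helper19.TwGlue

open Cfsg.Agent.Lib.Helper18 (CAll.cfG2 ChainAll.rG2 UAll.uG2 LAll.wdG2 LAll.lG2 FTabG2.fd
  WTabG2.X)

variable {K : Type*} [Field K]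

/-- Uniqueness of the decomposition `B = U H`. -/
theorem UH_uniq {u u₁ h h₁ : GL chevG2.Idx K} (hu : u ∈ chevG2.posUnipotent K)
    (hu₁ : u₁ ∈ chevG2.posUnipotent K) (hh : h ∈ chevG2.diagonalSubgroup K)
    (hh₁ : h₁ ∈ chevG2.diagonalSubgroup K) (e : u * h = u₁ * h₁) : u = u₁ ∧ h = h₁ := by
  have e2 : u₁⁻¹ * u = h₁ * h⁻¹ := by
    rw [inv_mul_eq_iff_eq_mul, ← mul_assoc, ← e]
    group
  have h1 : u₁⁻¹ * u ∈ chevG2.posUnipotent K ⊓ chevG2.diagonalSubgroup K :=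
    ⟨Subgroup.mul_mem _ (Subgroup.inv_mem _ hu₁) hu,
      by rw [e2]; exact Subgroup.mul_mem _ hh₁ (Subgroup.inv_mem _ hh)⟩
  rw [UH_bot, Subgroup.mem_bot] at h1
  have h2 : u = u₁ := (inv_mul_eq_one.mp h1).symm
  subst h2
  exact ⟨rfl, mul_left_cancel e⟩

/-- `B` does not meet the big cell. -/
theorem B_cell_disj {g : GL chevG2.Idx K} (hB : g ∈ chevG2.borelSubgroup K)
    (hc : g ∈ cell CAll.cfG2 K LAll.wdG2) : False := by
  unfold cell at hc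
  rw [DoubleCoset.mem_doubleCoset] at hc
  obtain ⟨b₁, hb₁, b₂, hb₂, rfl⟩ := hc
  apply n0_not_mem_B (K := K)
  have : n0 K = b₁⁻¹ * (b₁ * n0 K * b₂) * b₂⁻¹ := by group
  rw [this]
  exact Subgroup.mul_mem _ (Subgroup.mul_mem _ (Subgroup.inv_mem _ hb₁) hB) (Subgroup.inv_mem _ hb₂)

section char3

variable [CharP K 3]

/-- The representative of the longest element lies in the Ree group. -/
theorem n0_mem_Gam {e : ℕ} (he : e ≠ 0) : n0 K ∈ twistedG2 K e := by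
  show _ ∈ chevG2.genSubgroup K (g2Words K e)
  apply nw_mem_gen CAll.cfG2.af 3 (CharP.cast_eq_zero K 3) ChevTabG2.tab ChevTabG2.tok _ _
    LAll.lG2.lt [Cfsg.Agent.S1117.zV, Cfsg.Agent.S1117.zU, Cfsg.Agent.S1117.zV] ?_
    Cfsg.Agent.S1117.chk_n0
  intro z hz
  simp only [List.mem_cons, List.not_mem_nil, or_false] at hz
  rcases hz with rfl | rfl | rfl
  · exact ⟨0, 1, 0, Or.inr (by
      simp [castW, Cfsg.Agent.S1117.zV, reeWordV, reeWordU, ChevalleyDatum.negWord, g2a, g2b,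
        g2ab, g2aab, g2aaab, g2aaabb, he, n7, n6, n8, n9, n10, n11])⟩
  · exact ⟨0, 1, 0, Or.inl (by
      simp [castW, Cfsg.Agent.S1117.zU, reeWordU, g2a, g2b, g2ab, g2aab, g2aaab, g2aaabb, he])⟩
  · exact ⟨0, 1, 0, Or.inr (by
      simp [castW, Cfsg.Agent.S1117.zV, reeWordV, reeWordU, ChevalleyDatum.negWord, g2a, g2b,
        g2ab, g2aab, g2aaab, g2aaabb, he, n7, n6, n8, n9, n10, n11])⟩

variable {φ : K →+* K} (S : Sig K φ) {e : ℕ} (hφ : ∀ x, φ x = x ^ e)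
  (h3 : ∀ x : K, φ (φ x) ^ 3 = x) [Fintype K] {m : ℕ} (hK : Fintype.card K = 3 ^ (2 * m + 1))
  (he : e = 3 ^ m)

include he in
theorem e_ne : e ≠ 0 := by rw [he]; positivity

include hφ h3 hK he in
theorem eta_mem_Gam {s : K} (hs : s ≠ 0) : eta φ s ∈ twistedG2 K e :=
  T2_mem hφ h3 hK he hs (coe_eta φ hs)

include S hφ h3 he in
theorem s_n0 : S.s (n0 K) = n0 K := (Gam_le_Fix S hφ h3 (n0_mem_Gam (e_ne he))).2

include S hφ h3 hK he in
/-- Every element of the Ree group lies in `U¹H¹` or in `U¹ n₀ H¹ U¹`. -/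
theorem Gam_cases {g : GL chevG2.Idx K} (hg : g ∈ twistedG2 K e) :
    (∃ t u v s : K, s ≠ 0 ∧ g = reeU φ t u v * eta φ s) ∨
    (∃ t u v s t' u' v' : K, s ≠ 0 ∧ g = reeU φ t u v * n0 K * eta φ s * reeU φ t' u' v') := by
  have hF := Gam_le_Fix S hφ h3 hg
  rcases fix_cell S hF with hB | hc
  · obtain ⟨u, hu, h, hh, su, sh, rfl⟩ := B_fix S hB hF.2
    obtain ⟨t, u', v, rfl⟩ := U_fix S h3 hu su
    obtain ⟨s, hs, e1⟩ := H_fix S hh sh
    have e2 : h = eta φ s := Units.ext (by rw [e1, coe_eta φ hs])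
    exact Or.inl ⟨t, u', v, s, hs, by rw [e2]⟩
  · obtain ⟨u, hu, h, hh, u₂, hu₂, su, sh, su₂, rfl⟩ := cell_fix S (s_n0 S hφ h3 he) hc hF.2
    obtain ⟨t, u', v, rfl⟩ := U_fix S h3 hu su
    obtain ⟨t₂, u₂', v₂, rfl⟩ := U_fix S h3 hu₂ su₂
    obtain ⟨s, hs, e1⟩ := H_fix S hh sh
    have e2 : h = eta φ s := Units.ext (by rw [e1, coe_eta φ hs])
    exact Or.inr ⟨t, u', v, s, t₂, u₂', v₂, hs, by rw [e2]⟩

include S hφ h3 hK he in
/-- The order of the Ree group. -/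
theorem card_Gam : Nat.card ↥(twistedG2 K e) =
    Fintype.card K ^ 3 * (Fintype.card K - 1) * (Fintype.card K ^ 3 + 1) := by
  have hmem1 : ∀ (p : K × K × K) (s : Kˣ), reeU φ p.1 p.2.1 p.2.2 * eta φ (s : K) ∈
      twistedG2 K e := fun p s =>
    Subgroup.mul_mem _ (reeU_mem_Gam hφ _ _ _) (eta_mem_Gam hφ h3 hK he s.ne_zero)
  have hmem2 : ∀ (p : K × K × K) (s : Kˣ) (p' : K × K × K),
      reeU φ p.1 p.2.1 p.2.2 * n0 K * eta φ (s : K) * reeU φ p'.1 p'.2.1 p'.2.2 ∈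
      twistedG2 K e := fun p s p' =>
    Subgroup.mul_mem _ (Subgroup.mul_mem _ (Subgroup.mul_mem _ (reeU_mem_Gam hφ _ _ _)
      (n0_mem_Gam (e_ne he))) (eta_mem_Gam hφ h3 hK he s.ne_zero)) (reeU_mem_Gam hφ _ _ _)
  let F : ((K × K × K) × Kˣ) ⊕ ((K × K × K) × Kˣ × (K × K × K)) → ↥(twistedG2 K e) := fun x =>
    match x with
    | Sum.inl q => ⟨_, hmem1 q.1 q.2⟩
    | Sum.inr q => ⟨_, hmem2 q.1 q.2.1 q.2.2⟩
  have hb : Function.Bijective F := by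
    constructor
    · rintro (⟨⟨t, u, v⟩, s⟩ | ⟨⟨t, u, v⟩, s, ⟨t₂, u₂, v₂⟩⟩)
        (⟨⟨t', u', v'⟩, s'⟩ | ⟨⟨t', u', v'⟩, s', ⟨t₂', u₂', v₂'⟩⟩) h
      · have h' : reeU φ t u v * eta φ (s : K) = reeU φ t' u' v' * eta φ (s' : K) :=
          congrArg Subtype.val h
        obtain ⟨e1, e2⟩ := UH_uniq (reeU_mem _ _ _) (reeU_mem _ _ _) (eta_mem_H φ s.ne_zero)
          (eta_mem_H φ s'.ne_zero) h'
        obtain ⟨f1, f2, f3⟩ := reeU_inj e1
        have f4 : s = s' := Units.ext (eta_inj φ s.ne_zero s'.ne_zero e2)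
        rw [f1, f2, f3, f4]
      · exfalso
        have h' : reeU φ t u v * eta φ (s : K) =
            reeU φ t' u' v' * n0 K * eta φ (s' : K) * reeU φ t₂' u₂' v₂' := congrArg Subtype.val h
        apply B_cell_disj (K := K) (g := reeU φ t u v * eta φ (s : K))
        · exact Subgroup.mul_mem _ (U_le_B (reeU_mem _ _ _)) (H_le_B (eta_mem_H φ s.ne_zero))
        · rw [h']
          unfold cell
          rw [DoubleCoset.mem_doubleCoset]
          exact ⟨reeU φ t' u' v', U_le_B (reeU_mem t' u' v'),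
            eta φ (s' : K) * reeU φ t₂' u₂' v₂', Subgroup.mul_mem _
            (H_le_B (eta_mem_H φ s'.ne_zero)) (U_le_B (reeU_mem t₂' u₂' v₂')), by group⟩
      · exfalso
        have h' : reeU φ t u v * n0 K * eta φ (s : K) * reeU φ t₂ u₂ v₂ =
            reeU φ t' u' v' * eta φ (s' : K) := congrArg Subtype.val h
        apply B_cell_disj (K := K) (g := reeU φ t' u' v' * eta φ (s' : K))
        · exact Subgroup.mul_mem _ (U_le_B (reeU_mem _ _ _)) (H_le_B (eta_mem_H φ s'.ne_zero))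
        · rw [← h']
          unfold cell
          rw [DoubleCoset.mem_doubleCoset]
          exact ⟨reeU φ t u v, U_le_B (reeU_mem t u v),
            eta φ (s : K) * reeU φ t₂ u₂ v₂, Subgroup.mul_mem _
            (H_le_B (eta_mem_H φ s.ne_zero)) (U_le_B (reeU_mem t₂ u₂ v₂)), by group⟩
      · have h' : reeU φ t u v * n0 K * eta φ (s : K) * reeU φ t₂ u₂ v₂ =
            reeU φ t' u' v' * n0 K * eta φ (s' : K) * reeU φ t₂' u₂' v₂' := congrArg Subtype.val h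
        obtain ⟨e1, e2, e3⟩ := bigcell_uniq (reeU_mem _ _ _) (reeU_mem _ _ _)
          (eta_mem_H φ s.ne_zero) (eta_mem_H φ s'.ne_zero) (reeU_mem _ _ _) (reeU_mem _ _ _) h'
        obtain ⟨f1, f2, f3⟩ := reeU_inj e1
        obtain ⟨g1, g2, g3⟩ := reeU_inj e3
        have f4 : s = s' := Units.ext (eta_inj φ s.ne_zero s'.ne_zero e2)
        rw [f1, f2, f3, f4, g1, g2, g3]
    · rintro ⟨g, hg⟩
      rcases Gam_cases S hφ h3 hK he hg with ⟨t, u, v, s, hs, rfl⟩ | ⟨t, u, v, s, t', u', v', hs, rfl⟩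
      · exact ⟨Sum.inl ((t, u, v), Units.mk0 s hs), rfl⟩
      · exact ⟨Sum.inr ((t, u, v), Units.mk0 s hs, (t', u', v')), rfl⟩
  rw [← Nat.card_congr (Equiv.ofBijective F hb)]
  simp only [Nat.card_sum, Nat.card_prod, Nat.card_units, Nat.card_eq_fintype_card,
    Fintype.card_prod]
  ring

end char3

end Cfsg.Agent.Lib.Helper18.Ree11
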