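import Mathlib
import Cfsg.Agent.Lib.Helper18.Ree11

set_option autoImplicit false
set_option linter.unusedSimpArgs false
set_option linter.unusedSectionVars false
set_option linter.unusedVariables false

/-!
# The `(B, N)`-pair of the Ree group
-/

namespace Cfsg.Agent.Lib.Helper18.Ree12

open Cfsg Cfsg.Lie Cfsg.Agent.Lib.Helper18.Fast Cfsg.Agent.Lib.Helper18.Grade
  Cfsg.Agent.Lib.Helper18.Facts Cfsg.Agent.Lib.Helper18.AllRoots Cfsg.Agent.Lib.Helper18.Loop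
  Cfsg.Agent.Lib.Helper18.Weyl Cfsg.Agent.Lib.Helper18.RootSys Cfsg.Agent.Lib.Helper18.Orbit
  Cfsg.Agent.Lib.Helper18.Units Cfsg.Agent.Lib.Helper18.Sub Cfsg.Agent.Lib.Helper18.Norm
  Cfsg.Agent.Lib.Helper18.HAll Cfsg.Agent.Lib.Helper18.Torus Cfsg.Agent.Lib.Helper18.Pos
  Cfsg.Agent.Lib.Helper18.WGroup Cfsg.Agent.Lib.Helper18.BNChev Cfsg.Agent.Lib.Helper18.Mono
  Cfsg.Agent.Lib.Helper18.BNPairC Cfsg.Agent.Lib.Helper18.UOrd Cfsg.Agent.Lib.Helper18.Cox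
  Cfsg.Agent.Lib.Helper18.Long Cfsg.Agent.Lib.Helper18.Core Cfsg.Agent.Lib.Helper18.Conj
  Cfsg.Agent.Lib.Helper18.RFact Cfsg.Agent.Lib.Helper18.BNCell Cfsg.Agent.Lib.Helper18.Vec
  Cfsg.Agent.Lib.Helper18.XMat Cfsg.Agent.Lib.Helper18.Cells Cfsg.Agent.Lib.Helper18.Cox2
  Cfsg.Agent.Lib.Helper18.Cells2 Cfsg.Agent.Lib.Helper18.BNAbs
  Cfsg.Agent.Lib.Helper18.Ree1 Cfsg.Agent.Lib.Helper18.Ree2 Cfsg.Agent.Lib.Helper18.Ree3
  Cfsg.Agent.Lib.Helper18.Ree4 Cfsg.Agent.Lib.Helper18.Ree5 Cfsg.Agent.Lib.Helper18.Ree6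
  Cfsg.Agent.Lib.Helper18.Ree7 Cfsg.Agent.Lib.Helper18.Ree8 Cfsg.Agent.Lib.Helper18.Ree9
  Cfsg.Agent.Lib.Helper18.Ree10 Cfsg.Agent.Lib.Helper18.Ree11 Cfsg.Agent.Lib.Helper18.TwBN

open Cfsg.Agent.Lib.Helper18 (CAll.cfG2 ChainAll.rG2 UAll.uG2 LAll.wdG2 LAll.lG2 FTabG2.fd
  WTabG2.X)

variable {K : Type*} [Field K]

/-- A subgroup of index two is the kernel of a surjection onto the group with two elements. -/
theorem exists_hom_of_index_two {G : Type*} [Group G] (H : Subgroup G) (h : H.index = 2) :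
    ∃ f : G →* Multiplicative (ZMod 2), Function.Surjective f ∧ f.ker = H := by
  haveI := Subgroup.normal_of_index_eq_two h
  have h1 : Nat.card (G ⧸ H) = 2 := by rw [← Subgroup.index_eq_card, h]
  have h2 : Nat.card (Multiplicative (ZMod 2)) = 2 := by
    rw [Nat.card_eq_fintype_card]
    rfl
  let ee := mulEquivOfPrimeCardEq (p := 2) h1 h2
  refine ⟨ee.toMonoidHom.comp (QuotientGroup.mk' H), ?_, ?_⟩
  · exact ee.surjective.comp (QuotientGroup.mk'_surjective H)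
  · ext x
    rw [MonoidHom.mem_ker, MonoidHom.comp_apply]
    show ee (QuotientGroup.mk' H x) = 1 ↔ x ∈ H
    rw [map_eq_one_iff ee ee.injective, QuotientGroup.mk'_apply, QuotientGroup.eq_one_iff]

section char3

variable [CharP K 3] {φ : K →+* K} (S : Sig K φ) {e : ℕ} (hφ : ∀ x, φ x = x ^ e)
  (h3 : ∀ x : K, φ (φ x) ^ 3 = x) [Fintype K] {m : ℕ} (hK : Fintype.card K = 3 ^ (2 * m + 1))
  (he : e = 3 ^ m)

include S hφ h3 he in
/-- The elements of `N ∩ ²G₂` lie in `H` or in `n₀ H`. -/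
theorem N_cases {n : GL chevG2.Idx K} (hn : n ∈ chevG2.monomialSubgroup K ⊓ twistedG2 K e) :
    n ∈ chevG2.diagonalSubgroup K ∨ (n0 K)⁻¹ * n ∈ chevG2.diagonalSubgroup K := by
  rcases fix_cell S (Gam_le_Fix S hφ h3 hn.2) with hB | hc
  · left
    have : n ∈ chevG2.borelSubgroup K ⊓ chevG2.monomialSubgroup K := ⟨hB, hn.1⟩
    rwa [borel_inf_monomial CAll.cfG2.af CAll.cfG2.pw] at this
  · right
    have h2 : n ∈ DoubleCoset.doubleCoset n (chevG2.borelSubgroup K : Set (GL chevG2.Idx K))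
        (chevG2.borelSubgroup K) := by
      rw [DoubleCoset.mem_doubleCoset]
      exact ⟨1, Subgroup.one_mem _, 1, Subgroup.one_mem _, by simp⟩
    have h4 := dc_unique CAll.cfG2 haddG hinjG n0_mem_N hn.1 hc h2
    have h5 := N_conj_H' (K := K) n0_mem_N h4
    have e1 : (n0 K)⁻¹ * (n * (n0 K)⁻¹) * n0 K = (n0 K)⁻¹ * n := by group
    rwa [e1] at h5

include hφ h3 hK he in
theorem eta_mem_BG {s : K} (hs : s ≠ 0) :
    eta φ s ∈ chevG2.borelSubgroup K ⊓ twistedG2 K e :=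
  ⟨H_le_B (eta_mem_H φ hs), eta_mem_Gam hφ h3 hK he hs⟩

include hφ in
theorem reeU_mem_BG (t u v : K) : reeU φ t u v ∈ chevG2.borelSubgroup K ⊓ twistedG2 K e :=
  ⟨U_le_B (reeU_mem t u v), reeU_mem_Gam hφ t u v⟩

include S hφ h3 hK he in
/-- `H ∩ ²G₂ ≤ B ∩ ²G₂`. -/
theorem HG_le_BG {h : GL chevG2.Idx K} (hh : h ∈ chevG2.diagonalSubgroup K)
    (hg : h ∈ twistedG2 K e) : h ∈ chevG2.borelSubgroup K ⊓ twistedG2 K e := ⟨H_le_B hh, hg⟩

include S hφ h3 hK he in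
/-- The `(B, N)`-pair of the Ree group. -/
theorem bn_ree : ∃ P : Cfsg.BNPair ↥(twistedG2 K e),
    P.B = (chevG2.borelSubgroup K ⊓ twistedG2 K e).subgroupOf (twistedG2 K e) ∧
    P.N = (chevG2.monomialSubgroup K ⊓ twistedG2 K e).subgroupOf (twistedG2 K e) ∧
    P.S = {s : ↥(twistedG2 K e) | (s : GL chevG2.Idx K) ∈ ({n0 K} : Set (GL chevG2.Idx K))} := by
  have hn0G : n0 K ∈ twistedG2 K e := n0_mem_Gam (e_ne he)
  have hn0N : n0 K ∈ chevG2.monomialSubgroup K ⊓ twistedG2 K e := ⟨n0_mem_N, hn0G⟩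
  have hsq : n0 K * n0 K ∈ chevG2.borelSubgroup K ⊓ twistedG2 K e :=
    ⟨H_le_B n0_sq, Subgroup.mul_mem _ hn0G hn0G⟩
  apply bnPair_of_internal (twistedG2 K e) (chevG2.borelSubgroup K) (chevG2.monomialSubgroup K)
    {n0 K}
  · -- generation
    intro g hg
    rcases Gam_cases S hφ h3 hK he hg with ⟨t, u, v, s, hs, rfl⟩ | ⟨t, u, v, s, t', u', v', hs, rfl⟩
    · exact Subgroup.mem_sup_left (Subgroup.mul_mem _ (reeU_mem_BG hφ _ _ _)
        (eta_mem_BG hφ h3 hK he hs))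
    · exact Subgroup.mul_mem _ (Subgroup.mul_mem _ (Subgroup.mul_mem _
        (Subgroup.mem_sup_left (reeU_mem_BG hφ _ _ _)) (Subgroup.mem_sup_right hn0N))
        (Subgroup.mem_sup_left (eta_mem_BG hφ h3 hK he hs)))
        (Subgroup.mem_sup_left (reeU_mem_BG hφ _ _ _))
  · -- conjugation
    intro n hn t ht
    rw [borel_inf_monomial CAll.cfG2.af CAll.cfG2.pw] at ht
    exact H_le_B (N_conj_H hn.1 ht)
  · intro s hs
    rw [Set.mem_singleton_iff] at hs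
    rw [hs]
    exact hn0N
  · intro s hs
    rw [Set.mem_singleton_iff] at hs
    rw [hs]
    exact hsq.1
  · intro s hs s' hs' _
    rw [Set.mem_singleton_iff] at hs hs'
    rw [hs, hs']
  · intro n hn
    rcases N_cases S hφ h3 he hn with h | h
    · exact ⟨1, Subgroup.one_mem _, by simpa using H_le_B h⟩
    · exact ⟨n0 K, Subgroup.subset_closure rfl, H_le_B h⟩
  · -- the main axiom
    intro s hs n hn b hb
    rw [Set.mem_singleton_iff] at hs
    subst hs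
    rcases N_cases S hφ h3 he hn with h | h
    · left
      have hnB : n ∈ chevG2.borelSubgroup K ⊓ twistedG2 K e := ⟨H_le_B h, hn.2⟩
      exact ⟨1, Subgroup.one_mem _, n⁻¹ * b * n,
        Subgroup.mul_mem _ (Subgroup.mul_mem _ (Subgroup.inv_mem _ hnB) hb) hnB, by group⟩
    · have hh' : (n0 K)⁻¹ * n ∈ chevG2.borelSubgroup K ⊓ twistedG2 K e :=
        ⟨H_le_B h, Subgroup.mul_mem _ (Subgroup.inv_mem _ hn0G) hn.2⟩
      have hg : n0 K * b * n0 K ∈ twistedG2 K e :=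
        Subgroup.mul_mem _ (Subgroup.mul_mem _ hn0G hb.2) hn0G
      rcases Gam_cases S hφ h3 hK he hg with ⟨t, u, v, s, hs, e1⟩ | ⟨t, u, v, s, t', u', v', hs, e1⟩
      · left
        have hgB : n0 K * b * n0 K ∈ chevG2.borelSubgroup K ⊓ twistedG2 K e := by
          rw [e1]
          exact Subgroup.mul_mem _ (reeU_mem_BG hφ _ _ _) (eta_mem_BG hφ h3 hK he hs)
        have hnn : n0 K * n ∈ chevG2.borelSubgroup K ⊓ twistedG2 K e := by
          have : n0 K * n = n0 K * n0 K * ((n0 K)⁻¹ * n) := by group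
          rw [this]
          exact Subgroup.mul_mem _ hsq hh'
        refine ⟨n0 K * b * n0 K * ((n0 K)⁻¹ * n) * (n0 K * n)⁻¹,
          Subgroup.mul_mem _ (Subgroup.mul_mem _ hgB hh') (Subgroup.inv_mem _ hnn), 1,
          Subgroup.one_mem _, by group⟩
      · right
        refine ⟨reeU φ t u v, reeU_mem_BG hφ _ _ _,
          ((n0 K)⁻¹ * n)⁻¹ * (eta φ s * reeU φ t' u' v') * ((n0 K)⁻¹ * n),
          Subgroup.mul_mem _ (Subgroup.mul_mem _ (Subgroup.inv_mem _ hh')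
            (Subgroup.mul_mem _ (eta_mem_BG hφ h3 hK he hs) (reeU_mem_BG hφ _ _ _))) hh', ?_⟩
        have e2 : n0 K * b * n = n0 K * b * n0 K * ((n0 K)⁻¹ * n) := by group
        rw [e2, e1]
        group
  · -- non-degeneracy
    intro s hs
    rw [Set.mem_singleton_iff] at hs
    subst hs
    refine ⟨reeU φ 0 1 0, reeU_mem_BG hφ _ _ _, ?_⟩
    intro hB
    have h1 : n0 K * reeU φ 0 1 0 * (n0 K)⁻¹ ∈ chevG2.borelSubgroup K := by
      have : n0 K * reeU φ 0 1 0 * (n0 K)⁻¹ = n0 K * reeU φ 0 1 0 * n0 K * (n0 K * n0 K)⁻¹ := by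
        group
      rw [this]
      exact Subgroup.mul_mem _ hB (Subgroup.inv_mem _ hsq.1)
    have h2 := long_conj_pos CAll.cfG2 LAll.lG2 (reeU_mem (φ := φ) (0 : K) 1 0)
    have h4 : n0 K * reeU φ 0 1 0 * (n0 K)⁻¹ ∈
        chevG2.borelSubgroup K ⊓ chevG2.negUnipotent K := ⟨h1, h2⟩
    rw [borel_inf_negUnipotent CAll.cfG2.af CAll.cfG2.pw, Subgroup.mem_bot] at h4
    have h5 : reeU φ (0 : K) 1 0 = 1 := by
      have := congrArg (fun x => (n0 K)⁻¹ * x * n0 K) h4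
      simpa [mul_assoc] using this
    have h6 : reeU φ (0 : K) 0 0 = 1 := by simp [reeU, nf, E4, X_zero]
    rw [← h6] at h5
    exact one_ne_zero (reeU_inj h5).2.1

include S hφ h3 hK he in
/-- `H ∩ ²G₂` has index two in `N ∩ ²G₂`. -/
theorem index_HN : ((chevG2.diagonalSubgroup K ⊓ twistedG2 K e).subgroupOf
    (chevG2.monomialSubgroup K ⊓ twistedG2 K e)).index = 2 := by
  have hn0G : n0 K ∈ twistedG2 K e := n0_mem_Gam (e_ne he)
  have hn0N : n0 K ∈ chevG2.monomialSubgroup K ⊓ twistedG2 K e := ⟨n0_mem_N, hn0G⟩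
  have hn0H : n0 K ∉ chevG2.diagonalSubgroup K := fun h => n0_not_mem_B (H_le_B h)
  rw [Subgroup.index_eq_two_iff]
  refine ⟨⟨n0 K, hn0N⟩, fun b => ?_⟩
  have key : ∀ x : ↥(chevG2.monomialSubgroup K ⊓ twistedG2 K e),
      x ∈ (chevG2.diagonalSubgroup K ⊓ twistedG2 K e).subgroupOf
        (chevG2.monomialSubgroup K ⊓ twistedG2 K e) ↔
      (x : GL chevG2.Idx K) ∈ chevG2.diagonalSubgroup K := by
    intro x
    rw [Subgroup.mem_subgroupOf]
    exact ⟨fun h => h.1, fun h => ⟨h, x.2.2⟩⟩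
  rw [key, key]
  show Xor' ((b : GL chevG2.Idx K) * n0 K ∈ chevG2.diagonalSubgroup K)
    ((b : GL chevG2.Idx K) ∈ chevG2.diagonalSubgroup K)
  rcases N_cases S hφ h3 he b.2 with h | h
  · right
    refine ⟨h, fun h' => hn0H ?_⟩
    have : n0 K = (b : GL chevG2.Idx K)⁻¹ * ((b : GL chevG2.Idx K) * n0 K) := by group
    rw [this]
    exact Subgroup.mul_mem _ (Subgroup.inv_mem _ h) h'
  · left
    have h1 : (b : GL chevG2.Idx K) * n0 K ∈ chevG2.diagonalSubgroup K := by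
      have e1 : (b : GL chevG2.Idx K) * n0 K =
          n0 K * n0 K * ((n0 K)⁻¹ * ((n0 K)⁻¹ * (b : GL chevG2.Idx K)) * n0 K) := by group
      rw [e1]
      exact Subgroup.mul_mem _ n0_sq (N_conj_H' n0_mem_N h)
    refine ⟨h1, fun h' => hn0H ?_⟩
    have : n0 K = (b : GL chevG2.Idx K) * ((n0 K)⁻¹ * (b : GL chevG2.Idx K))⁻¹ := by group
    rw [this]
    exact Subgroup.mul_mem _ h' (Subgroup.inv_mem _ h)

end char3

end Cfsg.Agent.Lib.Helper18.Ree12
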