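import Mathlib
import Cfsg.Agent.Lib.Helper18.Ree2
import Cfsg.Agent.Lib.Helper18.Tw0

set_option autoImplicit false
set_option linter.unusedSimpArgs false
set_option linter.unusedSectionVars false
set_option linter.unusedVariables false

/-!
# The twisting endomorphism of `G₂` from the graph automorphism on fundamental root elements

Given an endomorphism `α` of `G₂(K)` (characteristic 3) with `x_a(t) ↦ x_b(t³)`, `x_b(t) ↦ x_a(t)`
and the same on the negative fundamental roots, the other root elements are conjugates of the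
fundamental ones by words in `n_a`, `n_b`, which determines `α` on all twelve root subgroups.
Composing with the entrywise action of a ring endomorphism gives a `Ree2.Sig`.
-/

namespace Cfsg.Agent.Lib.Helper18.Ree13

open Cfsg Cfsg.Lie Cfsg.Agent.Lib.Helper18 Cfsg.Agent.Lib.Helper18.Fast
  Cfsg.Agent.Lib.Helper18.Facts Cfsg.Agent.Lib.Helper18.WGroup Cfsg.Agent.Lib.Helper18.BNPairC
  Cfsg.Agent.Lib.Helper18.UOrd Cfsg.Agent.Lib.Helper18.UNF Cfsg.Agent.Lib.Helper18.Units
  Cfsg.Agent.Lib.Helper18.Sub Cfsg.Agent.Lib.Helper18.Core Cfsg.Agent.Lib.Helper18.Ree1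
  Cfsg.Agent.Lib.Helper18.Ree2
  Cfsg.Agent.Lib.Helper36 Cfsg.Agent.Lib.Helper36.ChevEngine Cfsg.Agent.Lib.Helper36.ChevSound
  Cfsg.Agent.Lib.Helper19.TwEngine

variable {K : Type*} [Field K]

/-- The entrywise action of a ring endomorphism preserves the Chevalley group. -/
theorem map_mem (φ : K →+* K) {g : GL chevG2.Idx K} (hg : g ∈ chevG2.group K) :
    Matrix.GeneralLinearGroup.map φ g ∈ chevG2.group K := by
  have h1 : chevG2.group K ≤ (chevG2.group K).comap (Matrix.GeneralLinearGroup.map φ) := by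
    unfold ChevalleyDatum.group
    rw [Subgroup.closure_le]
    rintro g ⟨r, t, hg⟩
    have hg' : g = X K r.val t := by
      apply Units.ext
      rw [hg, coe_X, Vec.x_eq_xMat r.isLt]
    show Matrix.GeneralLinearGroup.map φ g ∈ Subgroup.closure _
    rw [hg']
    have := Tw0.map_xg CAll.cfG2.af φ r.val t
    rw [this]
    exact X_mem _ _
  exact h1 hg

/-- the constant `1` -/
def p1 : Param := [⟨1, 0, 0, 0⟩]
/-- the constant `-1` -/
def pm : Param := [⟨-1, 0, 0, 0⟩]

theorem ev_p1 (t u v : K) : evalParam t u v p1 = 1 := by simp [p1, evalParam, monoEval]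
theorem ev_pm (t u v : K) : evalParam t u v pm = -1 := by simp [pm, evalParam, monoEval]

/-- the word of `n_a` -/
def na : SWord := [(7, p1), (4, pm), (7, p1)]
/-- the word of `n_a⁻¹` -/
def nai : SWord := [(7, pm), (4, p1), (7, pm)]
/-- the word of `n_b` -/
def nb : SWord := [(6, p1), (5, pm), (6, p1)]
/-- the word of `n_b⁻¹` -/
def nbi : SWord := [(6, pm), (5, p1), (6, pm)]

section char3

variable [CharP K 3]

set_option maxRecDepth 100000 in
theorem chk8 : checkRelP 3 ChevTabG2.tab chevG2.rank chevG2.nroots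
    [(8, mt)] (nb ++ [(7, mt)] ++ nbi) = true := by decide +kernel

set_option maxRecDepth 100000 in
theorem chk9 : checkRelP 3 ChevTabG2.tab chevG2.rank chevG2.nroots
    [(9, mt)] (na ++ nb ++ [(7, mt)] ++ nbi ++ nai) = true := by decide +kernel

set_option maxRecDepth 100000 in
theorem chk10 : checkRelP 3 ChevTabG2.tab chevG2.rank chevG2.nroots
    [(10, mt)] (na ++ [(6, mt)] ++ nai) = true := by decide +kernel

set_option maxRecDepth 100000 in
theorem chk11 : checkRelP 3 ChevTabG2.tab chevG2.rank chevG2.nroots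
    [(11, mt)] (nb ++ na ++ [(6, mt)] ++ nai ++ nbi) = true := by decide +kernel

set_option maxRecDepth 100000 in
theorem chk3 : checkRelP 3 ChevTabG2.tab chevG2.rank chevG2.nroots
    [(3, mt)] (nb ++ [(4, mt)] ++ nbi) = true := by decide +kernel

set_option maxRecDepth 100000 in
theorem chk2 : checkRelP 3 ChevTabG2.tab chevG2.rank chevG2.nroots
    [(2, mt)] (na ++ nb ++ [(4, mt)] ++ nbi ++ nai) = true := by decide +kernel

set_option maxRecDepth 100000 in
theorem chk1 : checkRelP 3 ChevTabG2.tab chevG2.rank chevG2.nroots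
    [(1, mt)] (na ++ [(5, mt)] ++ nai) = true := by decide +kernel

set_option maxRecDepth 100000 in
theorem chk0 : checkRelP 3 ChevTabG2.tab chevG2.rank chevG2.nroots
    [(0, mt)] (nb ++ na ++ [(5, mt)] ++ nai ++ nbi) = true := by decide +kernel

theorem x8 (t : K) : X K 8 t =
    wg K [(6, 1), (5, -1), (6, 1), (7, t), (6, -1), (5, 1), (6, -1)] := by
  have := rel_of_chk _ _ chk8 t (0 : K) (0 : K)
  simpa [evalWord, na, nai, nb, nbi, ev_mt, ev_p1, ev_pm, wg] using this

theorem x9 (t : K) : X K 9 t =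
    wg K [(7, 1), (4, -1), (7, 1), (6, 1), (5, -1), (6, 1), (7, t), (6, -1), (5, 1), (6, -1),
      (7, -1), (4, 1), (7, -1)] := by
  have := rel_of_chk _ _ chk9 t (0 : K) (0 : K)
  simpa [evalWord, na, nai, nb, nbi, ev_mt, ev_p1, ev_pm, wg] using this

theorem x10 (t : K) : X K 10 t =
    wg K [(7, 1), (4, -1), (7, 1), (6, t), (7, -1), (4, 1), (7, -1)] := by
  have := rel_of_chk _ _ chk10 t (0 : K) (0 : K)
  simpa [evalWord, na, nai, nb, nbi, ev_mt, ev_p1, ev_pm, wg] using this

theorem x11 (t : K) : X K 11 t =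
    wg K [(6, 1), (5, -1), (6, 1), (7, 1), (4, -1), (7, 1), (6, t), (7, -1), (4, 1), (7, -1),
      (6, -1), (5, 1), (6, -1)] := by
  have := rel_of_chk _ _ chk11 t (0 : K) (0 : K)
  simpa [evalWord, na, nai, nb, nbi, ev_mt, ev_p1, ev_pm, wg] using this

theorem x3 (t : K) : X K 3 t =
    wg K [(6, 1), (5, -1), (6, 1), (4, t), (6, -1), (5, 1), (6, -1)] := by
  have := rel_of_chk _ _ chk3 t (0 : K) (0 : K)
  simpa [evalWord, na, nai, nb, nbi, ev_mt, ev_p1, ev_pm, wg] using this

theorem x2 (t : K) : X K 2 t =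
    wg K [(7, 1), (4, -1), (7, 1), (6, 1), (5, -1), (6, 1), (4, t), (6, -1), (5, 1), (6, -1),
      (7, -1), (4, 1), (7, -1)] := by
  have := rel_of_chk _ _ chk2 t (0 : K) (0 : K)
  simpa [evalWord, na, nai, nb, nbi, ev_mt, ev_p1, ev_pm, wg] using this

theorem x1 (t : K) : X K 1 t =
    wg K [(7, 1), (4, -1), (7, 1), (5, t), (7, -1), (4, 1), (7, -1)] := by
  have := rel_of_chk _ _ chk1 t (0 : K) (0 : K)
  simpa [evalWord, na, nai, nb, nbi, ev_mt, ev_p1, ev_pm, wg] using this

theorem x0 (t : K) : X K 0 t =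
    wg K [(6, 1), (5, -1), (6, 1), (7, 1), (4, -1), (7, 1), (5, t), (7, -1), (4, 1), (7, -1),
      (6, -1), (5, 1), (6, -1)] := by
  have := rel_of_chk _ _ chk0 t (0 : K) (0 : K)
  simpa [evalWord, na, nai, nb, nbi, ev_mt, ev_p1, ev_pm, wg] using this

/-- The exponent of the graph automorphism: `3` on short roots, `1` on long roots. -/
def lam (r : ℕ) : ℕ := if r ∈ [2, 3, 4, 7, 8, 9] then 3 else 1

/-- The image of a word under the graph automorphism. -/
def grW (w : List (ℕ × K)) : List (ℕ × K) := w.map fun p => (pi p.1, p.2 ^ lam p.1)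

/-- An endomorphism of `G₂(K)`, extended by `1` outside the group. -/
noncomputable def ext (α : ↥(chevG2.group K) →* ↥(chevG2.group K)) (g : GL chevG2.Idx K) :
    GL chevG2.Idx K :=
  open Classical in
  if h : g ∈ chevG2.group K then ((α ⟨g, h⟩ : ↥(chevG2.group K)) : GL chevG2.Idx K) else 1

theorem ext_mul (α : ↥(chevG2.group K) →* ↥(chevG2.group K)) {g g' : GL chevG2.Idx K}
    (hg : g ∈ chevG2.group K) (hg' : g' ∈ chevG2.group K) :
    ext α (g * g') = ext α g * ext α g' := by
  unfold ext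
  rw [dif_pos hg, dif_pos hg', dif_pos (Subgroup.mul_mem _ hg hg')]
  have : (⟨g * g', Subgroup.mul_mem _ hg hg'⟩ : ↥(chevG2.group K)) = ⟨g, hg⟩ * ⟨g', hg'⟩ := rfl
  rw [this, map_mul]
  rfl

theorem ext_one (α : ↥(chevG2.group K) →* ↥(chevG2.group K)) : ext α 1 = 1 := by
  unfold ext
  rw [dif_pos (Subgroup.one_mem _)]
  have : (⟨1, Subgroup.one_mem _⟩ : ↥(chevG2.group K)) = 1 := rfl
  rw [this, map_one]
  rfl

/-- The action on words in the fundamental root elements and their negatives. -/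
theorem ext_word (α : ↥(chevG2.group K) →* ↥(chevG2.group K))
    (hx : ∀ r ∈ [4, 5, 6, 7], ∀ t : K, ext α (X K r t) = X K (pi r) (t ^ lam r))
    (w : List (ℕ × K)) (hw : ∀ p ∈ w, p.1 ∈ [4, 5, 6, 7]) :
    ext α (wg K w) = wg K (grW w) := by
  induction w with
  | nil => exact ext_one α
  | cons p w ih =>
    rw [wg_cons, ext_mul α (X_mem _ _) (wg_mem _), hx p.1 (hw p List.mem_cons_self),
      ih (fun q hq => hw q (List.mem_cons_of_mem _ hq))]
    simp [grW, wg_cons]

/-- The action on all root elements. -/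
theorem ext_X (α : ↥(chevG2.group K) →* ↥(chevG2.group K))
    (hx : ∀ r ∈ [4, 5, 6, 7], ∀ t : K, ext α (X K r t) = X K (pi r) (t ^ lam r))
    (r : ℕ) (hr : r < 12) (t : K) : ext α (X K r t) = X K (pi r) (t ^ lam r) := by
  have h3 : ((-1 : K)) ^ 3 = -1 := by ring
  interval_cases r
  · rw [x0, ext_word α hx _ (by simp)]
    have h : pi 0 = 2 := rfl
    have hl : lam 0 = 1 := rfl
    rw [h, hl, x2]
    simp [grW, pi, lam, h3]
  · rw [x1, ext_word α hx _ (by simp)]
    have h : pi 1 = 3 := rfl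
    have hl : lam 1 = 1 := rfl
    rw [h, hl, x3]
    simp [grW, pi, lam, h3]
  · rw [x2, ext_word α hx _ (by simp)]
    have h : pi 2 = 0 := rfl
    have hl : lam 2 = 3 := rfl
    rw [h, hl, x0]
    simp [grW, pi, lam, h3]
  · rw [x3, ext_word α hx _ (by simp)]
    have h : pi 3 = 1 := rfl
    have hl : lam 3 = 3 := rfl
    rw [h, hl, x1]
    simp [grW, pi, lam, h3]
  · exact hx 4 (by simp) t
  · exact hx 5 (by simp) t
  · exact hx 6 (by simp) t
  · exact hx 7 (by simp) t
  · rw [x8, ext_word α hx _ (by simp)]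
    have h : pi 8 = 10 := rfl
    have hl : lam 8 = 3 := rfl
    rw [h, hl, x10]
    simp [grW, pi, lam, h3]
  · rw [x9, ext_word α hx _ (by simp)]
    have h : pi 9 = 11 := rfl
    have hl : lam 9 = 3 := rfl
    rw [h, hl, x11]
    simp [grW, pi, lam, h3]
  · rw [x10, ext_word α hx _ (by simp)]
    have h : pi 10 = 8 := rfl
    have hl : lam 10 = 1 := rfl
    rw [h, hl, x8]
    simp [grW, pi, lam, h3]
  · rw [x11, ext_word α hx _ (by simp)]
    have h : pi 11 = 9 := rfl
    have hl : lam 11 = 1 := rfl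
    rw [h, hl, x9]
    simp [grW, pi, lam, h3]

/-- The twisting endomorphism built from a graph automorphism given on the fundamental root
elements and a ring endomorphism of the field. -/
theorem exists_sig (φ : K →+* K)
    (hα : ∃ α : ↥(chevG2.group K) ≃* ↥(chevG2.group K),
      ∀ (g : ↥(chevG2.group K)) (t : K),
      (((g : GL chevG2.Idx K) : Matrix _ _ K) = chevG2.x K g2a t →
        ((α g : GL chevG2.Idx K) : Matrix _ _ K) = chevG2.x K g2b (t ^ 3)) ∧
      (((g : GL chevG2.Idx K) : Matrix _ _ K) = chevG2.x K g2b t →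
        ((α g : GL chevG2.Idx K) : Matrix _ _ K) = chevG2.x K g2a t) ∧
      (((g : GL chevG2.Idx K) : Matrix _ _ K) = chevG2.x K g2ma t →
        ((α g : GL chevG2.Idx K) : Matrix _ _ K) = chevG2.x K g2mb (t ^ 3)) ∧
      (((g : GL chevG2.Idx K) : Matrix _ _ K) = chevG2.x K g2mb t →
        ((α g : GL chevG2.Idx K) : Matrix _ _ K) = chevG2.x K g2ma t)) :
    Nonempty (Sig K φ) := by
  obtain ⟨α, hα⟩ := hα
  have hx : ∀ r ∈ [4, 5, 6, 7], ∀ t : K,
      ext α.toMonoidHom (X K r t) = X K (pi r) (t ^ lam r) := by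
    intro r hr t
    unfold ext
    rw [dif_pos (X_mem r t)]
    apply Units.ext
    rw [coe_X]
    obtain ⟨h1, h2, h3, h4⟩ := hα ⟨X K r t, X_mem r t⟩ t
    simp only [List.mem_cons, List.not_mem_nil, or_false] at hr
    rcases hr with rfl | rfl | rfl | rfl
    · exact h3 (coe_X 4 t)
    · have := h4 (coe_X 5 t)
      simpa [pi, lam, g2ma] using this
    · have := h2 (coe_X 6 t)
      simpa [pi, lam, g2a] using this
    · exact h1 (coe_X 7 t)
  refine ⟨⟨fun g => ext α.toMonoidHom (Matrix.GeneralLinearGroup.map φ g), ?_, ?_⟩⟩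
  · intro g hg g' hg'
    show ext _ _ = ext _ _ * ext _ _
    rw [map_mul, ext_mul _ (map_mem φ hg) (map_mem φ hg')]
  · intro r hr t
    show ext _ _ = _
    have := Tw0.map_xg CAll.cfG2.af φ r t
    rw [this, ext_X _ hx r hr]
    unfold tw lam
    split_ifs <;> simp

end char3

end Cfsg.Agent.Lib.Helper18.Ree13
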