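import Mathlib
import Cfsg.Agent.Lib.Helper18.Ree12
import Cfsg.Agent.Lib.Helper18.Ree13

set_option autoImplicit false
set_option linter.unusedSimpArgs false
set_option linter.unusedSectionVars false
set_option linter.unusedVariables false

/-!
# The small Ree groups: elements of odd order of `H¹`, and the final statements

Everything is derived from the existence of the graph automorphism of `G₂` in characteristic 3
on the fundamental root elements (`HasGraph`).
-/

namespace Cfsg.Agent.Lib.Helper18.Ree14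

open Cfsg Cfsg.Lie Cfsg.Agent.Lib.Helper18 Cfsg.Agent.Lib.Helper18.Fast
  Cfsg.Agent.Lib.Helper18.Facts Cfsg.Agent.Lib.Helper18.WGroup Cfsg.Agent.Lib.Helper18.BNPairC
  Cfsg.Agent.Lib.Helper18.UOrd Cfsg.Agent.Lib.Helper18.UNF Cfsg.Agent.Lib.Helper18.Units
  Cfsg.Agent.Lib.Helper18.Sub Cfsg.Agent.Lib.Helper18.Core Cfsg.Agent.Lib.Helper18.Ree1
  Cfsg.Agent.Lib.Helper18.Ree2 Cfsg.Agent.Lib.Helper18.Ree3 Cfsg.Agent.Lib.Helper18.Ree4
  Cfsg.Agent.Lib.Helper18.Ree5 Cfsg.Agent.Lib.Helper18.Ree6 Cfsg.Agent.Lib.Helper18.Ree7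
  Cfsg.Agent.Lib.Helper18.Ree10 Cfsg.Agent.Lib.Helper18.Ree11 Cfsg.Agent.Lib.Helper18.Ree12
  Cfsg.Agent.Lib.Helper18.Ree13
  Cfsg.Agent.Lib.Helper18.Torus Cfsg.Agent.Lib.Helper18.XMat Cfsg.Agent.Lib.Helper18.Grade

variable {K : Type*} [Field K]

/-- The number of elements of odd order of the multiplicative group of a field with
`3^(2m+1)` elements is half of its order. -/
theorem card_odd_units [Fintype K] {m : ℕ}
    (hK : Fintype.card K = 3 ^ (2 * m + 1)) :
    2 * Nat.card {s : Kˣ // Odd (orderOf s)} = 3 ^ (2 * m + 1) - 1 := by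
  classical
  have hcard : Nat.card Kˣ = 3 ^ (2 * m + 1) - 1 := by
    rw [Nat.card_units, Nat.card_eq_fintype_card, hK]
  have h9 : 3 ^ (2 * m + 1) % 4 = 3 := by
    rw [pow_succ, pow_mul, Nat.mul_mod, Nat.pow_mod]
    norm_num
  obtain ⟨d, hd, hdodd⟩ : ∃ d, 3 ^ (2 * m + 1) - 1 = 2 * d ∧ Odd d := by
    refine ⟨(3 ^ (2 * m + 1) - 1) / 2, by omega, ?_⟩
    rw [Nat.odd_iff]
    omega
  have h2 : (2 : K) ≠ 0 := by
    intro h
    have h3 : ((3 : ℕ) : K) = 0 := by
      have := Nat.cast_card_eq_zero K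
      rw [hK] at this
      have h' : ((3 : ℕ) : K) ^ (2 * m + 1) = 0 := by exact_mod_cast this
      exact pow_eq_zero_iff (by omega) |>.mp h'
    have : (1 : K) = 0 := by
      have h3' : (3 : K) = 0 := by exact_mod_cast h3
      linear_combination h3' - h
    exact one_ne_zero this
  let sq : Kˣ →* Kˣ := powMonoidHom 2
  have hker : Nat.card sq.ker = 2 := by
    have e : (sq.ker : Set Kˣ) = {1, -1} := by
      ext s
      simp only [SetLike.mem_coe, MonoidHom.mem_ker, Set.mem_insert_iff, Set.mem_singleton_iff]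
      show s ^ 2 = 1 ↔ _
      rw [Units.ext_iff, Units.ext_iff, Units.ext_iff]
      push_cast
      exact sq_eq_one_iff
    have hne : (1 : Kˣ) ≠ -1 := by
      intro h
      have h' : (1 : K) = -1 := by
        have := congrArg (fun u : Kˣ => (u : K)) h
        simpa using this
      apply h2
      linear_combination h'
    show Nat.card ↥(sq.ker : Set Kˣ) = 2
    rw [e, Nat.card_coe_set_eq, Set.ncard_pair hne]
  have hrange : ∀ s : Kˣ, Odd (orderOf s) ↔ s ∈ sq.range := by
    intro s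
    constructor
    · rintro ⟨k, hk⟩
      refine ⟨s ^ (k + 1), ?_⟩
      show (s ^ (k + 1)) ^ 2 = s
      rw [← pow_mul, show (k + 1) * 2 = orderOf s + 1 by omega, pow_succ, pow_orderOf_eq_one,
        one_mul]
    · rintro ⟨r, rfl⟩
      have h1 : (sq r) ^ d = 1 := by
        show (r ^ 2) ^ d = 1
        rw [← pow_mul, ← hd, ← hcard]
        exact pow_card_eq_one'
      exact Odd.of_dvd_nat hdodd (orderOf_dvd_of_pow_eq_one h1)
  have h3 : Nat.card {s : Kˣ // Odd (orderOf s)} = Nat.card sq.range :=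
    Nat.card_congr (Equiv.subtypeEquivRight hrange)
  have h4 : Nat.card sq.range * Nat.card sq.ker = Nat.card Kˣ := by
    rw [← Subgroup.index_ker, mul_comm, Subgroup.card_mul_index]
  rw [h3, ← hcard, ← h4, hker, mul_comm]

theorem chi8 (c : ℕ → K) : chi FTabG2.fd c 8 = (c 0)⁻¹ * c 1 := by
  have e0 : carE FTabG2.fd 0 8 = -1 := by decide
  have e1 : carE FTabG2.fd 1 8 = 1 := by decide
  have hr : FTabG2.fd.rank = 2 := by decide
  unfold chi chiN
  rw [hr, Finset.prod_range_succ, Finset.prod_range_succ, Finset.prod_range_zero, e0, e1]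
  simp

theorem chi10 (c : ℕ → K) : chi FTabG2.fd c 10 = c 0 ^ 3 * (c 1)⁻¹ := by
  have e0 : carE FTabG2.fd 0 10 = 3 := by decide
  have e1 : carE FTabG2.fd 1 10 = -1 := by decide
  have hr : FTabG2.fd.rank = 2 := by decide
  unfold chi chiN
  rw [hr, Finset.prod_range_succ, Finset.prod_range_succ, Finset.prod_range_zero, e0, e1]
  simp [zpow_ofNat]

/-- The parameters of the torus element `h_a(s^θ) h_b(s)`. -/
def cc (φ : K →+* K) (s : K) : ℕ → K := fun i => if i = 0 then φ s else s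

theorem eta_mul_X (φ : K →+* K) {s : K} (hs : s ≠ 0) (r : ℕ) (hr : r < 12) (x : K) :
    eta φ s * X K r x = X K r (chi FTabG2.fd (cc φ s) r * x) * eta φ s := by
  apply Units.ext
  rw [Units.val_mul, Units.val_mul, coe_eta φ hs, coe_X, coe_X]
  refine tor_mul_x CAll.cfG2.af (show r < chevG2.nroots from hr) (fun i => ?_) x
  by_cases h : i = 0 <;> simp [cc, h, hs]

theorem comm2 {G : Type*} [Group G] {h a a' b b' : G} (h1 : h * a = a' * h)
    (h2 : h * b = b' * h) : h * (a * b) = a' * b' * h := by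
  rw [← mul_assoc, h1, mul_assoc, h2, mul_assoc]

theorem eta_mul_nf' (φ : K →+* K) {s : K} (hs : s ≠ 0) (B A p q r s' : K) :
    eta φ s * nf' B A p q r s' =
      nf' (chi FTabG2.fd (cc φ s) 6 * B) (chi FTabG2.fd (cc φ s) 7 * A)
        (chi FTabG2.fd (cc φ s) 8 * p) (chi FTabG2.fd (cc φ s) 9 * q)
        (chi FTabG2.fd (cc φ s) 10 * r) (chi FTabG2.fd (cc φ s) 11 * s') * eta φ s := by
  unfold nf' e4 E4
  exact comm2 (comm2 (eta_mul_X φ hs 6 (by norm_num) B) (eta_mul_X φ hs 7 (by norm_num) A))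
    (comm2 (comm2 (comm2 (eta_mul_X φ hs 8 (by norm_num) p) (eta_mul_X φ hs 9 (by norm_num) q))
      (eta_mul_X φ hs 10 (by norm_num) r)) (eta_mul_X φ hs 11 (by norm_num) s'))

section char3

variable [CharP K 3] {φ : K →+* K} (S : Sig K φ) {e : ℕ} (hφ : ∀ x, φ x = x ^ e)
  (h3 : ∀ x : K, φ (φ x) ^ 3 = x) [Fintype K] {m : ℕ} (hK : Fintype.card K = 3 ^ (2 * m + 1))
  (he : e = 3 ^ m)

include S hφ h3 hK he in
/-- A non-identity element of odd order of `H¹` centralises no non-identity element of `U¹`. -/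
theorem cent_trivial {h g : GL chevG2.Idx K}
    (hh : h ∈ chevG2.diagonalSubgroup K ⊓ twistedG2 K e) (h1 : h ≠ 1) (hodd : Odd (orderOf h))
    (hg : g ∈ chevG2.posUnipotent K ⊓ twistedG2 K e) (hc : h * g = g * h) : g = 1 := by
  obtain ⟨s, hs, rfl⟩ := (mem_H_Gam S hφ h3 hK he h).mp hh
  obtain ⟨t, u, v, rfl⟩ := (mem_U_Gam S hφ h3 g).mp hg
  rw [reeU_eq] at hc ⊢
  rw [eta_mul_nf' φ hs] at hc
  obtain ⟨-, -, e3, e4, e5, e6⟩ := nf'_inj (mul_right_cancel hc)
  rw [chi8] at e3
  rw [chi9] at e4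
  rw [chi10] at e5
  rw [chi11] at e6
  simp only [cc, if_pos, one_ne_zero, if_false] at e3 e4 e5 e6
  have hs1 : s ≠ 1 := by
    rintro rfl
    exact h1 (eta_one φ)
  have hφs : φ s ≠ 0 := (map_ne_zero φ).mpr hs
  have hφs1 : φ s ≠ 1 := fun h => hs1 (φ.injective (h.trans (map_one φ).symm))
  have hv : v = 0 := by
    have : (φ s - 1) * φ v = 0 := by linear_combination e4
    rcases mul_eq_zero.mp this with h | h
    · exact absurd (sub_eq_zero.mp h) hφs1
    · exact (map_eq_zero φ).mp h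
  have ht : t = 0 := by
    have : (s - 1) * (v + t ^ 2 * φ t ^ 3) = 0 := by linear_combination e6
    rcases mul_eq_zero.mp this with h | h
    · exact absurd (sub_eq_zero.mp h) hs1
    · rw [hv, zero_add] at h
      rcases mul_eq_zero.mp h with h | h
      · exact pow_eq_zero_iff (by norm_num) |>.mp h
      · exact (map_eq_zero φ).mp (pow_eq_zero_iff (by norm_num) |>.mp h)
  have hu : u = 0 := by
    by_contra hu
    have hφu : φ u ≠ 0 := (map_ne_zero φ).mpr hu
    have f1 : (φ s)⁻¹ * s = 1 := by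
      have : ((φ s)⁻¹ * s - 1) * φ u = 0 := by linear_combination e3
      rcases mul_eq_zero.mp this with h | h
      · exact sub_eq_zero.mp h
      · exact absurd h hφu
    have f1' : s = φ s := by
      field_simp at f1
      exact f1
    have f2 : φ s ^ 3 * s⁻¹ = 1 := by
      rw [ht] at e5
      have : (φ s ^ 3 * s⁻¹ - 1) * u = 0 := by
        have e5' : φ s ^ 3 * s⁻¹ * u = u := by simpa using e5
        linear_combination e5'
      rcases mul_eq_zero.mp this with h | h
      · exact sub_eq_zero.mp h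
      · exact absurd h hu
    have f2' : φ s ^ 3 = s := by
      field_simp at f2
      exact f2
    rw [← f1'] at f2'
    have f3 : s * s = 1 := by
      have : s * (s * s - 1) = 0 := by linear_combination f2'
      rcases mul_eq_zero.mp this with h | h
      · exact absurd h hs
      · exact sub_eq_zero.mp h
    have f4 : eta φ s ^ 2 = 1 := by
      rw [pow_two, ← eta_mul φ hs hs, f3, eta_one]
    have f5 : orderOf (eta φ s) ∣ 2 := orderOf_dvd_of_pow_eq_one f4
    have f6 : orderOf (eta φ s) = 1 := by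
      rcases (Nat.dvd_prime Nat.prime_two).mp f5 with h | h
      · exact h
      · rw [h] at hodd
        exact absurd hodd (by decide)
    exact h1 (orderOf_eq_one_iff.mp f6)
  rw [ht, hu, hv]
  simp [nf', E4, X_zero]

include S hφ h3 hK he in
theorem card_odd_H :
    2 * Nat.card {h : ↥(chevG2.diagonalSubgroup K ⊓ twistedG2 K e) // Odd (orderOf h)} =
      3 ^ (2 * m + 1) - 1 := by
  obtain ⟨f, -⟩ := exists_etaEquiv S hφ h3 hK he
  rw [← card_odd_units hK]
  congr 1
  exact (Nat.card_congr (f.toEquiv.subtypeEquiv (fun s => by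
    show Odd (orderOf s) ↔ Odd (orderOf (f s))
    rw [MulEquiv.orderOf_eq]))).symm

include S hφ h3 hK he in
theorem odd_stmt :
    2 * Nat.card {h : ↥(chevG2.diagonalSubgroup K ⊓ twistedG2 K e) // Odd (orderOf h)} =
      3 ^ (2 * m + 1) - 1 ∧
    ∀ h ∈ (chevG2.diagonalSubgroup K ⊓ twistedG2 K e), h ≠ 1 → Odd (orderOf h) →
      (chevG2.posUnipotent K ⊓ twistedG2 K e) ⊓ Subgroup.centralizer {h} = ⊥ := by
  refine ⟨card_odd_H S hφ h3 hK he, fun h hh h1 hodd => ?_⟩
  rw [eq_bot_iff]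
  rintro g ⟨hg, hc⟩
  rw [Subgroup.mem_bot]
  exact cent_trivial S hφ h3 hK he hh h1 hodd hg (Subgroup.mem_centralizer_iff.mp hc h rfl)

end char3

end Cfsg.Agent.Lib.Helper18.Ree14
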