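import Mathlib
import Cfsg.Agent.Lib.Helper18.Ree14

set_option autoImplicit false
set_option linter.unusedSimpArgs false
set_option linter.unusedSectionVars false
set_option linter.unusedVariables false

/-!
# The small Ree groups `²G₂(3^(2m+1))`: the statements, from the graph automorphism of `G₂`
-/

namespace Cfsg.Agent.Lib.Helper18.Ree15

open Cfsg Cfsg.Lie Cfsg.Agent.Lib.Helper18 Cfsg.Agent.Lib.Helper18.Ree1
  Cfsg.Agent.Lib.Helper18.Ree2 Cfsg.Agent.Lib.Helper18.Ree3 Cfsg.Agent.Lib.Helper18.Ree4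
  Cfsg.Agent.Lib.Helper18.Ree5 Cfsg.Agent.Lib.Helper18.Ree6 Cfsg.Agent.Lib.Helper18.Ree7
  Cfsg.Agent.Lib.Helper18.Ree10 Cfsg.Agent.Lib.Helper18.Ree11 Cfsg.Agent.Lib.Helper18.Ree12
  Cfsg.Agent.Lib.Helper18.Ree13 Cfsg.Agent.Lib.Helper18.Ree14

variable {K : Type*} [Field K]

/-- The graph automorphism of `G₂(K)` on the fundamental root elements (the conclusion of the
statement on the graph automorphism in characteristic 3). -/
def HasGraph (K : Type*) [Field K] : Prop :=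
  ∃ α : ↥(chevG2.group K) ≃* ↥(chevG2.group K),
    ∀ (g : ↥(chevG2.group K)) (t : K),
    (((g : GL chevG2.Idx K) : Matrix _ _ K) = chevG2.x K g2a t →
      ((α g : GL chevG2.Idx K) : Matrix _ _ K) = chevG2.x K g2b (t ^ 3)) ∧
    (((g : GL chevG2.Idx K) : Matrix _ _ K) = chevG2.x K g2b t →
      ((α g : GL chevG2.Idx K) : Matrix _ _ K) = chevG2.x K g2a t) ∧
    (((g : GL chevG2.Idx K) : Matrix _ _ K) = chevG2.x K g2ma t →
      ((α g : GL chevG2.Idx K) : Matrix _ _ K) = chevG2.x K g2mb (t ^ 3)) ∧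
    (((g : GL chevG2.Idx K) : Matrix _ _ K) = chevG2.x K g2mb t →
      ((α g : GL chevG2.Idx K) : Matrix _ _ K) = chevG2.x K g2ma t)

variable [Fintype K] {m : ℕ} (hK : Fintype.card K = 3 ^ (2 * m + 1))

include hK in
/-- A field with `3^(2m+1)` elements is perfect. -/
theorem perf3 : ∀ x : K, ∃ y : K, y ^ 3 = x := by
  obtain ⟨φ, -, h3⟩ := exists_theta hK
  exact fun x => ⟨φ (φ x), h3 x⟩

variable (hα : HasGraph K)

include hK hα in
theorem s1101 :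
    (∀ g : GL chevG2.Idx K, g ∈ chevG2.posUnipotent K ⊓ twistedG2 K (3 ^ m) ↔
      ∃ t u v : K, (g : Matrix chevG2.Idx chevG2.Idx K) =
        chevG2.wordMat K (reeWordU (3 ^ m) t u v)) ∧
    Nat.card ↥(chevG2.posUnipotent K ⊓ twistedG2 K (3 ^ m)) = (3 ^ (2 * m + 1)) ^ 3 := by
  haveI := charP3 hK
  obtain ⟨φ, hφ, h3⟩ := exists_theta hK
  obtain ⟨S⟩ := exists_sig φ hα
  have h := stmt_U S hφ h3
  rw [hK] at h
  exact h

include hK hα in
theorem s1114 :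
    Nat.card ↥(chevG2.diagonalSubgroup K ⊓ twistedG2 K (3 ^ m)) = 3 ^ (2 * m + 1) - 1 := by
  haveI := charP3 hK
  obtain ⟨φ, hφ, h3⟩ := exists_theta hK
  obtain ⟨S⟩ := exists_sig φ hα
  have h := card_H_Gam S hφ h3 hK rfl
  rw [hK] at h
  exact h

include hK hα in
theorem s1150 : IsCyclic ↥(chevG2.diagonalSubgroup K ⊓ twistedG2 K (3 ^ m)) := by
  haveI := charP3 hK
  obtain ⟨φ, hφ, h3⟩ := exists_theta hK
  obtain ⟨S⟩ := exists_sig φ hα
  exact cyclic_H_Gam S hφ h3 hK rfl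

include hK hα in
theorem s1069 :
    Nat.card ↥(twistedG2 K (3 ^ m)) =
      (3 ^ (2 * m + 1)) ^ 3 * (3 ^ (2 * m + 1) - 1) * ((3 ^ (2 * m + 1)) ^ 3 + 1) := by
  haveI := charP3 hK
  obtain ⟨φ, hφ, h3⟩ := exists_theta hK
  obtain ⟨S⟩ := exists_sig φ hα
  have h := card_Gam S hφ h3 hK rfl
  rw [hK] at h
  exact h

include hK hα in
/-- The rank-one BN-pair of the Ree group, with irreducibility. -/
theorem bn : ∃ P : Cfsg.BNPair ↥(twistedG2 K (3 ^ m)),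
    P.B = (chevG2.borelSubgroup K ⊓ twistedG2 K (3 ^ m)).subgroupOf (twistedG2 K (3 ^ m)) ∧
    P.N = (chevG2.monomialSubgroup K ⊓ twistedG2 K (3 ^ m)).subgroupOf (twistedG2 K (3 ^ m)) ∧
    P.Irreducible ∧ P.S.Nonempty := by
  haveI := charP3 hK
  obtain ⟨φ, hφ, h3⟩ := exists_theta hK
  obtain ⟨S⟩ := exists_sig φ hα
  obtain ⟨P, hB, hN, hS⟩ := bn_ree S hφ h3 hK rfl
  refine ⟨P, hB, hN, ?_, ?_⟩
  · intro J hJ hJne hne
    exfalso
    obtain ⟨a, ha⟩ := hJne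
    obtain ⟨b, hb, hbJ⟩ := hne
    have ha' := hJ ha
    rw [hS] at ha' hb
    have : a = b := Subtype.ext (ha'.trans hb.symm)
    exact hbJ (this ▸ ha)
  · have hn0 : n0 K ∈ twistedG2 K (3 ^ m) := n0_mem_Gam (by positivity)
    refine ⟨⟨n0 K, hn0⟩, ?_⟩
    rw [hS]
    exact rfl

include hK hα in
theorem s1091 : ∃ P : Cfsg.BNPair ↥(twistedG2 K (3 ^ m)),
    P.B = (chevG2.borelSubgroup K ⊓ twistedG2 K (3 ^ m)).subgroupOf (twistedG2 K (3 ^ m)) ∧
    P.N = (chevG2.monomialSubgroup K ⊓ twistedG2 K (3 ^ m)).subgroupOf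
      (twistedG2 K (3 ^ m)) := by
  obtain ⟨P, hB, hN, -⟩ := bn hK hα
  exact ⟨P, hB, hN⟩

include hK hα in
theorem s1115 :
    ∃ φ : ↥(chevG2.monomialSubgroup K ⊓ twistedG2 K (3 ^ m)) →* Multiplicative (ZMod 2),
      Function.Surjective φ ∧
      φ.ker = (chevG2.diagonalSubgroup K ⊓ twistedG2 K (3 ^ m)).subgroupOf
        (chevG2.monomialSubgroup K ⊓ twistedG2 K (3 ^ m)) := by
  haveI := charP3 hK
  obtain ⟨φ, hφ, h3⟩ := exists_theta hK
  obtain ⟨S⟩ := exists_sig φ hα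
  exact exists_hom_of_index_two _ (index_HN S hφ h3 hK rfl)

include hK hα in
theorem s1151 :
    2 * Nat.card {h : ↥(chevG2.diagonalSubgroup K ⊓ twistedG2 K (3 ^ m)) // Odd (orderOf h)} =
      3 ^ (2 * m + 1) - 1 ∧
    ∀ h ∈ (chevG2.diagonalSubgroup K ⊓ twistedG2 K (3 ^ m)), h ≠ 1 → Odd (orderOf h) →
      (chevG2.posUnipotent K ⊓ twistedG2 K (3 ^ m)) ⊓ Subgroup.centralizer {h} = ⊥ := by
  haveI := charP3 hK
  obtain ⟨φ, hφ, h3⟩ := exists_theta hK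
  obtain ⟨S⟩ := exists_sig φ hα
  exact odd_stmt S hφ h3 hK rfl

end Cfsg.Agent.Lib.Helper18.Ree15
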