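import Mathlib

set_option autoImplicit false
set_option linter.unusedSimpArgs false
set_option linter.unusedSectionVars false
set_option linter.unusedVariables false

/-!
# Three-point stabilisers in a split BN-pair of rank one

`G = B ∪ U n B`, `B ∩ n B n⁻¹ = H`, uniqueness of `u` in `u n B`: the joint stabiliser of three
distinct cosets of `B` is conjugate to the centraliser in `H` of a non-identity element of `U`.
-/

namespace Cfsg.Agent.Lib.Helper18.Ree16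

open MulAction

variable {G : Type*} [Group G] (B U H : Subgroup G) (n : G)

theorem stab_iff (g s : G) : s ∈ stabilizer G ((g : G) : G ⧸ B) ↔ g⁻¹ * s * g ∈ B := by
  rw [mem_stabilizer_iff]
  show (((s * g : G)) : G ⧸ B) = (g : G ⧸ B) ↔ _
  rw [QuotientGroup.eq]
  constructor
  · intro h
    have := B.inv_mem h
    simpa [mul_assoc] using this
  · intro h
    have := B.inv_mem h
    simpa [mul_assoc] using this

variable (hUB : U ≤ B) (hHB : H ≤ B)
  (hcell : ∀ g : G, g ∉ B → ∃ u ∈ U, ∃ b ∈ B, g = u * n * b)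
  (hnH : ∀ h ∈ H, n⁻¹ * h * n ∈ B)
  (hBn : ∀ b ∈ B, n⁻¹ * b * n ∈ B → b ∈ H)
  (hHU : ∀ h ∈ H, ∀ u ∈ U, h * u * h⁻¹ ∈ U)
  (huniq : ∀ u ∈ U, ∀ u' ∈ U, ∀ b ∈ B, u * n = u' * n * b → u = u')
  (hnB : n ∉ B)

include hUB hHB hnH hBn hHU huniq in
/-- The joint stabiliser of `B`, `nB`, `unB` is the centraliser of `u` in `H`. -/
theorem stab3_iff {u : G} (hu : u ∈ U) (s : G) :
    s ∈ stabilizer G (((1 : G) : G ⧸ B)) ⊓ stabilizer G ((n : G) : G ⧸ B) ⊓
      stabilizer G (((u * n : G)) : G ⧸ B) ↔ s ∈ H ∧ s * u = u * s := by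
  rw [Subgroup.mem_inf, Subgroup.mem_inf, stab_iff, stab_iff, stab_iff]
  constructor
  · rintro ⟨⟨h1, h2⟩, h3⟩
    have hsB : s ∈ B := by simpa using h1
    have hsH : s ∈ H := hBn s hsB h2
    refine ⟨hsH, ?_⟩
    have e : s * u * s⁻¹ * n = u * n * ((u * n)⁻¹ * s * (u * n) * (n⁻¹ * s * n)⁻¹) := by group
    have := huniq (s * u * s⁻¹) (hHU s hsH u hu) u hu _ (B.mul_mem h3 (B.inv_mem h2)) e
    calc s * u = s * u * s⁻¹ * s := by group
      _ = u * s := by rw [this]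
  · rintro ⟨hsH, hc⟩
    refine ⟨⟨by simpa using hHB hsH, hnH s hsH⟩, ?_⟩
    have e : (u * n)⁻¹ * s * (u * n) = n⁻¹ * s * n := by
      calc (u * n)⁻¹ * s * (u * n) = n⁻¹ * u⁻¹ * (s * u) * n := by group
        _ = n⁻¹ * u⁻¹ * (u * s) * n := by rw [hc]
        _ = n⁻¹ * s * n := by group
    rw [e]
    exact hnH s hsH

include hUB hcell in
/-- Three distinct cosets can be moved to `B`, `nB`, `unB` with `u ≠ 1`. -/
theorem exists_conj (x y z : G ⧸ B) (hxy : x ≠ y) (hxz : x ≠ z) (hyz : y ≠ z) :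
    ∃ k : G, ∃ u ∈ U, u ≠ 1 ∧ ∀ s ∈ stabilizer G x ⊓ stabilizer G y ⊓ stabilizer G z,
      k⁻¹ * s * k ∈ stabilizer G (((1 : G) : G ⧸ B)) ⊓ stabilizer G ((n : G) : G ⧸ B) ⊓
        stabilizer G (((u * n : G)) : G ⧸ B) := by
  obtain ⟨gx, rfl⟩ := QuotientGroup.mk_surjective x
  obtain ⟨gy, rfl⟩ := QuotientGroup.mk_surjective y
  obtain ⟨gz, rfl⟩ := QuotientGroup.mk_surjective z
  have h1 : gx⁻¹ * gy ∉ B := fun h => hxy (QuotientGroup.eq.mpr h)
  have h2 : gx⁻¹ * gz ∉ B := fun h => hxz (QuotientGroup.eq.mpr h)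
  have h3 : gy⁻¹ * gz ∉ B := fun h => hyz (QuotientGroup.eq.mpr h)
  obtain ⟨u₁, hu₁, b₁, hb₁, e₁⟩ := hcell _ h1
  have h2' : u₁⁻¹ * (gx⁻¹ * gz) ∉ B := by
    intro h
    apply h2
    have := B.mul_mem (hUB hu₁) h
    simpa using this
  obtain ⟨u₂, hu₂, b₂, hb₂, e₂⟩ := hcell _ h2'
  have ey : gy = gx * u₁ * n * b₁ := by
    calc gy = gx * (gx⁻¹ * gy) := by group
      _ = gx * u₁ * n * b₁ := by rw [e₁]; group
  have ez : gz = gx * u₁ * u₂ * n * b₂ := by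
    calc gz = gx * u₁ * (u₁⁻¹ * (gx⁻¹ * gz)) := by group
      _ = gx * u₁ * u₂ * n * b₂ := by rw [e₂]; group
  refine ⟨gx * u₁, u₂, hu₂, ?_, ?_⟩
  · rintro rfl
    apply h3
    have : gy⁻¹ * gz = b₁⁻¹ * b₂ := by
      rw [ey, ez]
      group
    rw [this]
    exact B.mul_mem (B.inv_mem hb₁) hb₂
  · intro s hs
    rw [Subgroup.mem_inf, Subgroup.mem_inf, stab_iff, stab_iff, stab_iff] at hs ⊢
    obtain ⟨⟨s1, s2⟩, s3⟩ := hs
    refine ⟨⟨?_, ?_⟩, ?_⟩
    · have : (1 : G)⁻¹ * ((gx * u₁)⁻¹ * s * (gx * u₁)) * 1 = u₁⁻¹ * (gx⁻¹ * s * gx) * u₁ := by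
        group
      rw [this]
      exact B.mul_mem (B.mul_mem (B.inv_mem (hUB hu₁)) s1) (hUB hu₁)
    · have : n⁻¹ * ((gx * u₁)⁻¹ * s * (gx * u₁)) * n = b₁ * (gy⁻¹ * s * gy) * b₁⁻¹ := by
        rw [ey]
        group
      rw [this]
      exact B.mul_mem (B.mul_mem hb₁ s2) (B.inv_mem hb₁)
    · have : (u₂ * n)⁻¹ * ((gx * u₁)⁻¹ * s * (gx * u₁)) * (u₂ * n) =
          b₂ * (gz⁻¹ * s * gz) * b₂⁻¹ := by
        rw [ez]
        group
      rw [this]
      exact B.mul_mem (B.mul_mem hb₂ s3) (B.inv_mem hb₂)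

include hUB hHB hcell hnH hBn hHU huniq in
/-- Bound for the three-point stabilisers. -/
theorem card_stab3_le (C : Set G) (hC : C.Finite)
    (hcent : ∀ u ∈ U, u ≠ 1 → ∀ s ∈ H, s * u = u * s → s ∈ C)
    (x y z : G ⧸ B) (hxy : x ≠ y) (hxz : x ≠ z) (hyz : y ≠ z) :
    Nat.card ↥(stabilizer G x ⊓ stabilizer G y ⊓ stabilizer G z) ≤ C.ncard := by
  obtain ⟨k, u, hu, hu1, hk⟩ := exists_conj B U n hUB hcell x y z hxy hxz hyz
  have e : Nat.card ↥(stabilizer G x ⊓ stabilizer G y ⊓ stabilizer G z) =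
      ((stabilizer G x ⊓ stabilizer G y ⊓ stabilizer G z : Subgroup G) : Set G).ncard :=
    (Nat.card_coe_set_eq _)
  rw [e]
  refine Set.ncard_le_ncard_of_injOn (fun s => k⁻¹ * s * k) ?_ ?_ hC
  · intro s hs
    have h1 := hk s hs
    rw [stab3_iff B U H n hUB hHB hnH hBn hHU huniq hu] at h1
    exact hcent u hu hu1 _ h1.1 h1.2
  · intro a _ b _ hab
    have hab' : k⁻¹ * a * k = k⁻¹ * b * k := hab
    calc a = k * (k⁻¹ * a * k) * k⁻¹ := by group
      _ = k * (k⁻¹ * b * k) * k⁻¹ := by rw [hab']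
      _ = b := by group

include hUB hHB hnH hBn hHU huniq hnB in
/-- A triple with stabiliser of order 2. -/
theorem exists_stab3_two {u c : G} (hu : u ∈ U) (hu1 : u ≠ 1) (hc : c ∈ H) (hc1 : c ≠ 1)
    (hcu : c * u = u * c) (hcent : ∀ s ∈ H, s * u = u * s → s = 1 ∨ s = c) :
    ∃ x y z : G ⧸ B, x ≠ y ∧ x ≠ z ∧ y ≠ z ∧
      Nat.card ↥(stabilizer G x ⊓ stabilizer G y ⊓ stabilizer G z) = 2 := by
  refine ⟨((1 : G) : G ⧸ B), ((n : G) : G ⧸ B), ((u * n : G) : G ⧸ B), ?_, ?_, ?_, ?_⟩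
  · intro h
    apply hnB
    have := QuotientGroup.eq.mp h
    simpa using this
  · intro h
    apply hnB
    have h' := QuotientGroup.eq.mp h
    have h'' : u * n ∈ B := by simpa using h'
    have := B.mul_mem (B.inv_mem (hUB hu)) h''
    simpa using this
  · intro h
    have h' := QuotientGroup.eq.mp h
    apply hu1
    exact huniq u hu 1 (Subgroup.one_mem _) _ h' (by group)
  · have e : ((stabilizer G (((1 : G) : G ⧸ B)) ⊓ stabilizer G ((n : G) : G ⧸ B) ⊓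
        stabilizer G (((u * n : G)) : G ⧸ B) : Subgroup G) : Set G) = {1, c} := by
      ext s
      rw [SetLike.mem_coe, stab3_iff B U H n hUB hHB hnH hBn hHU huniq hu]
      simp only [Set.mem_insert_iff, Set.mem_singleton_iff]
      constructor
      · rintro ⟨h1, h2⟩
        exact hcent s h1 h2
      · rintro (rfl | rfl)
        · exact ⟨Subgroup.one_mem _, by simp⟩
        · exact ⟨hc, hcu⟩
    have e2 : Nat.card ↥(stabilizer G (((1 : G) : G ⧸ B)) ⊓ stabilizer G ((n : G) : G ⧸ B) ⊓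
        stabilizer G (((u * n : G)) : G ⧸ B)) =
        ((stabilizer G (((1 : G) : G ⧸ B)) ⊓ stabilizer G ((n : G) : G ⧸ B) ⊓
        stabilizer G (((u * n : G)) : G ⧸ B) : Subgroup G) : Set G).ncard :=
      (Nat.card_coe_set_eq _)
    rw [e2, e, Set.ncard_pair (Ne.symm hc1)]

end Cfsg.Agent.Lib.Helper18.Ree16
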