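import Mathlib
import Cfsg.Agent.Lib.Helper18.Ree14
import Cfsg.Agent.Lib.Helper18.Ree16

set_option autoImplicit false
set_option linter.unusedSimpArgs false
set_option linter.unusedSectionVars false
set_option linter.unusedVariables false

/-!
# The small Ree groups: stabilisers of three points on the cosets of `B¹`
-/

namespace Cfsg.Agent.Lib.Helper18.Ree17

open Cfsg Cfsg.Lie Cfsg.Agent.Lib.Helper18 Cfsg.Agent.Lib.Helper18.Fast
  Cfsg.Agent.Lib.Helper18.Facts Cfsg.Agent.Lib.Helper18.WGroup Cfsg.Agent.Lib.Helper18.BNPairC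
  Cfsg.Agent.Lib.Helper18.UOrd Cfsg.Agent.Lib.Helper18.UNF Cfsg.Agent.Lib.Helper18.Units
  Cfsg.Agent.Lib.Helper18.Sub Cfsg.Agent.Lib.Helper18.Core Cfsg.Agent.Lib.Helper18.Ree1
  Cfsg.Agent.Lib.Helper18.Ree2 Cfsg.Agent.Lib.Helper18.Ree3 Cfsg.Agent.Lib.Helper18.Ree4
  Cfsg.Agent.Lib.Helper18.Ree5 Cfsg.Agent.Lib.Helper18.Ree6 Cfsg.Agent.Lib.Helper18.Ree7
  Cfsg.Agent.Lib.Helper18.Ree10 Cfsg.Agent.Lib.Helper18.Ree11 Cfsg.Agent.Lib.Helper18.Ree12
  Cfsg.Agent.Lib.Helper18.Ree13 Cfsg.Agent.Lib.Helper18.Ree14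
  Cfsg.Agent.Lib.Helper18.Torus Cfsg.Agent.Lib.Helper18.XMat Cfsg.Agent.Lib.Helper18.Grade

variable {K : Type*} [Field K]

section char3

variable [CharP K 3] {φ : K →+* K}

theorem reeU_zero : reeU φ (0 : K) 0 0 = 1 := by
  rw [reeU_eq]
  simp [nf', E4, X_zero]

/-- The parameters of an element of `U¹` commuting with `h_a(s^θ) h_b(s)`, `s ≠ 1`. -/
theorem cent_param {s t u v : K} (hs : s ≠ 0) (hs1 : s ≠ 1)
    (hc : eta φ s * reeU φ t u v = reeU φ t u v * eta φ s) :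
    t = 0 ∧ v = 0 ∧ (u = 0 ∨ s * s = 1) := by
  rw [reeU_eq] at hc
  rw [eta_mul_nf' φ hs] at hc
  obtain ⟨-, -, e3, e4, e5, e6⟩ := nf'_inj (mul_right_cancel hc)
  rw [chi8] at e3
  rw [chi9] at e4
  rw [chi10] at e5
  rw [chi11] at e6
  simp only [cc, if_pos, one_ne_zero, if_false] at e3 e4 e5 e6
  have hφs : φ s ≠ 0 := (map_ne_zero φ).mpr hs
  have hφs1 : φ s ≠ 1 := fun h => hs1 (φ.injective (h.trans (map_one φ).symm))
  have hv : v = 0 := by
    have : (φ s - 1) * φ v = 0 := by linear_combination e4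
    rcases mul_eq_zero.mp this with h | h
    · exact absurd (sub_eq_zero.mp h) hφs1
    · exact (map_eq_zero φ).mp h
  have ht : t = 0 := by
    have : (s - 1) * (v + t ^ 2 * φ t ^ 3) = 0 := by linear_combination e6
    rcases mul_eq_zero.mp this with h | h
    · exact absurd (sub_eq_zero.mp h) hs1
    · rw [hv, zero_add] at h
      rcases mul_eq_zero.mp h with h | h
      · exact pow_eq_zero_iff (by norm_num) |>.mp h
      · exact (map_eq_zero φ).mp (pow_eq_zero_iff (by norm_num) |>.mp h)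
  refine ⟨ht, hv, ?_⟩
  by_cases hu : u = 0
  · exact Or.inl hu
  right
  have hφu : φ u ≠ 0 := (map_ne_zero φ).mpr hu
  have f1 : (φ s)⁻¹ * s = 1 := by
    have : ((φ s)⁻¹ * s - 1) * φ u = 0 := by linear_combination e3
    rcases mul_eq_zero.mp this with h | h
    · exact sub_eq_zero.mp h
    · exact absurd h hφu
  have f1' : s = φ s := by
    field_simp at f1
    exact f1
  have f2 : φ s ^ 3 * s⁻¹ = 1 := by
    rw [ht] at e5
    have : (φ s ^ 3 * s⁻¹ - 1) * u = 0 := by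
      have e5' : φ s ^ 3 * s⁻¹ * u = u := by simpa using e5
      linear_combination e5'
    rcases mul_eq_zero.mp this with h | h
    · exact sub_eq_zero.mp h
    · exact absurd h hu
  have f2' : φ s ^ 3 = s := by
    field_simp at f2
    exact f2
  rw [← f1'] at f2'
  have : s * (s * s - 1) = 0 := by linear_combination f2'
  rcases mul_eq_zero.mp this with h | h
  · exact absurd h hs
  · exact sub_eq_zero.mp h

theorem neg_one_ne : (-1 : K) ≠ 1 := by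
  intro h
  have h2 : ((2 : ℕ) : K) = 0 := by
    push_cast
    linear_combination -h
  rw [CharP.cast_eq_zero_iff K 3] at h2
  omega

theorem eta_neg_one_ne : eta φ (-1 : K) ≠ 1 := by
  intro h
  rw [← eta_one φ] at h
  exact neg_one_ne (eta_inj φ (neg_ne_zero.mpr one_ne_zero) one_ne_zero h)

theorem eta_neg_one_comm (u : K) :
    eta φ (-1 : K) * reeU φ 0 u 0 = reeU φ 0 u 0 * eta φ (-1) := by
  rw [reeU_eq, eta_mul_nf' φ (neg_ne_zero.mpr one_ne_zero), chi8, chi10]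
  congr 1
  simp only [cc, if_pos, one_ne_zero, if_false, map_neg, map_one, map_zero]
  congr 1
  · simp
  · simp
  · have : ((-1 : K))⁻¹ = -1 := by
      rw [inv_eq_iff_eq_inv, inv_neg, inv_one]
    rw [this]
    ring
  · simp
  · have : ((-1 : K))⁻¹ = -1 := by
      rw [inv_eq_iff_eq_inv, inv_neg, inv_one]
    rw [this]
    ring
  · simp

theorem reeU_ne_one {u : K} (hu : u ≠ 0) : reeU φ (0 : K) u 0 ≠ 1 := by
  intro h
  rw [← reeU_zero (φ := φ)] at h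
  exact hu (reeU_inj h).2.1

/-- `B ∩ n₀ B n₀⁻¹ ≤ H`. -/
theorem B_n_B {b : GL chevG2.Idx K} (hb : b ∈ chevG2.borelSubgroup K)
    (hb' : (n0 K)⁻¹ * b * n0 K ∈ chevG2.borelSubgroup K) : b ∈ chevG2.diagonalSubgroup K := by
  obtain ⟨u, hu, h, hh, rfl⟩ := Pos.exists_mul_of_mem_sup (Pos.diag_le_normalizer_pos CAll.cfG2.af) hb
  obtain ⟨u₁, hu₁, h₁, hh₁, e⟩ := Pos.exists_mul_of_mem_sup (Pos.diag_le_normalizer_pos CAll.cfG2.af) hb'
  have e' : u * n0 K * ((n0 K)⁻¹ * h * n0 K) * 1 = 1 * n0 K * h₁ * (h₁⁻¹ * u₁ * h₁) := by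
    calc u * n0 K * ((n0 K)⁻¹ * h * n0 K) * 1 = n0 K * ((n0 K)⁻¹ * (u * h) * n0 K) := by group
      _ = n0 K * (u₁ * h₁) := by rw [e]
      _ = 1 * n0 K * h₁ * (h₁⁻¹ * u₁ * h₁) := by group
  obtain ⟨e1, -, -⟩ := bigcell_uniq hu (Subgroup.one_mem _) (N_conj_H' n0_mem_N hh) hh₁
    (Subgroup.one_mem _) (H_conj_U' hh₁ hu₁) e'
  rw [e1, one_mul]
  exact hh

/-- Uniqueness of `u` in `u n₀ B`. -/
theorem cell_u_uniq {u u' b : GL chevG2.Idx K} (hu : u ∈ chevG2.posUnipotent K)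
    (hu' : u' ∈ chevG2.posUnipotent K) (hb : b ∈ chevG2.borelSubgroup K)
    (e : u * n0 K = u' * n0 K * b) : u = u' := by
  obtain ⟨u₁, hu₁, h₁, hh₁, rfl⟩ := Pos.exists_mul_of_mem_sup (Pos.diag_le_normalizer_pos CAll.cfG2.af) hb
  have e' : u * n0 K * 1 * 1 = u' * n0 K * h₁ * (h₁⁻¹ * u₁ * h₁) := by
    calc u * n0 K * 1 * 1 = u * n0 K := by group
      _ = u' * n0 K * (u₁ * h₁) := e
      _ = u' * n0 K * h₁ * (h₁⁻¹ * u₁ * h₁) := by group
  exact (bigcell_uniq hu hu' (Subgroup.one_mem _) hh₁ (Subgroup.one_mem _)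
    (H_conj_U' hh₁ hu₁) e').1

variable (S : Sig K φ) {e : ℕ} (hφ : ∀ x, φ x = x ^ e)
  (h3 : ∀ x : K, φ (φ x) ^ 3 = x) [Fintype K] {m : ℕ} (hK : Fintype.card K = 3 ^ (2 * m + 1))
  (he : e = 3 ^ m)

/-- `U ∩ n₀ U n₀⁻¹ = 1`. -/
theorem U_n_U {u : GL chevG2.Idx K} (hu : u ∈ chevG2.posUnipotent K)
    (hu' : (n0 K)⁻¹ * u * n0 K ∈ chevG2.posUnipotent K) : u = 1 := by
  have h1 := B_n_B (U_le_B hu) (U_le_B hu')
  have h2 : u ∈ chevG2.posUnipotent K ⊓ chevG2.diagonalSubgroup K := ⟨hu, h1⟩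
  rw [UH_bot] at h2
  exact Subgroup.mem_bot.mp h2

/-- `B` normalises `U`. -/
theorem B_conj_U {b u : GL chevG2.Idx K} (hb : b ∈ chevG2.borelSubgroup K)
    (hu : u ∈ chevG2.posUnipotent K) : b * u * b⁻¹ ∈ chevG2.posUnipotent K := by
  obtain ⟨u₀, hu₀, h₀, hh₀, rfl⟩ :=
    Pos.exists_mul_of_mem_sup (Pos.diag_le_normalizer_pos CAll.cfG2.af) hb
  have h1 : h₀ * u * h₀⁻¹ ∈ chevG2.posUnipotent K :=
    (Subgroup.mem_set_normalizer_iff.mp (Pos.diag_le_normalizer_pos CAll.cfG2.af hh₀) _).mp hu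
  have e : u₀ * h₀ * u * (u₀ * h₀)⁻¹ = u₀ * (h₀ * u * h₀⁻¹) * u₀⁻¹ := by group
  rw [e]
  exact Subgroup.mul_mem _ (Subgroup.mul_mem _ hu₀ h1) (Subgroup.inv_mem _ hu₀)

include S hφ h3 hK he in
/-- The centraliser in `H¹` of a non-identity element of `U¹` has at most two elements. -/
theorem cent_cases {h g : GL chevG2.Idx K}
    (hh : h ∈ chevG2.diagonalSubgroup K ⊓ twistedG2 K e)
    (hg : g ∈ chevG2.posUnipotent K ⊓ twistedG2 K e) (hg1 : g ≠ 1) (hc : h * g = g * h) :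
    h = 1 ∨ h = eta φ (-1) := by
  obtain ⟨s, hs, rfl⟩ := (mem_H_Gam S hφ h3 hK he h).mp hh
  obtain ⟨t, u, v, rfl⟩ := (mem_U_Gam S hφ h3 g).mp hg
  by_cases hs1 : s = 1
  · left
    rw [hs1, eta_one]
  right
  obtain ⟨ht, hv, hu | hss⟩ := cent_param hs hs1 hc
  · exfalso
    apply hg1
    rw [ht, hu, hv, reeU_zero]
  · have : (s - 1) * (s + 1) = 0 := by linear_combination hss
    rcases mul_eq_zero.mp this with h | h
    · exact absurd (sub_eq_zero.mp h) hs1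
    · rw [eq_neg_of_add_eq_zero_left h]

include S hφ h3 hK he in
/-- An element of the Ree group outside `B` lies in `U¹ n₀ B¹`. -/
theorem cell_cases {g : GL chevG2.Idx K} (hg : g ∈ twistedG2 K e)
    (hgB : g ∉ chevG2.borelSubgroup K) :
    ∃ u ∈ chevG2.posUnipotent K ⊓ twistedG2 K e, ∃ b ∈ chevG2.borelSubgroup K ⊓ twistedG2 K e,
      g = u * n0 K * b := by
  rcases Gam_cases S hφ h3 hK he hg with ⟨t, u, v, s, hs, e1⟩ | ⟨t, u, v, s, t', u', v', hs, e1⟩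
  · exfalso
    apply hgB
    rw [e1]
    exact Subgroup.mul_mem _ (U_le_B (reeU_mem t u v)) (H_le_B (eta_mem_H φ hs))
  · refine ⟨reeU φ t u v, ⟨reeU_mem t u v, reeU_mem_Gam hφ t u v⟩, eta φ s * reeU φ t' u' v',
      ⟨Subgroup.mul_mem _ (H_le_B (eta_mem_H φ hs)) (U_le_B (reeU_mem t' u' v')),
        Subgroup.mul_mem _ (eta_mem_Gam hφ h3 hK he hs) (reeU_mem_Gam hφ t' u' v')⟩, ?_⟩
    rw [e1]
    simp [mul_assoc]

include S hφ h3 hK he in
/-- Three-point stabilisers of the Ree group on the cosets of `B¹`. -/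
theorem stab3 :
    (∀ x y z : ↥(twistedG2 K e) ⧸
        ((chevG2.borelSubgroup K ⊓ twistedG2 K e)).subgroupOf (twistedG2 K e),
        x ≠ y → x ≠ z → y ≠ z →
        Nat.card ↥(MulAction.stabilizer ↥(twistedG2 K e) x ⊓
          MulAction.stabilizer ↥(twistedG2 K e) y ⊓
          MulAction.stabilizer ↥(twistedG2 K e) z) ≤ 2) ∧
      ∃ x y z : ↥(twistedG2 K e) ⧸
        ((chevG2.borelSubgroup K ⊓ twistedG2 K e)).subgroupOf (twistedG2 K e),
        x ≠ y ∧ x ≠ z ∧ y ≠ z ∧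
        Nat.card ↥(MulAction.stabilizer ↥(twistedG2 K e) x ⊓
          MulAction.stabilizer ↥(twistedG2 K e) y ⊓
          MulAction.stabilizer ↥(twistedG2 K e) z) = 2 := by
  have hn0G : n0 K ∈ twistedG2 K e := n0_mem_Gam (e_ne he)
  let B1 := ((chevG2.borelSubgroup K ⊓ twistedG2 K e)).subgroupOf (twistedG2 K e)
  let U1 := ((chevG2.posUnipotent K ⊓ twistedG2 K e)).subgroupOf (twistedG2 K e)
  let H1 := ((chevG2.diagonalSubgroup K ⊓ twistedG2 K e)).subgroupOf (twistedG2 K e)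
  let n1 : ↥(twistedG2 K e) := ⟨n0 K, hn0G⟩
  have mB : ∀ g : ↥(twistedG2 K e), g ∈ B1 ↔ (g : GL chevG2.Idx K) ∈ chevG2.borelSubgroup K :=
    fun g => ⟨fun h => (Subgroup.mem_subgroupOf.mp h).1, fun h => Subgroup.mem_subgroupOf.mpr ⟨h, g.2⟩⟩
  have mU : ∀ g : ↥(twistedG2 K e), g ∈ U1 ↔ (g : GL chevG2.Idx K) ∈ chevG2.posUnipotent K :=
    fun g => ⟨fun h => (Subgroup.mem_subgroupOf.mp h).1, fun h => Subgroup.mem_subgroupOf.mpr ⟨h, g.2⟩⟩
  have mH : ∀ g : ↥(twistedG2 K e), g ∈ H1 ↔ (g : GL chevG2.Idx K) ∈ chevG2.diagonalSubgroup K :=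
    fun g => ⟨fun h => (Subgroup.mem_subgroupOf.mp h).1, fun h => Subgroup.mem_subgroupOf.mpr ⟨h, g.2⟩⟩
  have hUB : U1 ≤ B1 := fun g hg => (mB g).mpr (U_le_B ((mU g).mp hg))
  have hHB : H1 ≤ B1 := fun g hg => (mB g).mpr (H_le_B ((mH g).mp hg))
  have hcell : ∀ g : ↥(twistedG2 K e), g ∉ B1 → ∃ u ∈ U1, ∃ b ∈ B1, g = u * n1 * b := by
    intro g hg
    rcases Gam_cases S hφ h3 hK he g.2 with ⟨t, u, v, s, hs, e1⟩ | ⟨t, u, v, s, t', u', v', hs, e1⟩
    · exfalso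
      apply hg
      rw [mB, e1]
      exact Subgroup.mul_mem _ (U_le_B (reeU_mem t u v)) (H_le_B (eta_mem_H φ hs))
    · refine ⟨⟨reeU φ t u v, reeU_mem_Gam hφ t u v⟩, (mU _).mpr (reeU_mem t u v),
        ⟨eta φ s * reeU φ t' u' v', Subgroup.mul_mem _ (eta_mem_Gam hφ h3 hK he hs)
          (reeU_mem_Gam hφ t' u' v')⟩, (mB _).mpr (Subgroup.mul_mem _ (H_le_B (eta_mem_H φ hs))
          (U_le_B (reeU_mem t' u' v'))), ?_⟩
      apply Subtype.ext
      rw [e1]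
      simp [n1, mul_assoc]
  have hnH : ∀ h ∈ H1, n1⁻¹ * h * n1 ∈ B1 := by
    intro h hh
    rw [mB]
    exact H_le_B (N_conj_H' n0_mem_N ((mH h).mp hh))
  have hBn : ∀ b ∈ B1, n1⁻¹ * b * n1 ∈ B1 → b ∈ H1 := by
    intro b hb hb'
    rw [mH]
    exact B_n_B ((mB b).mp hb) ((mB _).mp hb')
  have hHU : ∀ h ∈ H1, ∀ u ∈ U1, h * u * h⁻¹ ∈ U1 := by
    intro h hh u hu
    rw [mU]
    exact (Subgroup.mem_set_normalizer_iff.mp
      (Pos.diag_le_normalizer_pos CAll.cfG2.af ((mH h).mp hh)) _).mp ((mU u).mp hu)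
  have huniq : ∀ u ∈ U1, ∀ u' ∈ U1, ∀ b ∈ B1, u * n1 = u' * n1 * b → u = u' := by
    intro u hu u' hu' b hb e1
    apply Subtype.ext
    exact cell_u_uniq ((mU u).mp hu) ((mU u').mp hu') ((mB b).mp hb)
      (congrArg Subtype.val e1)
  have hnB : n1 ∉ B1 := fun h => n0_not_mem_B ((mB n1).mp h)
  have hcG : eta φ (-1 : K) ∈ twistedG2 K e :=
    eta_mem_Gam hφ h3 hK he (neg_ne_zero.mpr one_ne_zero)
  let c : ↥(twistedG2 K e) := ⟨eta φ (-1 : K), hcG⟩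
  have hcH : c ∈ H1 := (mH c).mpr (eta_mem_H φ (neg_ne_zero.mpr one_ne_zero))
  have hc1 : c ≠ 1 := fun h => eta_neg_one_ne (φ := φ) (congrArg Subtype.val h)
  have hcent : ∀ u ∈ U1, u ≠ 1 → ∀ s ∈ H1, s * u = u * s → s = 1 ∨ s = c := by
    intro u hu hu1 s hs hsu
    have := cent_cases S hφ h3 hK he (h := (s : GL chevG2.Idx K)) (g := (u : GL chevG2.Idx K))
      ⟨(mH s).mp hs, s.2⟩ ⟨(mU u).mp hu, u.2⟩ (fun h => hu1 (Subtype.ext h))
      (congrArg Subtype.val hsu)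
    rcases this with h | h
    · exact Or.inl (Subtype.ext h)
    · exact Or.inr (Subtype.ext h)
  constructor
  · intro x y z hxy hxz hyz
    have h1 := Ree16.card_stab3_le B1 U1 H1 n1 hUB hHB hcell hnH hBn hHU huniq ({1, c} : Set _)
      (Set.toFinite _) (fun u hu hu1 s hs hsu => by
        rcases hcent u hu hu1 s hs hsu with h | h
        · exact Or.inl h
        · exact Or.inr h) x y z hxy hxz hyz
    refine h1.trans ((Set.ncard_insert_le _ _).trans ?_)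
    rw [Set.ncard_singleton]
  · let u1 : ↥(twistedG2 K e) := ⟨reeU φ 0 1 0, reeU_mem_Gam hφ 0 1 0⟩
    have hu1U : u1 ∈ U1 := (mU u1).mpr (reeU_mem 0 1 0)
    have hu1ne : u1 ≠ 1 := fun h => reeU_ne_one (φ := φ) one_ne_zero (congrArg Subtype.val h)
    have hcu : c * u1 = u1 * c := Subtype.ext (eta_neg_one_comm (φ := φ) 1)
    exact Ree16.exists_stab3_two B1 U1 H1 n1 hUB hHB hnH hBn hHU huniq hnB hu1U hu1ne hcH hc1 hcu
      (fun s hs hsu => hcent u1 hu1U hu1ne s hs hsu)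

end char3

end Cfsg.Agent.Lib.Helper18.Ree17
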