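import Mathlib

set_option autoImplicit false
set_option linter.unusedSimpArgs false
set_option linter.unusedSectionVars false
set_option linter.unusedVariables false

/-!
# Trivial intersection of Sylow subgroups in a split BN-pair of rank one
-/

namespace Cfsg.Agent.Lib.Helper18.Ree18

theorem mem_smul_iff {G : Type*} [Group G] {p : ℕ} (g x : G) (P : Sylow p G) :
    x ∈ ((g • P : Sylow p G) : Subgroup G) ↔ g⁻¹ * x * g ∈ (P : Subgroup G) := by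
  rw [Sylow.coe_subgroup_smul, Subgroup.mem_pointwise_smul_iff_inv_smul_mem, MulAut.smul_def,
    MulAut.conj_inv_apply]

/-- If `G = B ∪ B n B`, `B` normalises the Sylow subgroup `U` and `U ∩ n U n⁻¹ = 1`, then distinct
Sylow subgroups intersect trivially. -/
theorem sylow_ti {G : Type*} [Group G] [Finite G] {p : ℕ} [Fact p.Prime] (P₀ : Sylow p G)
    (B : Subgroup G) (n : G)
    (hnorm : ∀ b ∈ B, ∀ u ∈ (P₀ : Subgroup G), b * u * b⁻¹ ∈ (P₀ : Subgroup G))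
    (hcell : ∀ g : G, g ∉ B → ∃ b ∈ B, ∃ b' ∈ B, g = b * n * b')
    (hti : ∀ u ∈ (P₀ : Subgroup G), n⁻¹ * u * n ∈ (P₀ : Subgroup G) → u = 1)
    (P Q : Sylow p G) (hPQ : P ≠ Q) : (P : Subgroup G) ⊓ (Q : Subgroup G) = ⊥ := by
  obtain ⟨g, rfl⟩ := MulAction.exists_smul_eq G P₀ P
  obtain ⟨g', rfl⟩ := MulAction.exists_smul_eq G P₀ Q
  by_cases hk : g⁻¹ * g' ∈ B
  · exfalso
    apply hPQ
    apply Sylow.ext
    ext x
    rw [mem_smul_iff, mem_smul_iff]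
    have e : g'⁻¹ * x * g' = (g⁻¹ * g')⁻¹ * (g⁻¹ * x * g) * (g⁻¹ * g')⁻¹⁻¹ := by group
    have e' : g⁻¹ * x * g = (g⁻¹ * g') * (g'⁻¹ * x * g') * (g⁻¹ * g')⁻¹ := by group
    constructor
    · intro h
      rw [e]
      exact hnorm _ (B.inv_mem hk) _ h
    · intro h
      rw [e']
      exact hnorm _ hk _ h
  · obtain ⟨b, hb, b', hb', e⟩ := hcell _ hk
    rw [eq_bot_iff]
    rintro x ⟨hx1, hx2⟩
    rw [Subgroup.mem_bot]
    have hx1' : g⁻¹ * x * g ∈ (P₀ : Subgroup G) := (mem_smul_iff g x P₀).mp hx1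
    have hx2' : g'⁻¹ * x * g' ∈ (P₀ : Subgroup G) := (mem_smul_iff g' x P₀).mp hx2
    have hy : b⁻¹ * (g⁻¹ * x * g) * b⁻¹⁻¹ ∈ (P₀ : Subgroup G) := hnorm _ (B.inv_mem hb) _ hx1'
    have eg : g' = g * (b * n * b') := by rw [← e]; group
    have hz : n⁻¹ * (b⁻¹ * (g⁻¹ * x * g) * b⁻¹⁻¹) * n ∈ (P₀ : Subgroup G) := by
      have : n⁻¹ * (b⁻¹ * (g⁻¹ * x * g) * b⁻¹⁻¹) * n = b' * (g'⁻¹ * x * g') * b'⁻¹ := by
        rw [eg]
        group
      rw [this]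
      exact hnorm _ hb' _ hx2'
    have h1 := hti _ hy hz
    calc x = g * b * (b⁻¹ * (g⁻¹ * x * g) * b⁻¹⁻¹) * b⁻¹ * g⁻¹ := by group
      _ = 1 := by rw [h1]; group

end Cfsg.Agent.Lib.Helper18.Ree18
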