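import Mathlib
import Cfsg.Agent.Lib.Helper18.Ree17
import Cfsg.Agent.Lib.Helper18.Ree18

set_option autoImplicit false
set_option linter.unusedSimpArgs false
set_option linter.unusedSectionVars false
set_option linter.unusedVariables false

/-!
# The small Ree groups: distinct Sylow 3-subgroups intersect trivially
-/

namespace Cfsg.Agent.Lib.Helper18.Ree19

open Cfsg Cfsg.Lie Cfsg.Agent.Lib.Helper18 Cfsg.Agent.Lib.Helper18.Ree1
  Cfsg.Agent.Lib.Helper18.Ree2 Cfsg.Agent.Lib.Helper18.Ree3 Cfsg.Agent.Lib.Helper18.Ree4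
  Cfsg.Agent.Lib.Helper18.Ree5 Cfsg.Agent.Lib.Helper18.Ree6 Cfsg.Agent.Lib.Helper18.Ree7
  Cfsg.Agent.Lib.Helper18.Ree10 Cfsg.Agent.Lib.Helper18.Ree11 Cfsg.Agent.Lib.Helper18.Ree12
  Cfsg.Agent.Lib.Helper18.Ree13 Cfsg.Agent.Lib.Helper18.Ree14 Cfsg.Agent.Lib.Helper18.Ree17

variable {K : Type*} [Field K] [CharP K 3] {φ : K →+* K} (S : Sig K φ) {e : ℕ}
  (hφ : ∀ x, φ x = x ^ e) (h3 : ∀ x : K, φ (φ x) ^ 3 = x) [Fintype K] {m : ℕ}
  (hK : Fintype.card K = 3 ^ (2 * m + 1)) (he : e = 3 ^ m)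

include S hφ h3 hK in
theorem card_U1 :
    Nat.card ↥((chevG2.posUnipotent K ⊓ twistedG2 K e).subgroupOf (twistedG2 K e)) =
      3 ^ (3 * (2 * m + 1)) := by
  rw [Nat.card_congr (Subgroup.subgroupOfEquivOfLe
    (inf_le_right : chevG2.posUnipotent K ⊓ twistedG2 K e ≤ twistedG2 K e)).toEquiv,
    card_U_Gam S hφ h3, hK, ← pow_mul, mul_comm]

include S hφ h3 hK he in
theorem not_dvd_index :
    ¬ 3 ∣ ((chevG2.posUnipotent K ⊓ twistedG2 K e).subgroupOf (twistedG2 K e)).index := by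
  have h1 := Subgroup.card_mul_index
    ((chevG2.posUnipotent K ⊓ twistedG2 K e).subgroupOf (twistedG2 K e))
  rw [card_U1 S hφ h3 hK, card_Gam S hφ h3 hK he, hK] at h1
  have hq : (3 : ℕ) ^ (2 * m + 1) = 3 * 3 ^ (2 * m) := by rw [pow_succ, mul_comm]
  have hk : 1 ≤ 3 ^ (2 * m) := Nat.one_le_pow _ _ (by norm_num)
  have h2 : ((chevG2.posUnipotent K ⊓ twistedG2 K e).subgroupOf (twistedG2 K e)).index =
      (3 ^ (2 * m + 1) - 1) * ((3 ^ (2 * m + 1)) ^ 3 + 1) := by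
    apply Nat.eq_of_mul_eq_mul_left (show 0 < 3 ^ (3 * (2 * m + 1)) by positivity)
    rw [h1, ← pow_mul, mul_comm (2 * m + 1) 3, mul_assoc]
  rw [h2, Nat.dvd_iff_mod_eq_zero, Nat.mul_mod]
  have e1 : (3 ^ (2 * m + 1) - 1) % 3 = 2 := by
    rw [hq]
    omega
  have e2 : ((3 ^ (2 * m + 1)) ^ 3 + 1) % 3 = 1 := by
    rw [Nat.add_mod, Nat.pow_mod, hq, Nat.mul_mod_right]
  rw [e1, e2]
  norm_num

include S hφ h3 hK he in
/-- Distinct Sylow 3-subgroups of the Ree group intersect trivially. -/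
theorem sylow3_ti (P Q : Sylow 3 ↥(twistedG2 K e)) (hPQ : P ≠ Q) :
    (P : Subgroup ↥(twistedG2 K e)) ⊓ (Q : Subgroup ↥(twistedG2 K e)) = ⊥ := by
  haveI : Fact (Nat.Prime 3) := ⟨Nat.prime_three⟩
  have hn0G : n0 K ∈ twistedG2 K e := n0_mem_Gam (e_ne he)
  have hP1 : IsPGroup 3 ↥((chevG2.posUnipotent K ⊓ twistedG2 K e).subgroupOf (twistedG2 K e)) :=
    IsPGroup.of_card (card_U1 S hφ h3 hK)
  have mP : ∀ g : ↥(twistedG2 K e),
      g ∈ ((hP1.toSylow (not_dvd_index S hφ h3 hK he) : Sylow 3 ↥(twistedG2 K e)) :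
        Subgroup ↥(twistedG2 K e)) ↔ (g : GL chevG2.Idx K) ∈ chevG2.posUnipotent K := by
    intro g
    rw [IsPGroup.toSylow_coe]
    exact ⟨fun h => (Subgroup.mem_subgroupOf.mp h).1,
      fun h => Subgroup.mem_subgroupOf.mpr ⟨h, g.2⟩⟩
  have mB : ∀ g : ↥(twistedG2 K e),
      g ∈ (chevG2.borelSubgroup K ⊓ twistedG2 K e).subgroupOf (twistedG2 K e) ↔
        (g : GL chevG2.Idx K) ∈ chevG2.borelSubgroup K :=
    fun g => ⟨fun h => (Subgroup.mem_subgroupOf.mp h).1,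
      fun h => Subgroup.mem_subgroupOf.mpr ⟨h, g.2⟩⟩
  refine Ree18.sylow_ti (hP1.toSylow (not_dvd_index S hφ h3 hK he))
    ((chevG2.borelSubgroup K ⊓ twistedG2 K e).subgroupOf (twistedG2 K e)) ⟨n0 K, hn0G⟩
    ?_ ?_ ?_ P Q hPQ
  · intro b hb u hu
    rw [mP] at hu ⊢
    exact B_conj_U ((mB b).mp hb) hu
  · intro g hg
    obtain ⟨u, hu, b, hb, e1⟩ := cell_cases S hφ h3 hK he g.2 (fun h => hg ((mB g).mpr h))
    exact ⟨⟨u, hu.2⟩, (mB _).mpr (U_le_B hu.1), ⟨b, hb.2⟩, (mB _).mpr hb.1, Subtype.ext e1⟩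
  · intro u hu hu'
    rw [mP] at hu hu'
    exact Subtype.ext (U_n_U hu hu')

end Cfsg.Agent.Lib.Helper18.Ree19
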