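import Mathlib
import Cfsg.Agent.Lib.Helper18.Ree4

set_option autoImplicit false
set_option linter.unusedSimpArgs false
set_option linter.unusedSectionVars false
set_option linter.unusedVariables false

/-!
# Multiplication in `U` (type `G₂`, characteristic 3) and the elements of order 3 of `U¹`
-/

namespace Cfsg.Agent.Lib.Helper18.Ree20

open Cfsg Cfsg.Lie Cfsg.Agent.Lib.Helper18 Cfsg.Agent.Lib.Helper18.Fast
  Cfsg.Agent.Lib.Helper18.Facts Cfsg.Agent.Lib.Helper18.WGroup Cfsg.Agent.Lib.Helper18.BNPairC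
  Cfsg.Agent.Lib.Helper18.UOrd Cfsg.Agent.Lib.Helper18.UNF Cfsg.Agent.Lib.Helper18.Units
  Cfsg.Agent.Lib.Helper18.Sub Cfsg.Agent.Lib.Helper18.Core Cfsg.Agent.Lib.Helper18.Ree1
  Cfsg.Agent.Lib.Helper18.Ree2 Cfsg.Agent.Lib.Helper18.Ree3 Cfsg.Agent.Lib.Helper18.Ree4
  Cfsg.Agent.Lib.Helper36 Cfsg.Agent.Lib.Helper36.ChevEngine Cfsg.Agent.Lib.Helper36.ChevSound
  Cfsg.Agent.Lib.Helper19.TwEngine

variable {K : Type*} [Field K]

section char3

variable [CharP K 3]

/-- Further commuting pairs of positive root subgroups. -/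
def commPairs2 : List (ℕ × ℕ) := [(8, 6), (9, 7), (9, 6), (10, 7), (11, 7), (11, 6)]

set_option maxRecDepth 100000 in
theorem comm_ok2 : commPairs2.all (fun p => checkRelP 3 ChevTabG2.tab chevG2.rank chevG2.nroots
    [(p.1, mt), (p.2, mu)] [(p.2, mu), (p.1, mt)]) = true := by decide +kernel

theorem comm_X2 {r s : ℕ} (h : (r, s) ∈ commPairs2) (t u : K) :
    X K r t * X K s u = X K s u * X K r t := by
  have h1 := List.all_eq_true.mp comm_ok2 (r, s) h
  have h2 := rel_of_chk _ _ h1 t u (0 : K)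
  simpa [evalWord, wg, ev_mt, ev_mu] using h2

set_option maxRecDepth 100000 in
theorem chk_87 : checkRelP 3 ChevTabG2.tab chevG2.rank chevG2.nroots
    [(8, mt), (7, mu)] [(7, mu), (8, mt), (9, [⟨-1, 1, 1, 0⟩])] = true := by decide +kernel

set_option maxRecDepth 100000 in
theorem chk_106 : checkRelP 3 ChevTabG2.tab chevG2.rank chevG2.nroots
    [(10, mt), (6, mu)] [(6, mu), (10, mt), (11, [⟨-1, 1, 1, 0⟩])] = true := by decide +kernel

theorem rel_87 (p A : K) : X K 8 p * X K 7 A = X K 7 A * (X K 8 p * X K 9 (-(p * A))) := by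
  have := rel_of_chk _ _ chk_87 p A (0 : K)
  simp only [evalWord, List.map_cons, List.map_nil, wg, List.prod_cons, List.prod_nil, mul_one,
    ev_mt, ev_mu] at this
  simp only [evalParam, monoEval] at this
  simpa [mul_assoc] using this

theorem rel_106 (r B : K) : X K 10 r * X K 6 B = X K 6 B * (X K 10 r * X K 11 (-(r * B))) := by
  have := rel_of_chk _ _ chk_106 r B (0 : K)
  simp only [evalWord, List.map_cons, List.map_nil, wg, List.prod_cons, List.prod_nil, mul_one,
    ev_mt, ev_mu] at this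
  simp only [evalParam, monoEval] at this
  simpa [mul_assoc] using this

theorem e4_X6 (p q r s B : K) : e4 p q r s * X K 6 B = X K 6 B * e4 p q r (s - r * B) := by
  show X K 8 p * X K 9 q * X K 10 r * X K 11 s * X K 6 B =
    X K 6 B * (X K 8 p * X K 9 q * X K 10 r * X K 11 (s - r * B))
  have c8 := comm_X2 (K := K) (show (8, 6) ∈ commPairs2 by decide) p B
  have c9 := comm_X2 (K := K) (show (9, 6) ∈ commPairs2 by decide) q B
  have c11 := comm_X2 (K := K) (show (11, 6) ∈ commPairs2 by decide) s B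
  have c10 := rel_106 r B
  have e : X K 11 (s - r * B) = X K 11 (-(r * B)) * X K 11 s := by
    rw [← X_add]
    congr 1
    ring
  rw [e]
  calc X K 8 p * X K 9 q * X K 10 r * X K 11 s * X K 6 B
      = X K 8 p * X K 9 q * X K 10 r * (X K 11 s * X K 6 B) := by group
    _ = X K 8 p * X K 9 q * (X K 10 r * X K 6 B) * X K 11 s := by rw [c11]; group
    _ = X K 8 p * (X K 9 q * X K 6 B) * (X K 10 r * X K 11 (-(r * B))) * X K 11 s := by
      rw [c10]; group
    _ = (X K 8 p * X K 6 B) * X K 9 q * (X K 10 r * X K 11 (-(r * B))) * X K 11 s := by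
      rw [c9]; group
    _ = X K 6 B * (X K 8 p * X K 9 q * X K 10 r * (X K 11 (-(r * B)) * X K 11 s)) := by
      rw [c8]; group

theorem e4_X7 (p q r s A : K) : e4 p q r s * X K 7 A = X K 7 A * e4 p (q - p * A) r s := by
  show X K 8 p * X K 9 q * X K 10 r * X K 11 s * X K 7 A =
    X K 7 A * (X K 8 p * X K 9 (q - p * A) * X K 10 r * X K 11 s)
  have c9 := comm_X2 (K := K) (show (9, 7) ∈ commPairs2 by decide) q A
  have c10 := comm_X2 (K := K) (show (10, 7) ∈ commPairs2 by decide) r A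
  have c11 := comm_X2 (K := K) (show (11, 7) ∈ commPairs2 by decide) s A
  have c8 := rel_87 p A
  have e : X K 9 (q - p * A) = X K 9 (-(p * A)) * X K 9 q := by
    rw [← X_add]
    congr 1
    ring
  rw [e]
  calc X K 8 p * X K 9 q * X K 10 r * X K 11 s * X K 7 A
      = X K 8 p * X K 9 q * X K 10 r * (X K 11 s * X K 7 A) := by group
    _ = X K 8 p * X K 9 q * (X K 10 r * X K 7 A) * X K 11 s := by rw [c11]; group
    _ = X K 8 p * (X K 9 q * X K 7 A) * X K 10 r * X K 11 s := by rw [c10]; group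
    _ = (X K 8 p * X K 7 A) * X K 9 q * X K 10 r * X K 11 s := by rw [c9]; group
    _ = X K 7 A * (X K 8 p * (X K 9 (-(p * A)) * X K 9 q) * X K 10 r * X K 11 s) := by
      rw [c8]; group

/-- The product of two elements of `U` in normal form. -/
theorem nf'_mul (B A p q r s B' A' p' q' r' s' : K) :
    nf' B A p q r s * nf' B' A' p' q' r' s' =
      nf' (B + B') (A + A') (p + p' - B' * A) (q + q' - p * A' - B' * A ^ 2 + B' * A * A')
        (r + r' + B' * A ^ 3) (s + s' - r * B' + B' ^ 2 * A ^ 3) := by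
  unfold nf'
  calc X K 6 B * X K 7 A * e4 p q r s * (X K 6 B' * X K 7 A' * e4 p' q' r' s')
      = X K 6 B * X K 7 A * (e4 p q r s * X K 6 B') * X K 7 A' * e4 p' q' r' s' := by group
    _ = X K 6 B * (X K 7 A * X K 6 B') * (e4 p q r (s - r * B') * X K 7 A') * e4 p' q' r' s' := by
      rw [e4_X6]; group
    _ = X K 6 B * X K 6 B' * X K 7 A *
        (e4 (-(B' * A)) (-(B' * A ^ 2)) (B' * A ^ 3) (B' ^ 2 * A ^ 3) * X K 7 A') *
        e4 p (q - p * A') r (s - r * B') * e4 p' q' r' s' := by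
      rw [swap_ab, e4_X7]; group
    _ = X K 6 B * X K 6 B' * (X K 7 A * X K 7 A') *
        (e4 (-(B' * A)) (-(B' * A ^ 2) - -(B' * A) * A') (B' * A ^ 3) (B' ^ 2 * A ^ 3) *
        e4 p (q - p * A') r (s - r * B') * e4 p' q' r' s') := by
      rw [e4_X7]; group
    _ = X K 6 (B + B') * X K 7 (A + A') *
        e4 (p + p' - B' * A) (q + q' - p * A' - B' * A ^ 2 + B' * A * A')
          (r + r' + B' * A ^ 3) (s + s' - r * B' + B' ^ 2 * A ^ 3) := by
      rw [e4_mul, e4_mul, ← X_add, ← X_add]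
      congr 2 <;> ring

theorem three_eq_zero : (3 : K) = 0 := by
  have := CharP.cast_eq_zero K 3
  exact_mod_cast this

/-- The cube of an element of `U`. -/
theorem nf'_cube (B A p q r s : K) :
    nf' B A p q r s ^ 3 = nf' 0 0 0 (-(B * A ^ 2)) 0 (-(B ^ 2 * A ^ 3)) := by
  have h3 : (3 : K) = 0 := three_eq_zero
  rw [pow_succ, pow_two, nf'_mul, nf'_mul]
  congr 1
  · linear_combination B * h3
  · linear_combination A * h3
  · linear_combination (p - B * A) * h3
  · linear_combination (q - p * A) * h3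
  · linear_combination (r + 3 * B * A ^ 3) * h3
  · linear_combination (s - r * B + 3 * B ^ 2 * A ^ 3) * h3

theorem nf'_zero : nf' (0 : K) 0 0 0 0 0 = 1 := by
  simp [nf', E4, X_zero]

variable {φ : K →+* K}

/-- The elements of `U¹` of order dividing 3. -/
theorem reeU_cube_eq_one (t u v : K) : reeU φ t u v ^ 3 = 1 ↔ t = 0 := by
  rw [reeU_eq, nf'_cube]
  constructor
  · intro h
    rw [← nf'_zero] at h
    obtain ⟨-, -, -, h4, -, -⟩ := nf'_inj h
    have h4' : t * φ t ^ 2 = 0 := by linear_combination -h4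
    rcases mul_eq_zero.mp h4' with h | h
    · exact h
    · exact (map_eq_zero φ).mp (pow_eq_zero_iff (by norm_num) |>.mp h)
  · rintro rfl
    rw [← nf'_zero]
    congr 1 <;> simp

theorem reeU_zero : reeU φ (0 : K) 0 0 = 1 := by
  rw [reeU_eq]
  simp [nf', E4, X_zero]

theorem reeU_order_three (t u v : K) :
    orderOf (reeU φ t u v) = 3 ↔ t = 0 ∧ (u, v) ≠ (0, 0) := by
  haveI : Fact (Nat.Prime 3) := ⟨Nat.prime_three⟩
  rw [orderOf_eq_prime_iff, reeU_cube_eq_one]
  constructor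
  · rintro ⟨rfl, h⟩
    refine ⟨rfl, fun h' => h ?_⟩
    rw [Prod.mk.injEq] at h'
    rw [h'.1, h'.2, reeU_zero]
  · rintro ⟨rfl, h⟩
    refine ⟨rfl, fun h' => h ?_⟩
    rw [← reeU_zero (φ := φ)] at h'
    obtain ⟨-, h1, h2⟩ := reeU_inj h'
    rw [h1, h2]

variable (S : Sig K φ) {e : ℕ} (hφ : ∀ x, φ x = x ^ e) (h3 : ∀ x : K, φ (φ x) ^ 3 = x)

include S hφ h3 in
/-- `U¹` has exactly `q² - 1` elements of order 3. -/
theorem card_order_three [Fintype K] :
    Nat.card {u : ↥(chevG2.posUnipotent K ⊓ twistedG2 K e) // orderOf u = 3} =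
      Fintype.card K ^ 2 - 1 := by
  classical
  have hb : Function.Bijective (fun p : {p : K × K // p ≠ (0, 0)} =>
      (⟨⟨reeU φ 0 p.1.1 p.1.2, (mem_U_Gam S hφ h3 _).mpr ⟨_, _, _, rfl⟩⟩, by
        rw [← Subgroup.orderOf_coe]
        exact (reeU_order_three 0 p.1.1 p.1.2).mpr ⟨rfl, p.2⟩⟩ :
        {u : ↥(chevG2.posUnipotent K ⊓ twistedG2 K e) // orderOf u = 3})) := by
    constructor
    · rintro ⟨⟨u, v⟩, hp⟩ ⟨⟨u', v'⟩, hp'⟩ h
      have h' := congrArg (fun x : {u : ↥(chevG2.posUnipotent K ⊓ twistedG2 K e) //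
        orderOf u = 3} => ((x : ↥(chevG2.posUnipotent K ⊓ twistedG2 K e)) : GL chevG2.Idx K)) h
      obtain ⟨-, h1, h2⟩ := reeU_inj h'
      simp only at h1 h2
      subst h1 h2
      rfl
    · rintro ⟨⟨g, hg⟩, ho⟩
      obtain ⟨t, u, v, rfl⟩ := (mem_U_Gam S hφ h3 g).mp hg
      rw [← Subgroup.orderOf_coe] at ho
      obtain ⟨rfl, huv⟩ := (reeU_order_three t u v).mp ho
      exact ⟨⟨(u, v), huv⟩, rfl⟩
  rw [← Nat.card_congr (Equiv.ofBijective _ hb)]
  have : Nat.card {p : K × K // p ≠ (0, 0)} = Nat.card (K × K) - 1 := by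
    rw [Nat.card_eq_fintype_card, Nat.card_eq_fintype_card, Fintype.card_subtype_compl,
      Fintype.card_subtype_eq]
  rw [this, Nat.card_eq_fintype_card, Fintype.card_prod, pow_two]

end char3

end Cfsg.Agent.Lib.Helper18.Ree20
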