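import Mathlib
import Cfsg.Agent.Lib.Helper19.SL2Hom

set_option autoImplicit false
set_option linter.unusedSimpArgs false
set_option linter.unusedSectionVars false
set_option linter.unusedVariables false

/-!
# A twisted diagonal of two commuting rank one groups is a rank one group
-/

namespace Cfsg.Agent.Lib.Helper18.Ree21

open Cfsg.Agent.Lib.Helper19.SL2Hom

variable {F : Type*} [Field F] {Γ : Type*} [Group Γ]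

theorem comm4 {a b c d : Γ} (h : Commute b c) : a * b * (c * d) = a * c * (b * d) := by
  rw [mul_assoc, ← mul_assoc b, h.eq, mul_assoc, ← mul_assoc]

/-- If `(x₁, y₁)` and `(x₂, y₂)` satisfy the relations of `SL₂`, commute with each other, and `φ` is
a field endomorphism, then `(x₁ ∘ φ) · x₂`, `(y₁ ∘ φ) · y₂` satisfy the relations of `SL₂`. -/
theorem diag {x₁ y₁ x₂ y₂ : F → Γ} (R₁ : RankOne x₁ y₁) (R₂ : RankOne x₂ y₂) (φ : F →+* F)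
    (cxx : ∀ s t, Commute (x₁ s) (x₂ t)) (cxy : ∀ s t, Commute (x₁ s) (y₂ t))
    (cyx : ∀ s t, Commute (y₁ s) (x₂ t)) (cyy : ∀ s t, Commute (y₁ s) (y₂ t)) :
    RankOne (fun t => x₁ (φ t) * x₂ t) (fun t => y₁ (φ t) * y₂ t) ∧
    (∀ t, w (fun t => x₁ (φ t) * x₂ t) (fun t => y₁ (φ t) * y₂ t) t =
      w x₁ y₁ (φ t) * w x₂ y₂ t) ∧
    (∀ t, h (fun t => x₁ (φ t) * x₂ t) (fun t => y₁ (φ t) * y₂ t) t =
      h x₁ y₁ (φ t) * h x₂ y₂ t) := by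
  have cw1x : ∀ s t, Commute (w x₁ y₁ s) (x₂ t) := fun s t =>
    ((cxx _ t).mul_left (cyx _ t)).mul_left (cxx _ t)
  have cw1y : ∀ s t, Commute (w x₁ y₁ s) (y₂ t) := fun s t =>
    ((cxy _ t).mul_left (cyy _ t)).mul_left (cxy _ t)
  have cxw2 : ∀ s t, Commute (x₁ s) (w x₂ y₂ t) := fun s t =>
    ((cxx s _).mul_right (cxy s _)).mul_right (cxx s _)
  have cyw2 : ∀ s t, Commute (y₁ s) (w x₂ y₂ t) := fun s t =>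
    ((cyx s _).mul_right (cyy s _)).mul_right (cyx s _)
  have cww : ∀ s t, Commute (w x₁ y₁ s) (w x₂ y₂ t) := fun s t =>
    ((cxw2 _ t).mul_left (cyw2 _ t)).mul_left (cxw2 _ t)
  have hw : ∀ t, w (fun t => x₁ (φ t) * x₂ t) (fun t => y₁ (φ t) * y₂ t) t =
      w x₁ y₁ (φ t) * w x₂ y₂ t := by
    intro t
    have e : φ (-t⁻¹) = -(φ t)⁻¹ := by rw [map_neg, map_inv₀]
    simp only [w]
    rw [e]
    have c1 := (cxx (φ t) t).eq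
    have c2 := (cyx (-(φ t)⁻¹) t).eq
    have c3 := (cxy (φ t) (-t⁻¹)).eq
    calc x₁ (φ t) * x₂ t * (y₁ (-(φ t)⁻¹) * y₂ (-t⁻¹)) * (x₁ (φ t) * x₂ t)
        = x₁ (φ t) * (x₂ t * y₁ (-(φ t)⁻¹)) * (y₂ (-t⁻¹) * x₁ (φ t)) * x₂ t := by group
      _ = x₁ (φ t) * (y₁ (-(φ t)⁻¹) * x₂ t) * (x₁ (φ t) * y₂ (-t⁻¹)) * x₂ t := by rw [c2, c3]
      _ = x₁ (φ t) * y₁ (-(φ t)⁻¹) * (x₂ t * x₁ (φ t)) * y₂ (-t⁻¹) * x₂ t := by group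
      _ = x₁ (φ t) * y₁ (-(φ t)⁻¹) * (x₁ (φ t) * x₂ t) * y₂ (-t⁻¹) * x₂ t := by rw [c1]
      _ = x₁ (φ t) * y₁ (-(φ t)⁻¹) * x₁ (φ t) * (x₂ t * y₂ (-t⁻¹) * x₂ t) := by group
  have hh : ∀ t, h (fun t => x₁ (φ t) * x₂ t) (fun t => y₁ (φ t) * y₂ t) t =
      h x₁ y₁ (φ t) * h x₂ y₂ t := by
    intro t
    simp only [h]
    rw [hw t, hw 1, map_one, mul_inv_rev]
    have c1 : Commute (w x₂ y₂ t * (w x₂ y₂ 1)⁻¹) ((w x₁ y₁ 1)⁻¹) :=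
      (((cww 1 t).symm.inv_right).mul_left ((cww 1 1).symm.inv_right.inv_left))
    calc w x₁ y₁ (φ t) * w x₂ y₂ t * ((w x₂ y₂ 1)⁻¹ * (w x₁ y₁ 1)⁻¹)
        = w x₁ y₁ (φ t) * (w x₂ y₂ t * (w x₂ y₂ 1)⁻¹ * (w x₁ y₁ 1)⁻¹) := by group
      _ = w x₁ y₁ (φ t) * ((w x₁ y₁ 1)⁻¹ * (w x₂ y₂ t * (w x₂ y₂ 1)⁻¹)) := by rw [c1.eq]
      _ = w x₁ y₁ (φ t) * (w x₁ y₁ 1)⁻¹ * (w x₂ y₂ t * (w x₂ y₂ 1)⁻¹) := by group
  refine ⟨⟨?_, ?_, ?_, ?_⟩, hw, hh⟩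
  · intro s t
    show x₁ (φ (s + t)) * x₂ (s + t) = x₁ (φ s) * x₂ s * (x₁ (φ t) * x₂ t)
    rw [map_add, R₁.x_add, R₂.x_add]
    exact (comm4 (cxx (φ t) s)).symm ▸ rfl
  · intro s t
    show y₁ (φ (s + t)) * y₂ (s + t) = y₁ (φ s) * y₂ s * (y₁ (φ t) * y₂ t)
    rw [map_add, R₁.y_add, R₂.y_add]
    exact (comm4 (cyy (φ t) s)).symm ▸ rfl
  · intro t u ht
    rw [hw t]
    show w x₁ y₁ (φ t) * w x₂ y₂ t * (x₁ (φ u) * x₂ u) =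
      y₁ (φ (-(t ^ 2)⁻¹ * u)) * y₂ (-(t ^ 2)⁻¹ * u) * (w x₁ y₁ (φ t) * w x₂ y₂ t)
    have hφt : φ t ≠ 0 := (map_ne_zero φ).mpr ht
    have e : φ (-(t ^ 2)⁻¹ * u) = -((φ t) ^ 2)⁻¹ * φ u := by
      rw [map_mul, map_neg, map_inv₀, map_pow]
    rw [e]
    have r1 := R₁.rel (φ t) (φ u) hφt
    have r2 := R₂.rel t u ht
    calc w x₁ y₁ (φ t) * w x₂ y₂ t * (x₁ (φ u) * x₂ u)
        = w x₁ y₁ (φ t) * x₁ (φ u) * (w x₂ y₂ t * x₂ u) := comm4 (cxw2 (φ u) t).symm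
      _ = y₁ (-((φ t) ^ 2)⁻¹ * φ u) * w x₁ y₁ (φ t) * (y₂ (-(t ^ 2)⁻¹ * u) * w x₂ y₂ t) := by
        rw [r1, r2]
      _ = y₁ (-((φ t) ^ 2)⁻¹ * φ u) * y₂ (-(t ^ 2)⁻¹ * u) * (w x₁ y₁ (φ t) * w x₂ y₂ t) :=
        comm4 (cw1y (φ t) _)
  · intro t u ht hu
    rw [hh, hh, hh, map_mul, R₁.h_mul _ _ ((map_ne_zero φ).mpr ht) ((map_ne_zero φ).mpr hu),
      R₂.h_mul _ _ ht hu]
    have ch : Commute (h x₁ y₁ (φ u)) (h x₂ y₂ t) := by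
      unfold h
      exact ((cww (φ u) t).mul_right ((cww (φ u) 1).inv_right)).mul_left
        (((cww 1 t).inv_left).mul_right ((cww 1 1).inv_left.inv_right))
    exact comm4 ch

end Cfsg.Agent.Lib.Helper18.Ree21
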