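import Mathlib
import Cfsg.Agent.Lib.Helper18.Ree17
import Cfsg.Agent.Lib.Helper18.Ree21
import Cfsg.Agent.Lib.Helper19.SL2Chev
import Cfsg.Agent.Lib.Helper19.NegRows
import Cfsg.Agent.Lib.Helper36.ChevAll

set_option autoImplicit false
set_option linter.unusedSimpArgs false
set_option linter.unusedSectionVars false
set_option linter.unusedVariables false

/-!
# The small Ree groups: the subgroup `PSL₂(q)` centralising the involution of `H¹`
-/

namespace Cfsg.Agent.Lib.Helper18.Ree22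

open Cfsg Cfsg.Lie Cfsg.Agent.Lib.Helper18 Cfsg.Agent.Lib.Helper18.Fast
  Cfsg.Agent.Lib.Helper18.Facts Cfsg.Agent.Lib.Helper18.WGroup Cfsg.Agent.Lib.Helper18.BNPairC
  Cfsg.Agent.Lib.Helper18.UOrd Cfsg.Agent.Lib.Helper18.UNF Cfsg.Agent.Lib.Helper18.Units
  Cfsg.Agent.Lib.Helper18.Sub Cfsg.Agent.Lib.Helper18.Core Cfsg.Agent.Lib.Helper18.Ree1
  Cfsg.Agent.Lib.Helper18.Ree2 Cfsg.Agent.Lib.Helper18.Ree3 Cfsg.Agent.Lib.Helper18.Ree4
  Cfsg.Agent.Lib.Helper18.Ree5 Cfsg.Agent.Lib.Helper18.Ree6 Cfsg.Agent.Lib.Helper18.Ree7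
  Cfsg.Agent.Lib.Helper18.Ree10 Cfsg.Agent.Lib.Helper18.Ree11 Cfsg.Agent.Lib.Helper18.Ree12
  Cfsg.Agent.Lib.Helper18.Ree13 Cfsg.Agent.Lib.Helper18.Ree14 Cfsg.Agent.Lib.Helper18.Ree17
  Cfsg.Agent.Lib.Helper18.Torus Cfsg.Agent.Lib.Helper18.XMat Cfsg.Agent.Lib.Helper18.Grade
  Cfsg.Agent.Lib.Helper19.SL2Hom

variable {K : Type*} [Field K]

/-- The rank one relations of the root elements `x_r`, `x_{-r}` of `G₂`. -/
theorem rankX (r : ℕ) (hr : r < 12) :
    RankOne (fun t : K => X K r t) (fun t : K => X K (chevG2.neg r) t) := by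
  have W : Cfsg.Agent.Lib.Helper36.ChevWeyl.WeylData chevG2 K :=
    Cfsg.Agent.Lib.Helper36.ChevAll.weylData chevG2 Ree1.hD
  have h := Cfsg.Agent.Lib.Helper19.SL2Chev.all CAll.cfG2.af W haddG
    (fun i hi s hs => (Cfsg.Agent.Lib.Helper19.NegRows.refl_neg chevG2 Ree1.hD i hi s hs).1) r hr
  unfold Cfsg.Agent.Lib.Helper19.SL2Chev.IsRankOne at h
  have e : ∀ s, (fun t : K => Cfsg.Agent.Lib.Helper36.ChevGen.xU chevG2 W.inv s t) =
      fun t => X K s t := fun s => funext fun t => Units.ext (by rw [coe_X]; rfl)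
  rwa [e, e] at h

theorem rank8 : RankOne (fun t : K => X K 8 t) (fun t : K => X K 3 t) := rankX 8 (by norm_num)

theorem rank10 : RankOne (fun t : K => X K 10 t) (fun t : K => X K 1 t) := rankX 10 (by norm_num)

/-- The diagonal positive root elements `x_{a+b}(t^θ) x_{3a+b}(t)`. -/
noncomputable def xd (φ : K →+* K) (t : K) : GL chevG2.Idx K := X K 8 (φ t) * X K 10 t

/-- The diagonal negative root elements `x_{-a-b}(t^θ) x_{-3a-b}(t)`. -/
noncomputable def yd (φ : K →+* K) (t : K) : GL chevG2.Idx K := X K 3 (φ t) * X K 1 t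

section char3

variable [CharP K 3]

theorem w8 (t : K) : w (fun t : K => X K 8 t) (fun t : K => X K 3 t) t = nx K 8 t := by
  rw [nx8]
  rfl

theorem w10 (t : K) : w (fun t : K => X K 10 t) (fun t : K => X K 1 t) t = nx K 10 t := by
  rw [nx10]
  rfl

theorem h8 (t : K) : h (fun t : K => X K 8 t) (fun t : K => X K 3 t) t = hx K 8 t := by
  rw [hx_eq, rank8.h_eq, w8, w8]

theorem h10 (t : K) : h (fun t : K => X K 10 t) (fun t : K => X K 1 t) t = hx K 10 t := by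
  rw [hx_eq, rank10.h_eq, w10, w10]

variable (φ : K →+* K)

theorem rankD_aux :
    RankOne (xd φ) (yd φ) ∧
    (∀ t, w (xd φ) (yd φ) t = nx K 8 (φ t) * nx K 10 t) ∧
    (∀ t, h (xd φ) (yd φ) t = hx K 8 (φ t) * hx K 10 t) := by
  obtain ⟨h1, h2, h3⟩ := Ree21.diag (rank8 (K := K)) (rank10 (K := K)) φ
    (fun s t => c8_10 s t) (fun s t => (c1_8 t s).symm) (fun s t => (c10_3 t s).symm)
    (fun s t => c3_1 s t)
  refine ⟨h1, fun t => ?_, fun t => ?_⟩
  · have := h2 t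
    rw [w8, w10] at this
    exact this
  · have := h3 t
    rw [h8, h10] at this
    exact this

theorem rankD : RankOne (xd φ) (yd φ) := (rankD_aux φ).1

theorem wd_eq (t : K) : w (xd φ) (yd φ) t = nx K 8 (φ t) * nx K 10 t := (rankD_aux φ).2.1 t

theorem hd_eq (t : K) : h (xd φ) (yd φ) t = hx K 8 (φ t) * hx K 10 t := (rankD_aux φ).2.2 t

theorem xd_eq (u : K) : xd φ u = reeU φ 0 u 0 := (reeU_0u0 u).symm

theorem yd_eq (u : K) : yd φ u = reeV φ 0 (-u) 0 := by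
  rw [reeV_0u0, map_neg, _root_.neg_neg, _root_.neg_neg]
  rfl

theorem xd_mem_U (u : K) : xd φ u ∈ chevG2.posUnipotent K := by
  rw [xd_eq]
  exact reeU_mem 0 u 0

theorem neg3 : chevG2.IsNegRoot 3 := by decide
theorem neg1 : chevG2.IsNegRoot 1 := by decide

theorem yd_mem_V (u : K) : yd φ u ∈ chevG2.negUnipotent K :=
  Subgroup.mul_mem _ (X_neg_mem neg3 _) (X_neg_mem neg1 _)

theorem xd_eq_one {u : K} (h : xd φ u = 1) : u = 0 := by
  rw [xd_eq, ← Ree17.reeU_zero (φ := φ)] at h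
  exact (reeU_inj h).2.1

theorem yd_not_B {u : K} (h : yd φ u ∈ chevG2.borelSubgroup K) : u = 0 := by
  have h1 : yd φ u ∈ chevG2.borelSubgroup K ⊓ chevG2.negUnipotent K := ⟨h, yd_mem_V φ u⟩
  rw [Pos.borel_inf_negUnipotent CAll.cfG2.af CAll.cfG2.pw, Subgroup.mem_bot] at h1
  have R := rankD φ
  have h2 := R.rel 1 (-u) one_ne_zero
  have e : -((1 : K) ^ 2)⁻¹ * -u = u := by norm_num
  rw [e, h1, one_mul] at h2
  have h3 : xd φ (-u) = 1 := by
    have := mul_left_cancel (a := w (xd φ) (yd φ) 1) (b := xd φ (-u)) (c := 1)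
      (by rw [mul_one]; exact h2)
    exact this
  have := xd_eq_one φ h3
  exact neg_eq_zero.mp this

/-- The elements `w(t)`, `t ≠ 0`, are not in `B`. -/
theorem wd_not_B {t : K} (ht : t ≠ 0) : w (xd φ) (yd φ) t ∉ chevG2.borelSubgroup K := by
  intro h
  have h1 : yd φ (-t⁻¹) ∈ chevG2.borelSubgroup K := by
    have e : yd φ (-t⁻¹) = (xd φ t)⁻¹ * w (xd φ) (yd φ) t * (xd φ t)⁻¹ := by
      unfold w
      group
    rw [e]
    exact Subgroup.mul_mem _ (Subgroup.mul_mem _ (Subgroup.inv_mem _ (U_le_B (xd_mem_U φ t))) h)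
      (Subgroup.inv_mem _ (U_le_B (xd_mem_U φ t)))
  have := yd_not_B φ h1
  exact ht (inv_eq_zero.mp (neg_eq_zero.mp this))

theorem hd_coe {t : K} (ht : t ≠ 0) :
    ((h (xd φ) (yd φ) t : GL chevG2.Idx K) : Matrix chevG2.Idx chevG2.Idx K) =
      T2 (φ t * t) (φ t ^ 3 * t) := by
  rw [hd_eq, Units.val_mul, coe_hx, coe_hx, hMat8 ((map_ne_zero φ).mpr ht), hMat10 ht, T2_mul]

theorem hd_mem_H {t : K} (ht : t ≠ 0) : h (xd φ) (yd φ) t ∈ chevG2.diagonalSubgroup K :=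
  (mem_H_iff _).mpr ⟨φ t * t, φ t ^ 3 * t, mul_ne_zero ((map_ne_zero φ).mpr ht) ht,
    mul_ne_zero (pow_ne_zero _ ((map_ne_zero φ).mpr ht)) ht, hd_coe φ ht⟩

/-- The homomorphism `SL₂(K) → G₂(K)` onto the diagonal rank one group. -/
noncomputable def psi : Matrix.SpecialLinearGroup (Fin 2) K →* GL chevG2.Idx K :=
  ⟨⟨phi (xd φ) (yd φ), phi_one (rankD φ)⟩, phi_mul (rankD φ)⟩

theorem psi_zero (g : Matrix.SpecialLinearGroup (Fin 2) K) (hc : g.1 1 0 = 0) :
    psi φ g = xd φ (g.1 0 0 * g.1 0 1) * h (xd φ) (yd φ) (g.1 0 0) := by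
  show phi (xd φ) (yd φ) g = _
  unfold phi
  rw [if_pos hc]

theorem psi_ne (g : Matrix.SpecialLinearGroup (Fin 2) K) (hc : g.1 1 0 ≠ 0) :
    psi φ g = xd φ (g.1 0 0 / g.1 1 0) * w (xd φ) (yd φ) (-(g.1 1 0)⁻¹) *
      xd φ (g.1 1 1 / g.1 1 0) := by
  show phi (xd φ) (yd φ) g = _
  unfold phi
  rw [if_neg hc]

theorem psi_upper (u : K) : psi φ (upper u) = xd φ u := phi_upper (rankD φ) u

theorem psi_not_B (g : Matrix.SpecialLinearGroup (Fin 2) K) (hc : g.1 1 0 ≠ 0) :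
    psi φ g ∉ chevG2.borelSubgroup K := by
  intro hB
  rw [psi_ne φ g hc] at hB
  apply wd_not_B φ (t := -(g.1 1 0)⁻¹) (neg_ne_zero.mpr (inv_ne_zero hc))
  have e : w (xd φ) (yd φ) (-(g.1 1 0)⁻¹) = (xd φ (g.1 0 0 / g.1 1 0))⁻¹ *
      (xd φ (g.1 0 0 / g.1 1 0) * w (xd φ) (yd φ) (-(g.1 1 0)⁻¹) * xd φ (g.1 1 1 / g.1 1 0)) *
      (xd φ (g.1 1 1 / g.1 1 0))⁻¹ := by group
  rw [e]
  exact Subgroup.mul_mem _ (Subgroup.mul_mem _ (Subgroup.inv_mem _ (U_le_B (xd_mem_U φ _))) hB)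
    (Subgroup.inv_mem _ (U_le_B (xd_mem_U φ _)))

theorem T2_one : T2 (1 : K) 1 = 1 := by
  have h1 := coe_eta (RingHom.id K) (one_ne_zero (α := K))
  rw [eta_one] at h1
  simpa using h1.symm

variable {φ}

/-- The parameters of `ψ(g)` for upper triangular `g` with `ψ(g) ∈ H`. -/
theorem psi_zero_H (g : Matrix.SpecialLinearGroup (Fin 2) K) (hc : g.1 1 0 = 0)
    {c0 c1 : K} (hT : ((psi φ g : GL chevG2.Idx K) : Matrix chevG2.Idx chevG2.Idx K) = T2 c0 c1)
    (h0 : c0 ≠ 0) (h1 : c1 ≠ 0) :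
    g.1 0 1 = 0 ∧ g.1 0 0 ≠ 0 ∧ φ (g.1 0 0) * g.1 0 0 = c0 ∧ φ (g.1 0 0) ^ 3 * g.1 0 0 = c1 := by
  have hdet := det_eq g
  rw [hc, mul_zero, sub_zero] at hdet
  have ha : g.1 0 0 ≠ 0 := left_ne_zero_of_mul_eq_one hdet
  have hH : psi φ g ∈ chevG2.diagonalSubgroup K := (mem_H_iff _).mpr ⟨c0, c1, h0, h1, hT⟩
  have e := psi_zero φ g hc
  have e' : xd φ (g.1 0 0 * g.1 0 1) * h (xd φ) (yd φ) (g.1 0 0) = 1 * psi φ g := by
    rw [one_mul, e]
  obtain ⟨e1, e2⟩ := UH_uniq (xd_mem_U φ _) (Subgroup.one_mem _) (hd_mem_H φ ha) hH e'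
  have hb : g.1 0 1 = 0 := by
    have := xd_eq_one φ e1
    rcases mul_eq_zero.mp this with h | h
    · exact absurd h ha
    · exact h
  have e3 := congrArg (fun u : GL chevG2.Idx K => (u : Matrix chevG2.Idx chevG2.Idx K)) e2
  beta_reduce at e3
  rw [hd_coe φ ha, hT] at e3
  obtain ⟨f1, f2⟩ := T2_inj e3
  exact ⟨hb, ha, f1, f2⟩

theorem sq_one_of {a c0 : K} (ha : a ≠ 0) (f1 : φ a * a = c0) (f2 : φ a ^ 3 * a = c0) :
    a = 1 ∨ a = -1 := by
  have hφa : φ a ≠ 0 := (map_ne_zero φ).mpr ha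
  have h1 : (φ a * a) * (φ a ^ 2 - 1) = 0 := by linear_combination f2 - f1
  have h2 : φ a ^ 2 - 1 = 0 := by
    rcases mul_eq_zero.mp h1 with h | h
    · exact absurd h (mul_ne_zero hφa ha)
    · exact h
  have h3 : (φ a - 1) * (φ a + 1) = 0 := by linear_combination h2
  rcases mul_eq_zero.mp h3 with h | h
  · left
    apply φ.injective
    rw [map_one]
    exact sub_eq_zero.mp h
  · right
    apply φ.injective
    rw [map_neg, map_one]
    exact eq_neg_of_add_eq_zero_left h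

/-- The kernel of `ψ` is the centre of `SL₂(K)`. -/
theorem psi_eq_one {g : Matrix.SpecialLinearGroup (Fin 2) K} (hg : psi φ g = 1) :
    g ∈ Subgroup.center (Matrix.SpecialLinearGroup (Fin 2) K) := by
  by_cases hc : g.1 1 0 = 0
  · have hT : ((psi φ g : GL chevG2.Idx K) : Matrix chevG2.Idx chevG2.Idx K) = T2 1 1 := by
      rw [hg, T2_one]
      rfl
    obtain ⟨hb, ha, f1, f2⟩ := psi_zero_H g hc hT one_ne_zero one_ne_zero
    have ha2 := sq_one_of ha f1 f2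
    have hdet := det_eq g
    rw [hc, mul_zero, sub_zero] at hdet
    rw [Matrix.SpecialLinearGroup.mem_center_iff]
    refine ⟨g.1 0 0, ?_, ?_⟩
    · rcases ha2 with h | h <;> rw [h] <;> simp
    · have hd : g.1 1 1 = g.1 0 0 := by
        rcases ha2 with h | h
        · rw [h, one_mul] at hdet
          rw [h, hdet]
        · rw [h] at hdet
          rw [h]
          linear_combination -hdet
      ext i j
      fin_cases i <;> fin_cases j <;> simp [hb, hc, hd]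
  · exfalso
    apply psi_not_B φ g hc
    rw [hg]
    exact Subgroup.one_mem _

theorem psi_center {g : Matrix.SpecialLinearGroup (Fin 2) K}
    (hg : g ∈ Subgroup.center (Matrix.SpecialLinearGroup (Fin 2) K)) : psi φ g = 1 := by
  rw [Matrix.SpecialLinearGroup.mem_center_iff] at hg
  obtain ⟨r, hr, hg⟩ := hg
  have hr2 : r * r = 1 := by
    have : r ^ 2 = 1 := by simpa using hr
    rw [← this]
    ring
  have h00 : g.1 0 0 = r := by rw [← hg]; simp
  have h01 : g.1 0 1 = 0 := by rw [← hg]; simp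
  have h10 : g.1 1 0 = 0 := by rw [← hg]; simp
  have hr0 : r ≠ 0 := left_ne_zero_of_mul_eq_one hr2
  rw [psi_zero φ g h10, h00, h01, mul_zero]
  have e1 : xd φ (0 : K) = 1 := by
    rw [xd_eq, Ree17.reeU_zero]
  rw [e1, one_mul]
  apply Units.ext
  rw [hd_coe φ hr0]
  have hφr : φ r * φ r = 1 := by rw [← map_mul, hr2, map_one]
  have f1 : φ r * r = 1 := by
    have h3 : (r - 1) * (r + 1) = 0 := by linear_combination hr2
    rcases mul_eq_zero.mp h3 with h | h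
    · rw [sub_eq_zero.mp h, map_one, one_mul]
    · rw [eq_neg_of_add_eq_zero_left h, map_neg, map_one]
      ring
  have f2 : φ r ^ 3 * r = 1 := by
    calc φ r ^ 3 * r = (φ r * φ r) * (φ r * r) := by ring
      _ = 1 := by rw [hφr, f1, one_mul]
  rw [f1, f2, T2_one]
  rfl

/-- The involution `h_a(-1) h_b(-1)` is not in the image of `ψ`. -/
theorem psi_ne_inv (g : Matrix.SpecialLinearGroup (Fin 2) K) : psi φ g ≠ eta φ (-1) := by
  intro hg
  by_cases hc : g.1 1 0 = 0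
  · have hT : ((psi φ g : GL chevG2.Idx K) : Matrix chevG2.Idx chevG2.Idx K) = T2 (-1) (-1) := by
      rw [hg, coe_eta φ (neg_ne_zero.mpr one_ne_zero), map_neg, map_one]
    obtain ⟨hb, ha, f1, f2⟩ := psi_zero_H g hc hT (neg_ne_zero.mpr one_ne_zero)
      (neg_ne_zero.mpr one_ne_zero)
    rcases sq_one_of ha f1 f2 with h | h
    · rw [h, map_one, one_mul] at f1
      exact neg_one_ne f1.symm
    · rw [h, map_neg, map_one] at f1
      apply neg_one_ne (K := K)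
      linear_combination -f1
  · apply psi_not_B φ g hc
    rw [hg]
    exact H_le_B (eta_mem_H φ (neg_ne_zero.mpr one_ne_zero))

end char3

end Cfsg.Agent.Lib.Helper18.Ree22
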