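import Mathlib
import Cfsg.Agent.Lib.Helper18.Ree22
import Cfsg.Agent.Lib.Helper18.Ree18

set_option autoImplicit false
set_option linter.unusedSimpArgs false
set_option linter.unusedSectionVars false
set_option linter.unusedVariables false

/-!
# The small Ree groups: the centraliser of the involution of `H¹`, Sylow 2-subgroups
-/

namespace Cfsg.Agent.Lib.Helper18.Ree23

open Cfsg Cfsg.Lie Cfsg.Agent.Lib.Helper18 Cfsg.Agent.Lib.Helper18.Fast
  Cfsg.Agent.Lib.Helper18.Facts Cfsg.Agent.Lib.Helper18.WGroup Cfsg.Agent.Lib.Helper18.BNPairC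
  Cfsg.Agent.Lib.Helper18.UOrd Cfsg.Agent.Lib.Helper18.UNF Cfsg.Agent.Lib.Helper18.Units
  Cfsg.Agent.Lib.Helper18.Sub Cfsg.Agent.Lib.Helper18.Core Cfsg.Agent.Lib.Helper18.Ree1
  Cfsg.Agent.Lib.Helper18.Ree2 Cfsg.Agent.Lib.Helper18.Ree3 Cfsg.Agent.Lib.Helper18.Ree4
  Cfsg.Agent.Lib.Helper18.Ree5 Cfsg.Agent.Lib.Helper18.Ree6 Cfsg.Agent.Lib.Helper18.Ree7
  Cfsg.Agent.Lib.Helper18.Ree10 Cfsg.Agent.Lib.Helper18.Ree11 Cfsg.Agent.Lib.Helper18.Ree12
  Cfsg.Agent.Lib.Helper18.Ree13 Cfsg.Agent.Lib.Helper18.Ree14 Cfsg.Agent.Lib.Helper18.Ree17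
  Cfsg.Agent.Lib.Helper18.Ree22
  Cfsg.Agent.Lib.Helper18.Torus Cfsg.Agent.Lib.Helper18.XMat Cfsg.Agent.Lib.Helper18.Grade
  Cfsg.Agent.Lib.Helper19.SL2Hom

variable {K : Type*} [Field K]

theorem chi3 (c : ℕ → K) : chi FTabG2.fd c 3 = c 0 * (c 1)⁻¹ := by
  have e0 : carE FTabG2.fd 0 3 = 1 := by decide
  have e1 : carE FTabG2.fd 1 3 = -1 := by decide
  have hr : FTabG2.fd.rank = 2 := by decide
  unfold chi chiN
  rw [hr, Finset.prod_range_succ, Finset.prod_range_succ, Finset.prod_range_zero, e0, e1]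
  simp

theorem chi1 (c : ℕ → K) : chi FTabG2.fd c 1 = (c 0 ^ 3)⁻¹ * c 1 := by
  have e0 : carE FTabG2.fd 0 1 = -3 := by decide
  have e1 : carE FTabG2.fd 1 1 = 1 := by decide
  have hr : FTabG2.fd.rank = 2 := by decide
  unfold chi chiN
  rw [hr, Finset.prod_range_succ, Finset.prod_range_succ, Finset.prod_range_zero, e0, e1]
  simp [zpow_neg, zpow_ofNat]

/-- The homomorphism from the group of order 2 mapping the generator to an involution. -/
noncomputable def fZ {G : Type*} [Group G] (a : G) (ha : a * a = 1) : Multiplicative (ZMod 2) →* G where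
  toFun z := if Multiplicative.toAdd z = 0 then 1 else a
  map_one' := by simp
  map_mul' := by
    intro x y
    have hx : ∀ z : ZMod 2, z = 0 ∨ z = 1 := by decide
    have h11 : (1 : ZMod 2) + 1 = 0 := by decide
    rcases hx (Multiplicative.toAdd x) with h | h <;> rcases hx (Multiplicative.toAdd y) with h' | h' <;>
      simp [toAdd_mul, h, h', ha, h11]

theorem fZ_cases {G : Type*} [Group G] (a : G) (ha : a * a = 1) (z : Multiplicative (ZMod 2)) :
    (z = 1 ∧ fZ a ha z = 1) ∨ (z = Multiplicative.ofAdd 1 ∧ fZ a ha z = a) := by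
  have hx : ∀ z : ZMod 2, z = 0 ∨ z = 1 := by decide
  rcases hx (Multiplicative.toAdd z) with h | h
  · left
    refine ⟨Multiplicative.toAdd.injective h, ?_⟩
    show (if Multiplicative.toAdd z = 0 then 1 else a) = 1
    rw [if_pos h]
  · right
    refine ⟨Multiplicative.toAdd.injective h, ?_⟩
    show (if Multiplicative.toAdd z = 0 then 1 else a) = a
    rw [if_neg (by rw [h]; decide)]

section char3

variable [CharP K 3] {φ : K →+* K}

theorem a0_sq : eta φ (-1 : K) * eta φ (-1) = 1 := by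
  rw [← eta_mul φ (neg_ne_zero.mpr one_ne_zero) (neg_ne_zero.mpr one_ne_zero)]
  norm_num
  exact eta_one φ

theorem a0_comm_xd (u : K) : eta φ (-1 : K) * xd φ u = xd φ u * eta φ (-1) := by
  rw [xd_eq]
  exact eta_neg_one_comm u

theorem a0_comm_yd (u : K) : eta φ (-1 : K) * yd φ u = yd φ u * eta φ (-1) := by
  have hs : (-1 : K) ≠ 0 := neg_ne_zero.mpr one_ne_zero
  have hinv : ((-1 : K))⁻¹ = -1 := by rw [inv_eq_iff_eq_inv, inv_neg, inv_one]
  have e3 : chi FTabG2.fd (cc φ (-1 : K)) 3 = 1 := by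
    rw [chi3]
    simp only [cc, if_pos, one_ne_zero, if_false, map_neg, map_one]
    rw [hinv]
    ring
  have e1 : chi FTabG2.fd (cc φ (-1 : K)) 1 = 1 := by
    rw [chi1]
    simp only [cc, if_pos, one_ne_zero, if_false, map_neg, map_one]
    have : ((-1 : K) ^ 3)⁻¹ = -1 := by
      have : ((-1 : K)) ^ 3 = -1 := by ring
      rw [this, hinv]
    rw [this]
    ring
  have h1 := eta_mul_X φ hs 3 (by norm_num) (φ u)
  have h2 := eta_mul_X φ hs 1 (by norm_num) u
  rw [e3, one_mul] at h1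
  rw [e1, one_mul] at h2
  exact comm2 h1 h2

variable {e : ℕ} (hφ : ∀ x, φ x = x ^ e)

include hφ in
/-- The image of `ψ` lies in the Ree group and centralises the involution of `H¹`. -/
theorem psi_mem (g : Matrix.SpecialLinearGroup (Fin 2) K) :
    psi φ g ∈ twistedG2 K e ∧ eta φ (-1 : K) * psi φ g = psi φ g * eta φ (-1) := by
  have h := phi_mem (xd φ) (yd φ) g
  have hle : Subgroup.closure (Set.range (xd φ) ∪ Set.range (yd φ)) ≤
      twistedG2 K e ⊓ Subgroup.centralizer {eta φ (-1 : K)} := by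
    rw [Subgroup.closure_le]
    rintro _ (⟨u, rfl⟩ | ⟨u, rfl⟩)
    · refine ⟨?_, Subgroup.mem_centralizer_iff.mpr ?_⟩
      · rw [xd_eq]
        exact reeU_mem_Gam hφ _ _ _
      · rintro _ rfl
        exact a0_comm_xd u
    · refine ⟨?_, Subgroup.mem_centralizer_iff.mpr ?_⟩
      · rw [yd_eq]
        exact reeV_mem_Gam hφ _ _ _
      · rintro _ rfl
        exact a0_comm_yd u
  have h2 := hle h
  exact ⟨h2.1, Subgroup.mem_centralizer_iff.mp h2.2 _ rfl⟩

/-- The elements `ψ(g)` and `a ψ(g)`. -/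
def InP (φ : K →+* K) (c : GL chevG2.Idx K) : Prop :=
  ∃ g : Matrix.SpecialLinearGroup (Fin 2) K, c = psi φ g ∨ c = eta φ (-1 : K) * psi φ g

include hφ in
theorem InP_mul {c c' : GL chevG2.Idx K} (h : InP φ c) (h' : InP φ c') : InP φ (c * c') := by
  obtain ⟨g, hg⟩ := h
  obtain ⟨g', hg'⟩ := h'
  refine ⟨g * g', ?_⟩
  have hc := (psi_mem hφ g).2
  rcases hg with rfl | rfl <;> rcases hg' with rfl | rfl
  · left
    rw [map_mul]
  · right
    rw [map_mul, ← mul_assoc, ← hc, mul_assoc]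
  · right
    rw [map_mul, mul_assoc]
  · left
    rw [map_mul]
    calc eta φ (-1 : K) * psi φ g * (eta φ (-1) * psi φ g')
        = eta φ (-1 : K) * (psi φ g * eta φ (-1)) * psi φ g' := by group
      _ = eta φ (-1 : K) * (eta φ (-1) * psi φ g) * psi φ g' := by rw [hc]
      _ = (eta φ (-1 : K) * eta φ (-1)) * psi φ g * psi φ g' := by group
      _ = psi φ g * psi φ g' := by rw [a0_sq, one_mul]

theorem InP_xd (u : K) : InP φ (xd φ u) := ⟨upper u, Or.inl (psi_upper φ u).symm⟩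

theorem InP_one : InP φ (1 : GL chevG2.Idx K) := ⟨1, Or.inl (map_one _).symm⟩

variable (h3 : ∀ x : K, φ (φ x) ^ 3 = x) [Fintype K] {m : ℕ}
  (hK : Fintype.card K = 3 ^ (2 * m + 1)) (he : e = 3 ^ m)

include hφ h3 hK he in
theorem InP_eta {s : K} (hs : s ≠ 0) : InP φ (eta φ s) := by
  obtain ⟨u, hu, hus⟩ := exists_pow hK hs
  have e0 : (u ^ 3 ^ m) ^ 3 * u = φ u ^ 3 * u := by rw [hφ u, he]
  rw [e0] at hus
  have hdet : Matrix.det !![u, 0; 0, u⁻¹] = 1 := by
    rw [Matrix.det_fin_two_of]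
    field_simp
    ring
  let g : Matrix.SpecialLinearGroup (Fin 2) K := ⟨!![u, 0; 0, u⁻¹], hdet⟩
  have hg : psi φ g = h (xd φ) (yd φ) u := by
    have hc : g.1 1 0 = 0 := rfl
    rw [psi_zero φ g hc]
    have h00 : g.1 0 0 = u := rfl
    have h01 : g.1 0 1 = 0 := rfl
    rw [h00, h01, mul_zero]
    have e1 : xd φ (0 : K) = 1 := by rw [xd_eq, Ree17.reeU_zero]
    rw [e1, one_mul]
  have hcoe := hd_coe φ hu
  have hφ2 : φ (φ u ^ 3 * u) = φ u * u := by
    rw [map_mul, map_pow, h3, mul_comm]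
  refine ⟨g, ?_⟩
  rcases hus with h | h
  · left
    rw [hg]
    apply Units.ext
    rw [coe_eta φ hs, hcoe, ← h, hφ2]
  · right
    rw [hg]
    apply Units.ext
    rw [Units.val_mul, coe_eta φ hs, coe_eta φ (neg_ne_zero.mpr one_ne_zero), hcoe, T2_mul,
      map_neg, map_one]
    have hs' : s = -(φ u ^ 3 * u) := by rw [h, _root_.neg_neg]
    rw [hs', map_neg, hφ2]
    congr 1 <;> ring

variable (S : Sig K φ)

include S hφ h3 hK he in
theorem InP_n0 : InP φ (n0 K) := by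
  have hdet : Matrix.det !![(0 : K), 1; -1, 0] = 1 := by
    rw [Matrix.det_fin_two_of]
    ring
  let g : Matrix.SpecialLinearGroup (Fin 2) K := ⟨!![0, 1; -1, 0], hdet⟩
  have hc : g.1 1 0 ≠ 0 := by
    show (-1 : K) ≠ 0
    exact neg_ne_zero.mpr one_ne_zero
  have hg : psi φ g = nx K 8 1 * nx K 10 1 := by
    rw [psi_ne φ g hc]
    have h00 : g.1 0 0 = 0 := rfl
    have h10 : g.1 1 0 = -1 := rfl
    have h11 : g.1 1 1 = 0 := rfl
    rw [h00, h10, h11, zero_div]
    have e1 : xd φ (0 : K) = 1 := by rw [xd_eq, Ree17.reeU_zero]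
    have e2 : (-(-1 : K)⁻¹) = 1 := by
      rw [inv_neg, inv_one, _root_.neg_neg]
    rw [e1, one_mul, mul_one, e2, wd_eq, map_one]
  have hN : psi φ g ∈ chevG2.monomialSubgroup K := by
    rw [hg]
    have h8 : nx K 8 1 ∈ chevG2.monomialSubgroup K :=
      Subgroup.mem_sup_right (Subgroup.subset_closure ⟨8, by decide, coe_wg _⟩)
    have h10' : nx K 10 1 ∈ chevG2.monomialSubgroup K :=
      Subgroup.mem_sup_right (Subgroup.subset_closure ⟨10, by decide, coe_wg _⟩)
    exact Subgroup.mul_mem _ h8 h10'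
  have hG := (psi_mem hφ g).1
  rcases N_cases S hφ h3 he ⟨hN, hG⟩ with hH | hH
  · exact absurd (H_le_B hH) (psi_not_B φ g hc)
  · have hn0G : n0 K ∈ twistedG2 K e := n0_mem_Gam (e_ne he)
    have h1 : (n0 K)⁻¹ * psi φ g ∈ chevG2.diagonalSubgroup K ⊓ twistedG2 K e :=
      ⟨hH, Subgroup.mul_mem _ (Subgroup.inv_mem _ hn0G) hG⟩
    obtain ⟨s, hs, e1⟩ := (mem_H_Gam S hφ h3 hK he _).mp h1
    have e2 : n0 K = psi φ g * eta φ s⁻¹ := by
      have e3 : eta φ s * eta φ s⁻¹ = 1 := by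
        rw [← eta_mul φ hs (inv_ne_zero hs), mul_inv_cancel₀ hs, eta_one]
      calc n0 K = n0 K * ((n0 K)⁻¹ * psi φ g) * eta φ s⁻¹ := by
            rw [e1, mul_assoc, e3, mul_one]
        _ = psi φ g * eta φ s⁻¹ := by group
    rw [e2]
    exact InP_mul hφ ⟨g, Or.inl rfl⟩ (InP_eta hφ h3 hK he (inv_ne_zero hs))

theorem eta_comm (s s' : K) (hs : s ≠ 0) (hs' : s' ≠ 0) :
    eta φ s * eta φ s' = eta φ s' * eta φ s := by
  rw [← eta_mul φ hs hs', ← eta_mul φ hs' hs, mul_comm]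

include S hφ h3 hK he in
/-- The centraliser of the involution of `H¹` consists of the `ψ(g)` and the `a ψ(g)`. -/
theorem surj {c : GL chevG2.Idx K} (hc : c ∈ twistedG2 K e)
    (hcomm : eta φ (-1 : K) * c = c * eta φ (-1)) : InP φ c := by
  have hm1 : (-1 : K) ≠ 0 := neg_ne_zero.mpr one_ne_zero
  have ha0H : eta φ (-1 : K) ∈ chevG2.diagonalSubgroup K := eta_mem_H φ hm1
  rcases Gam_cases S hφ h3 hK he hc with ⟨t, u, v, s, hs, rfl⟩ | ⟨t, u, v, s, t', u', v', hs, rfl⟩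
  · have h1 : eta φ (-1 : K) * reeU φ t u v = reeU φ t u v * eta φ (-1) := by
      have e1 : eta φ (-1 : K) * reeU φ t u v * eta φ s =
          reeU φ t u v * eta φ (-1) * eta φ s := by
        calc eta φ (-1 : K) * reeU φ t u v * eta φ s
            = eta φ (-1 : K) * (reeU φ t u v * eta φ s) := by group
          _ = reeU φ t u v * eta φ s * eta φ (-1) := hcomm
          _ = reeU φ t u v * (eta φ s * eta φ (-1)) := by group
          _ = reeU φ t u v * (eta φ (-1) * eta φ s) := by rw [eta_comm s (-1) hs hm1]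
          _ = reeU φ t u v * eta φ (-1) * eta φ s := by group
      exact mul_right_cancel e1
    obtain ⟨rfl, rfl, -⟩ := cent_param hm1 neg_one_ne h1
    rw [← xd_eq]
    exact InP_mul hφ (InP_xd u) (InP_eta hφ h3 hK he hs)
  · have hR : reeU φ t u v ∈ chevG2.posUnipotent K := reeU_mem t u v
    have hR' : reeU φ t' u' v' ∈ chevG2.posUnipotent K := reeU_mem t' u' v'
    have hconj : ∀ {r : GL chevG2.Idx K}, r ∈ chevG2.posUnipotent K →
        eta φ (-1 : K) * r * (eta φ (-1 : K))⁻¹ ∈ chevG2.posUnipotent K := fun {r} hr =>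
      (Subgroup.mem_set_normalizer_iff.mp (Pos.diag_le_normalizer_pos CAll.cfG2.af ha0H) _).mp hr
    have hh : (n0 K)⁻¹ * eta φ (-1 : K) * n0 K * eta φ s * (eta φ (-1 : K))⁻¹ ∈
        chevG2.diagonalSubgroup K :=
      Subgroup.mul_mem _ (Subgroup.mul_mem _ (N_conj_H' n0_mem_N ha0H) (eta_mem_H φ hs))
        (Subgroup.inv_mem _ ha0H)
    have e1 : eta φ (-1 : K) * reeU φ t u v * (eta φ (-1 : K))⁻¹ * n0 K *
        ((n0 K)⁻¹ * eta φ (-1 : K) * n0 K * eta φ s * (eta φ (-1 : K))⁻¹) *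
        (eta φ (-1 : K) * reeU φ t' u' v' * (eta φ (-1 : K))⁻¹) =
        reeU φ t u v * n0 K * eta φ s * reeU φ t' u' v' := by
      calc eta φ (-1 : K) * reeU φ t u v * (eta φ (-1 : K))⁻¹ * n0 K *
          ((n0 K)⁻¹ * eta φ (-1 : K) * n0 K * eta φ s * (eta φ (-1 : K))⁻¹) *
          (eta φ (-1 : K) * reeU φ t' u' v' * (eta φ (-1 : K))⁻¹)
          = eta φ (-1 : K) * (reeU φ t u v * n0 K * eta φ s * reeU φ t' u' v') *
            (eta φ (-1 : K))⁻¹ := by group
        _ = reeU φ t u v * n0 K * eta φ s * reeU φ t' u' v' * eta φ (-1 : K) *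
            (eta φ (-1 : K))⁻¹ := by rw [hcomm]
        _ = reeU φ t u v * n0 K * eta φ s * reeU φ t' u' v' := by group
    obtain ⟨f1, -, f2⟩ := bigcell_uniq (hconj hR) hR hh (eta_mem_H φ hs) (hconj hR') hR' e1
    have g1 : eta φ (-1 : K) * reeU φ t u v = reeU φ t u v * eta φ (-1) := by
      calc eta φ (-1 : K) * reeU φ t u v
          = eta φ (-1 : K) * reeU φ t u v * (eta φ (-1 : K))⁻¹ * eta φ (-1) := by group
        _ = reeU φ t u v * eta φ (-1) := by rw [f1]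
    have g2 : eta φ (-1 : K) * reeU φ t' u' v' = reeU φ t' u' v' * eta φ (-1) := by
      calc eta φ (-1 : K) * reeU φ t' u' v'
          = eta φ (-1 : K) * reeU φ t' u' v' * (eta φ (-1 : K))⁻¹ * eta φ (-1) := by group
        _ = reeU φ t' u' v' * eta φ (-1) := by rw [f2]
    obtain ⟨rfl, rfl, -⟩ := cent_param hm1 neg_one_ne g1
    obtain ⟨rfl, rfl, -⟩ := cent_param hm1 neg_one_ne g2
    rw [← xd_eq, ← xd_eq]
    exact InP_mul hφ (InP_mul hφ (InP_mul hφ (InP_xd u) (InP_n0 hφ h3 hK he S))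
      (InP_eta hφ h3 hK he hs)) (InP_xd u')

end char3

end Cfsg.Agent.Lib.Helper18.Ree23
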