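import Mathlib
import Cfsg.Agent.Lib.Helper18.Ree23

set_option autoImplicit false
set_option linter.unusedSimpArgs false
set_option linter.unusedSectionVars false
set_option linter.unusedVariables false

/-!
# The small Ree groups: `C(a) ≅ Z₂ × PSL₂(q)` for the involution `a` of `H¹`; the Sylow
2-subgroups are elementary abelian of order 8
-/

namespace Cfsg.Agent.Lib.Helper18.Ree24

open Cfsg Cfsg.Lie Cfsg.Agent.Lib.Helper18 Cfsg.Agent.Lib.Helper18.Ree1
  Cfsg.Agent.Lib.Helper18.Ree2 Cfsg.Agent.Lib.Helper18.Ree3 Cfsg.Agent.Lib.Helper18.Ree4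
  Cfsg.Agent.Lib.Helper18.Ree5 Cfsg.Agent.Lib.Helper18.Ree6 Cfsg.Agent.Lib.Helper18.Ree7
  Cfsg.Agent.Lib.Helper18.Ree10 Cfsg.Agent.Lib.Helper18.Ree11 Cfsg.Agent.Lib.Helper18.Ree12
  Cfsg.Agent.Lib.Helper18.Ree13 Cfsg.Agent.Lib.Helper18.Ree14 Cfsg.Agent.Lib.Helper18.Ree17
  Cfsg.Agent.Lib.Helper18.Ree22 Cfsg.Agent.Lib.Helper18.Ree23
  Cfsg.Agent.Lib.Helper19.SL2Hom

variable {K : Type*} [Field K] [CharP K 3] {φ : K →+* K} {e : ℕ} (hφ : ∀ x, φ x = x ^ e)
  (h3 : ∀ x : K, φ (φ x) ^ 3 = x) [Fintype K] {m : ℕ}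
  (hK : Fintype.card K = 3 ^ (2 * m + 1)) (he : e = 3 ^ m) (S : Sig K φ)

include hφ h3 hK he S in
/-- `H¹` has a unique involution. -/
theorem inv_unique {a : GL chevG2.Idx K} (haH : a ∈ chevG2.diagonalSubgroup K)
    (haG : a ∈ twistedG2 K e) (ha1 : a ≠ 1) (ha2 : a * a = 1) : a = eta φ (-1) := by
  obtain ⟨s, hs, rfl⟩ := (mem_H_Gam S hφ h3 hK he a).mp ⟨haH, haG⟩
  have h1 : eta φ (s * s) = eta φ 1 := by rw [eta_mul φ hs hs, ha2, eta_one]
  have h2 := eta_inj φ (mul_ne_zero hs hs) one_ne_zero h1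
  have h3' : (s - 1) * (s + 1) = 0 := by linear_combination h2
  rcases mul_eq_zero.mp h3' with h | h
  · exfalso
    apply ha1
    rw [sub_eq_zero.mp h, eta_one]
  · rw [eq_neg_of_add_eq_zero_left h]

include hφ h3 hK he S in
/-- The centraliser of the involution of `H¹` is `Z₂ × PSL₂(q)`. -/
theorem centralizer_iso (a : ↥(twistedG2 K e))
    (haH : (a : GL chevG2.Idx K) ∈ chevG2.diagonalSubgroup K) (ha1 : a ≠ 1) (ha2 : a * a = 1) :
    Nonempty (↥(Subgroup.centralizer ({a} : Set ↥(twistedG2 K e))) ≃*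
      Multiplicative (ZMod 2) × Matrix.ProjectiveSpecialLinearGroup (Fin 2) K) := by
  have ha : (a : GL chevG2.Idx K) = eta φ (-1) :=
    inv_unique hφ h3 hK he S haH a.2 (fun h => ha1 (Subtype.ext h)) (congrArg Subtype.val ha2)
  let ψC : Matrix.SpecialLinearGroup (Fin 2) K →*
      ↥(Subgroup.centralizer ({a} : Set ↥(twistedG2 K e))) :=
    { toFun := fun g => ⟨⟨psi φ g, (psi_mem hφ g).1⟩, Subgroup.mem_centralizer_iff.mpr (by
        intro h hh
        rw [Set.mem_singleton_iff.mp hh]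
        apply Subtype.ext
        show (a : GL chevG2.Idx K) * psi φ g = psi φ g * (a : GL chevG2.Idx K)
        rw [ha]
        exact (psi_mem hφ g).2)⟩
      map_one' := Subtype.ext (Subtype.ext (map_one (psi φ)))
      map_mul' := fun g g' => Subtype.ext (Subtype.ext (map_mul (psi φ) g g')) }
  have hψC : ∀ g, (((ψC g : ↥(Subgroup.centralizer ({a} : Set ↥(twistedG2 K e)))) :
      ↥(twistedG2 K e)) : GL chevG2.Idx K) = psi φ g := fun g => rfl
  have hker : Subgroup.center (Matrix.SpecialLinearGroup (Fin 2) K) ≤ ψC.ker := by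
    intro g hg
    rw [MonoidHom.mem_ker]
    exact Subtype.ext (Subtype.ext (psi_center hg))
  let ψb : Matrix.ProjectiveSpecialLinearGroup (Fin 2) K →*
      ↥(Subgroup.centralizer ({a} : Set ↥(twistedG2 K e))) :=
    QuotientGroup.lift _ ψC hker
  have hψb : ∀ g : Matrix.SpecialLinearGroup (Fin 2) K,
      ψb (QuotientGroup.mk g) = ψC g := fun g => rfl
  let aC : ↥(Subgroup.centralizer ({a} : Set ↥(twistedG2 K e))) :=
    ⟨a, Subgroup.mem_centralizer_iff.mpr (by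
      intro h hh
      rw [Set.mem_singleton_iff.mp hh])⟩
  have haC2 : aC * aC = 1 := Subtype.ext ha2
  have hcomm : ∀ c : ↥(Subgroup.centralizer ({a} : Set ↥(twistedG2 K e))), aC * c = c * aC := by
    intro c
    apply Subtype.ext
    exact Subgroup.mem_centralizer_iff.mp c.2 a rfl
  let Φ : Multiplicative (ZMod 2) × Matrix.ProjectiveSpecialLinearGroup (Fin 2) K →*
      ↥(Subgroup.centralizer ({a} : Set ↥(twistedG2 K e))) :=
    MonoidHom.noncommCoprod (fZ aC haC2) ψb (by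
      intro z p
      rcases fZ_cases aC haC2 z with ⟨-, h⟩ | ⟨-, h⟩
      · rw [h]
        exact Commute.one_left _
      · rw [h]
        exact hcomm _)
  have hΦ : ∀ z p, Φ (z, p) = fZ aC haC2 z * ψb p := fun z p => rfl
  have hinj : Function.Injective Φ := by
    rw [injective_iff_map_eq_one]
    rintro ⟨z, p⟩ hzp
    induction p using QuotientGroup.induction_on with
    | H g =>
      rw [hΦ, hψb] at hzp
      have hzp' := congrArg (fun c : ↥(Subgroup.centralizer ({a} : Set ↥(twistedG2 K e))) =>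
        ((c : ↥(twistedG2 K e)) : GL chevG2.Idx K)) hzp
      rcases fZ_cases aC haC2 z with ⟨hz, h⟩ | ⟨hz, h⟩
      · rw [h, one_mul] at hzp
        have h1 : psi φ g = 1 := congrArg (fun c : ↥(Subgroup.centralizer
          ({a} : Set ↥(twistedG2 K e))) => ((c : ↥(twistedG2 K e)) : GL chevG2.Idx K)) hzp
        have hg := psi_eq_one h1
        rw [hz]
        exact Prod.ext rfl ((QuotientGroup.eq_one_iff g).mpr hg)
      · exfalso
        rw [h] at hzp
        have h1 : (a : GL chevG2.Idx K) * psi φ g = 1 := congrArg (fun c : ↥(Subgroup.centralizer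
          ({a} : Set ↥(twistedG2 K e))) => ((c : ↥(twistedG2 K e)) : GL chevG2.Idx K)) hzp
        have h2 : psi φ g = eta φ (-1) := by
          calc psi φ g = (eta φ (-1 : K) * eta φ (-1)) * psi φ g := by rw [a0_sq, one_mul]
            _ = eta φ (-1 : K) * ((a : GL chevG2.Idx K) * psi φ g) := by rw [ha, mul_assoc]
            _ = eta φ (-1) := by rw [h1, mul_one]
        exact psi_ne_inv g h2
  have hsurj : Function.Surjective Φ := by
    intro c
    have hc : ((c : ↥(twistedG2 K e)) : GL chevG2.Idx K) ∈ twistedG2 K e := c.1.2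
    have hcm : eta φ (-1 : K) * ((c : ↥(twistedG2 K e)) : GL chevG2.Idx K) =
        ((c : ↥(twistedG2 K e)) : GL chevG2.Idx K) * eta φ (-1) := by
      rw [← ha]
      exact congrArg Subtype.val (Subgroup.mem_centralizer_iff.mp c.2 a rfl)
    obtain ⟨g, hg | hg⟩ := surj hφ h3 hK he S hc hcm
    · refine ⟨(1, QuotientGroup.mk g), ?_⟩
      rw [hΦ, hψb, map_one, one_mul]
      exact Subtype.ext (Subtype.ext hg.symm)
    · refine ⟨(Multiplicative.ofAdd 1, QuotientGroup.mk g), ?_⟩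
      rw [hΦ, hψb]
      have h1 : fZ aC haC2 (Multiplicative.ofAdd 1) = aC := by
        rcases fZ_cases aC haC2 (Multiplicative.ofAdd 1) with ⟨hz, h⟩ | ⟨hz, h⟩
        · exact absurd hz (by decide)
        · exact h
      rw [h1]
      apply Subtype.ext
      apply Subtype.ext
      show (a : GL chevG2.Idx K) * psi φ g = _
      rw [ha, hg]
  exact ⟨(MulEquiv.ofBijective Φ ⟨hinj, hsurj⟩).symm⟩

/-- The 2-part of the order of the Ree group is 8. -/
theorem two_part (m : ℕ) : ∃ k, ¬ 2 ∣ k ∧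
    (3 ^ (2 * m + 1)) ^ 3 * (3 ^ (2 * m + 1) - 1) * ((3 ^ (2 * m + 1)) ^ 3 + 1) = 2 ^ 3 * k := by
  have h8 : 3 ^ (2 * m + 1) % 8 = 3 := by
    rw [pow_succ, pow_mul, Nat.mul_mod, Nat.pow_mod]
    norm_num
  obtain ⟨j, hj⟩ : ∃ j, 3 ^ (2 * m + 1) = 8 * j + 3 := ⟨3 ^ (2 * m + 1) / 8, by omega⟩
  rw [hj]
  refine ⟨(8 * j + 3) ^ 3 * (4 * j + 1) * (2 * (64 * j ^ 3 + 72 * j ^ 2 + 27 * j + 3) + 1), ?_, ?_⟩
  · intro h
    have hodd : Odd ((8 * j + 3) ^ 3 * (4 * j + 1) *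
        (2 * (64 * j ^ 3 + 72 * j ^ 2 + 27 * j + 3) + 1)) :=
      Odd.mul (Odd.mul (Odd.pow ⟨4 * j + 1, by ring⟩) ⟨2 * j, by ring⟩) ⟨_, rfl⟩
    exact (Nat.not_even_iff_odd.mpr hodd) (even_iff_two_dvd.mpr h)
  · have e1 : 8 * j + 3 - 1 = 2 * (4 * j + 1) := by omega
    rw [e1]
    ring

theorem center_of_neg_one {g : Matrix.SpecialLinearGroup (Fin 2) K}
    (h : g.1 = !![-1, 0; 0, -1]) :
    g ∈ Subgroup.center (Matrix.SpecialLinearGroup (Fin 2) K) := by
  rw [Matrix.SpecialLinearGroup.mem_center_iff]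
  refine ⟨-1, by simp, ?_⟩
  rw [h]
  ext i j
  fin_cases i <;> fin_cases j <;> simp

theorem det_d1 : Matrix.det !![(0 : K), 1; -1, 0] = 1 := by
  rw [Matrix.det_fin_two_of]
  ring

theorem det_d2 : Matrix.det !![(1 : K), 1; 1, -1] = 1 := by
  rw [Matrix.det_fin_two_of]
  have h3 : (3 : K) = 0 := by
    have := CharP.cast_eq_zero K 3
    exact_mod_cast this
  linear_combination (-1 : K) * h3

/-- A generator of a quaternion group in `SL₂(K)`. -/
noncomputable def d1 : Matrix.SpecialLinearGroup (Fin 2) K := ⟨!![0, 1; -1, 0], det_d1⟩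

/-- A generator of a quaternion group in `SL₂(K)`. -/
noncomputable def d2 : Matrix.SpecialLinearGroup (Fin 2) K := ⟨!![1, 1; 1, -1], det_d2⟩

theorem d1_sq : (d1 * d1 : Matrix.SpecialLinearGroup (Fin 2) K) ∈
    Subgroup.center (Matrix.SpecialLinearGroup (Fin 2) K) := by
  apply center_of_neg_one
  show (!![0, 1; -1, 0] : Matrix (Fin 2) (Fin 2) K) * !![0, 1; -1, 0] = _
  rw [Matrix.mul_fin_two]
  congr 1 <;> simp

theorem d2_sq : (d2 * d2 : Matrix.SpecialLinearGroup (Fin 2) K) ∈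
    Subgroup.center (Matrix.SpecialLinearGroup (Fin 2) K) := by
  have h3 : (3 : K) = 0 := by
    have := CharP.cast_eq_zero K 3
    exact_mod_cast this
  apply center_of_neg_one
  show (!![1, 1; 1, -1] : Matrix (Fin 2) (Fin 2) K) * !![1, 1; 1, -1] = _
  rw [Matrix.mul_fin_two]
  have e1 : (1 : K) * 1 + 1 * 1 = -1 := by linear_combination h3
  have e2 : (1 : K) * 1 + 1 * -1 = 0 := by ring
  have e3 : (1 : K) * 1 + -1 * 1 = 0 := by ring
  have e4 : (1 : K) * 1 + -1 * -1 = -1 := by linear_combination h3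
  rw [e1, e2, e3, e4]

theorem det_zc : Matrix.det !![(-1 : K), 0; 0, -1] = 1 := by
  rw [Matrix.det_fin_two_of]
  ring

/-- The central involution of `SL₂(K)`. -/
noncomputable def zc : Matrix.SpecialLinearGroup (Fin 2) K := ⟨!![-1, 0; 0, -1], det_zc⟩

theorem d12_comm : ((d2 * d1)⁻¹ * (d1 * d2) : Matrix.SpecialLinearGroup (Fin 2) K) ∈
    Subgroup.center (Matrix.SpecialLinearGroup (Fin 2) K) := by
  have key : (d1 * d2 : Matrix.SpecialLinearGroup (Fin 2) K) = (d2 * d1) * zc := by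
    apply Subtype.ext
    show (!![0, 1; -1, 0] : Matrix (Fin 2) (Fin 2) K) * !![1, 1; 1, -1] =
      !![1, 1; 1, -1] * !![0, 1; -1, 0] * !![-1, 0; 0, -1]
    rw [Matrix.mul_fin_two, Matrix.mul_fin_two, Matrix.mul_fin_two]
    congr 1 <;> simp
  rw [key, inv_mul_cancel_left]
  exact center_of_neg_one rfl

theorem d1_c : (d1 : Matrix.SpecialLinearGroup (Fin 2) K).1 1 0 ≠ 0 := by
  show (-1 : K) ≠ 0
  exact neg_ne_zero.mpr one_ne_zero

theorem d2_c : (d2 : Matrix.SpecialLinearGroup (Fin 2) K).1 1 0 ≠ 0 := by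
  show (1 : K) ≠ 0
  exact one_ne_zero

theorem d12_c : (d1 * d2 : Matrix.SpecialLinearGroup (Fin 2) K).1 1 0 ≠ 0 := by
  have : (d1 * d2 : Matrix.SpecialLinearGroup (Fin 2) K).1 1 0 = -1 := by
    have e : (d1 * d2 : Matrix.SpecialLinearGroup (Fin 2) K).1 =
        (!![0, 1; -1, 0] : Matrix (Fin 2) (Fin 2) K) * !![1, 1; 1, -1] := rfl
    rw [e, Matrix.mul_fin_two]
    simp
  rw [this]
  exact neg_ne_zero.mpr one_ne_zero

include hφ h3 hK he S in
/-- The Sylow 2-subgroups of the Ree group are elementary abelian of order 8. -/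
theorem sylow2 (P : Sylow 2 ↥(twistedG2 K e)) : Nat.card P = 8 ∧ ∀ x ∈ P, x * x = 1 := by
  obtain ⟨k, hk, hk2⟩ := two_part m
  have hk0 : k ≠ 0 := by
    rintro rfl
    exact hk (dvd_zero 2)
  have hfac : (Nat.card ↥(twistedG2 K e)).factorization 2 = 3 := by
    rw [card_Gam S hφ h3 hK he, hK, hk2, Nat.factorization_mul (by norm_num) hk0,
      Nat.Prime.factorization_pow Nat.prime_two, Finsupp.add_apply,
      Finsupp.single_eq_same, Nat.factorization_eq_zero_of_not_dvd hk]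
  have hcard : ∀ Q : Sylow 2 ↥(twistedG2 K e), Nat.card Q = 8 := fun Q => by
    rw [Sylow.card_eq_multiplicity, hfac]
    norm_num
  refine ⟨hcard P, ?_⟩
  have hm1 : (-1 : K) ≠ 0 := neg_ne_zero.mpr one_ne_zero
  let ψΓ : Matrix.SpecialLinearGroup (Fin 2) K →* ↥(twistedG2 K e) :=
    (psi φ).codRestrict (twistedG2 K e) (fun g => (psi_mem hφ g).1)
  have hψΓ : ∀ g, ((ψΓ g : ↥(twistedG2 K e)) : GL chevG2.Idx K) = psi φ g := fun g => rfl
  have hψker : ∀ g, g ∈ Subgroup.center (Matrix.SpecialLinearGroup (Fin 2) K) → ψΓ g = 1 :=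
    fun g hg => Subtype.ext (psi_center hg)
  let aΓ : ↥(twistedG2 K e) := ⟨eta φ (-1), eta_mem_Gam hφ h3 hK he hm1⟩
  have haΓ2 : aΓ * aΓ = 1 := Subtype.ext a0_sq
  have hb2 : ψΓ d1 * ψΓ d1 = 1 := by rw [← map_mul]; exact hψker _ d1_sq
  have hc2 : ψΓ d2 * ψΓ d2 = 1 := by rw [← map_mul]; exact hψker _ d2_sq
  have hbc : Commute (ψΓ d1) (ψΓ d2) := by
    show ψΓ d1 * ψΓ d2 = ψΓ d2 * ψΓ d1
    have h1 := hψker _ d12_comm
    rw [map_mul, map_inv, inv_mul_eq_one] at h1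
    rw [← map_mul, ← map_mul, h1]
  have haψ : ∀ g, Commute aΓ (ψΓ g) := fun g => Subtype.ext (psi_mem hφ g).2
  let fa := fZ aΓ haΓ2
  let fb := fZ (ψΓ d1) hb2
  let fc := fZ (ψΓ d2) hc2
  have hfb : ∀ y, ∃ g, fb y = ψΓ g := by
    intro y
    rcases fZ_cases (ψΓ d1) hb2 y with ⟨-, h⟩ | ⟨-, h⟩
    · exact ⟨1, by rw [map_one]; exact h⟩
    · exact ⟨d1, h⟩
  have hfc : ∀ z, ∃ g, fc z = ψΓ g := by
    intro z
    rcases fZ_cases (ψΓ d2) hc2 z with ⟨-, h⟩ | ⟨-, h⟩
    · exact ⟨1, by rw [map_one]; exact h⟩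
    · exact ⟨d2, h⟩
  let Fbc : Multiplicative (ZMod 2) × Multiplicative (ZMod 2) →* ↥(twistedG2 K e) :=
    MonoidHom.noncommCoprod fb fc (by
      intro y z
      rcases fZ_cases (ψΓ d1) hb2 y with ⟨-, h⟩ | ⟨-, h⟩ <;>
        rcases fZ_cases (ψΓ d2) hc2 z with ⟨-, h'⟩ | ⟨-, h'⟩
      · show Commute (fZ (ψΓ d1) hb2 y) (fZ (ψΓ d2) hc2 z)
        rw [h]
        exact Commute.one_left _
      · show Commute (fZ (ψΓ d1) hb2 y) (fZ (ψΓ d2) hc2 z)
        rw [h]
        exact Commute.one_left _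
      · show Commute (fZ (ψΓ d1) hb2 y) (fZ (ψΓ d2) hc2 z)
        rw [h']
        exact Commute.one_right _
      · show Commute (fZ (ψΓ d1) hb2 y) (fZ (ψΓ d2) hc2 z)
        rw [h, h']
        exact hbc)
  have hFbc : ∀ y z, Fbc (y, z) = fb y * fc z := fun y z => rfl
  let F : Multiplicative (ZMod 2) × (Multiplicative (ZMod 2) × Multiplicative (ZMod 2)) →*
      ↥(twistedG2 K e) :=
    MonoidHom.noncommCoprod fa Fbc (by
      rintro x ⟨y, z⟩
      obtain ⟨g1, hg1⟩ := hfb y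
      obtain ⟨g2, hg2⟩ := hfc z
      rw [hFbc, hg1, hg2, ← map_mul]
      rcases fZ_cases aΓ haΓ2 x with ⟨-, h⟩ | ⟨-, h⟩
      · show Commute (fZ aΓ haΓ2 x) _
        rw [h]
        exact Commute.one_left _
      · show Commute (fZ aΓ haΓ2 x) _
        rw [h]
        exact haψ _)
  have hF : ∀ x y z, F (x, (y, z)) = fa x * (fb y * fc z) := fun x y z => rfl
  have hfaB : ∀ x, ((fa x : ↥(twistedG2 K e)) : GL chevG2.Idx K) ∈ chevG2.borelSubgroup K := by
    intro x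
    rcases fZ_cases aΓ haΓ2 x with ⟨-, h⟩ | ⟨-, h⟩
    · show ((fZ aΓ haΓ2 x : ↥(twistedG2 K e)) : GL chevG2.Idx K) ∈ _
      rw [h]
      exact Subgroup.one_mem _
    · show ((fZ aΓ haΓ2 x : ↥(twistedG2 K e)) : GL chevG2.Idx K) ∈ _
      rw [h]
      exact H_le_B (eta_mem_H φ hm1)
  have key : ∀ x (g : Matrix.SpecialLinearGroup (Fin 2) K), g.1 1 0 ≠ 0 → fa x * ψΓ g ≠ 1 := by
    intro x g hg h
    apply psi_not_B φ g hg
    have h1 : psi φ g = ((fa x : ↥(twistedG2 K e)) : GL chevG2.Idx K)⁻¹ := by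
      have h2 := congrArg (fun c : ↥(twistedG2 K e) => (c : GL chevG2.Idx K)) h
      exact eq_inv_of_mul_eq_one_right h2
    rw [h1]
    exact Subgroup.inv_mem _ (hfaB x)
  have hinj : Function.Injective F := by
    rw [injective_iff_map_eq_one]
    rintro ⟨x, y, z⟩ hxyz
    rw [hF] at hxyz
    rcases fZ_cases (ψΓ d1) hb2 y with ⟨hy, h⟩ | ⟨hy, h⟩ <;>
      rcases fZ_cases (ψΓ d2) hc2 z with ⟨hz, h'⟩ | ⟨hz, h'⟩
    · have e1 : fb y * fc z = 1 := by
        show fZ (ψΓ d1) hb2 y * fZ (ψΓ d2) hc2 z = 1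
        rw [h, h', one_mul]
      rw [e1, mul_one] at hxyz
      rcases fZ_cases aΓ haΓ2 x with ⟨hx, h''⟩ | ⟨hx, h''⟩
      · rw [hx, hy, hz]
        rfl
      · exfalso
        have e2 : fa x = aΓ := h''
        rw [e2] at hxyz
        exact eta_neg_one_ne (φ := φ) (congrArg Subtype.val hxyz)
    · exfalso
      have e1 : fb y * fc z = ψΓ d2 := by
        show fZ (ψΓ d1) hb2 y * fZ (ψΓ d2) hc2 z = _
        rw [h, h', one_mul]
      rw [e1] at hxyz
      exact key x d2 d2_c hxyz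
    · exfalso
      have e1 : fb y * fc z = ψΓ d1 := by
        show fZ (ψΓ d1) hb2 y * fZ (ψΓ d2) hc2 z = _
        rw [h, h', mul_one]
      rw [e1] at hxyz
      exact key x d1 d1_c hxyz
    · exfalso
      have e1 : fb y * fc z = ψΓ (d1 * d2) := by
        show fZ (ψΓ d1) hb2 y * fZ (ψΓ d2) hc2 z = _
        rw [h, h', map_mul]
      rw [e1] at hxyz
      exact key x (d1 * d2) d12_c hxyz
  have hcardE : Nat.card ↥F.range = 8 := by
    rw [← Nat.card_congr (MonoidHom.ofInjective hinj).toEquiv, Nat.card_eq_fintype_card]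
    rfl
  have hexp : ∀ x ∈ F.range, x * x = 1 := by
    rintro _ ⟨v, rfl⟩
    have hv : ∀ v : Multiplicative (ZMod 2) × (Multiplicative (ZMod 2) × Multiplicative (ZMod 2)),
        v * v = 1 := by decide
    rw [← map_mul, hv, map_one]
  let Q : Sylow 2 ↥(twistedG2 K e) := Sylow.ofCard F.range (by rw [hcardE, hfac]; norm_num)
  have hQ : ∀ x, x ∈ (Q : Subgroup ↥(twistedG2 K e)) → x * x = 1 := by
    intro x hx
    have : (Q : Subgroup ↥(twistedG2 K e)) = F.range := Sylow.coe_ofCard _ _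
    rw [this] at hx
    exact hexp x hx
  obtain ⟨g, hg⟩ := MulAction.exists_smul_eq ↥(twistedG2 K e) Q P
  intro x hx
  have hx' : x ∈ ((g • Q : Sylow 2 ↥(twistedG2 K e)) : Subgroup ↥(twistedG2 K e)) := by
    rw [hg]
    exact hx
  rw [Ree18.mem_smul_iff] at hx'
  have h1 := hQ _ hx'
  calc x * x = g * ((g⁻¹ * x * g) * (g⁻¹ * x * g)) * g⁻¹ := by group
    _ = 1 := by rw [h1]; group

end Cfsg.Agent.Lib.Helper18.Ree24
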