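import Mathlib

set_option autoImplicit false
set_option linter.unusedSimpArgs false
set_option linter.unusedSectionVars false
set_option linter.unusedVariables false

/-!
# An abstract fusion argument

A finite perfect group whose Sylow 2-subgroups are elementary abelian of order 8, with an
involution `a` whose centraliser is `⟨a⟩ × L`, where `L` contains a self-centralising four-group
`⟨b, c⟩` and an element `t` of order 3 permuting `b, c, bc`: a Sylow 2-subgroup `S` satisfies
`C(S) = S` and `|N(S)| = 168`.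
-/

namespace Cfsg.Agent.Lib.Helper18.Ree25

/-- The transfer of an element all of whose powers have their conjugates in `H` mapped to the
corresponding powers of `z`. -/
theorem transfer_eq_pow_of {G A : Type*} [Group G] [CommGroup A] {H : Subgroup G} [H.FiniteIndex]
    (ϕ : H →* A) (g : G) (z : A)
    (key : ∀ (k : ℕ) (g₀ : G) (hk : g₀⁻¹ * g ^ k * g₀ ∈ H), ϕ ⟨g₀⁻¹ * g ^ k * g₀, hk⟩ = z ^ k) :
    MonoidHom.transfer ϕ g = z ^ H.index := by
  classical
  letI := H.fintypeQuotientOfFiniteIndex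
  rw [MonoidHom.transfer_eq_prod_quotient_orbitRel_zpowers_quot,
    Subgroup.index_eq_sum_minimalPeriod H g, ← Finset.prod_pow_eq_pow_sum]
  exact Finset.prod_congr rfl (fun q _ => key _ _ _)

/-- Orbit–stabiliser in the form: a map whose fibres are the cosets of a subgroup. -/
theorem card_fiber {H β : Type*} [Group H] [Finite H] (Kst : Subgroup H) (f : H → β)
    (hf : ∀ g g', f g = f g' ↔ g⁻¹ * g' ∈ Kst) :
    Nat.card H = (Set.range f).ncard * Nat.card Kst := by
  let F : H ⧸ Kst → Set.range f := Quotient.lift (fun g => (⟨f g, g, rfl⟩ : Set.range f))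
    (fun x y hxy => Subtype.ext ((hf x y).mpr (QuotientGroup.leftRel_apply.mp hxy)))
  have hF : Function.Bijective F := by
    constructor
    · intro q q'
      induction q using QuotientGroup.induction_on
      induction q' using QuotientGroup.induction_on
      intro h
      exact QuotientGroup.eq.mpr ((hf _ _).mp (congrArg Subtype.val h))
    · rintro ⟨_, g, rfl⟩
      exact ⟨QuotientGroup.mk g, rfl⟩
  rw [Subgroup.card_eq_card_quotient_mul_card_subgroup Kst,
    Nat.card_congr (Equiv.ofBijective F hF), Nat.card_coe_set_eq]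

/-- Three commuting involutions lie in a common Sylow 2-subgroup. -/
theorem exists_sylow {G : Type*} [Group G] [Finite G] {a b c : G}
    (ha : a * a = 1) (hb : b * b = 1) (hc : c * c = 1)
    (hab : a * b = b * a) (hac : a * c = c * a) (hbc : b * c = c * b) :
    ∃ P : Sylow 2 G, a ∈ P ∧ b ∈ P ∧ c ∈ P := by
  have hle : Subgroup.closure ({a, b, c} : Set G) ≤ Subgroup.centralizer ({a, b, c} : Set G) := by
    rw [Subgroup.closure_le]
    intro x hx
    rw [SetLike.mem_coe, Subgroup.mem_centralizer_iff]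
    intro y hy
    simp only [Set.mem_insert_iff, Set.mem_singleton_iff] at hx hy
    rcases hx with rfl | rfl | rfl <;> rcases hy with rfl | rfl | rfl <;>
      first | rfl | assumption | (symm; assumption)
  have hcomm : ∀ x ∈ Subgroup.closure ({a, b, c} : Set G),
      ∀ y ∈ Subgroup.closure ({a, b, c} : Set G), x * y = y * x := by
    intro x hx y hy
    have h1 := Subgroup.closure_le_centralizer_centralizer ({a, b, c} : Set G) hy
    rw [Subgroup.mem_centralizer_iff] at h1
    exact h1 x (hle hx)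
  have hsq : ∀ x ∈ Subgroup.closure ({a, b, c} : Set G), x * x = 1 := by
    intro x hx
    induction hx using Subgroup.closure_induction with
    | mem x hx =>
      simp only [Set.mem_insert_iff, Set.mem_singleton_iff] at hx
      rcases hx with rfl | rfl | rfl <;> assumption
    | one => exact one_mul 1
    | mul x y hx hy ihx ihy =>
      calc x * y * (x * y) = x * (y * x) * y := by group
        _ = x * (x * y) * y := by rw [hcomm y hy x hx]
        _ = (x * x) * (y * y) := by group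
        _ = 1 := by rw [ihx, ihy, one_mul]
    | inv x hx ihx =>
      calc x⁻¹ * x⁻¹ = (x * x)⁻¹ := by group
        _ = 1 := by rw [ihx, inv_one]
  have hp : IsPGroup 2 ↥(Subgroup.closure ({a, b, c} : Set G)) := by
    intro g
    refine ⟨1, Subtype.ext ?_⟩
    have := hsq g.1 g.2
    simp only [pow_one, Subgroup.coe_pow, Subgroup.coe_one]
    rw [pow_two]
    exact this
  obtain ⟨P, hP⟩ := hp.exists_le_sylow
  exact ⟨P, hP (Subgroup.subset_closure (by simp)), hP (Subgroup.subset_closure (by simp)),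
    hP (Subgroup.subset_closure (by simp))⟩

/-- The configuration. -/
structure Cfg (G : Type*) [Group G] where
  a : G
  b : G
  c : G
  t : G
  L : Subgroup G
  P : Sylow 2 G
  ha : a * a = 1
  hb : b * b = 1
  hc : c * c = 1
  hab : a * b = b * a
  hac : a * c = c * a
  hbc : b * c = c * b
  hb1 : b ≠ 1
  hbcne : b ≠ c
  hL : ∀ g, a * g = g * a → g ∈ L ∨ a * g ∈ L
  hLa : ∀ g ∈ L, a * g = g * a
  haL : a ∉ L
  hbL : b ∈ L
  hcL : c ∈ L
  hCE : ∀ g ∈ L, g * b = b * g → g * c = c * g → g = 1 ∨ g = b ∨ g = c ∨ g = b * c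
  htL : t ∈ L
  htb : t * b * t⁻¹ = c
  htc : t * c * t⁻¹ = b * c
  ht3 : t * t * t = 1
  haP : a ∈ P
  hbP : b ∈ P
  hcP : c ∈ P
  hP2 : ∀ x ∈ P, x * x = 1
  hP8 : Nat.card P = 8

namespace Cfg

variable {G : Type*} [Group G] (D : Cfg G)

theorem comm_P {x y : G} (hx : x ∈ D.P) (hy : y ∈ D.P) : x * y = y * x := by
  have h1 : x⁻¹ = x := inv_eq_of_mul_eq_one_left (D.hP2 x hx)
  have h2 : y⁻¹ = y := inv_eq_of_mul_eq_one_left (D.hP2 y hy)
  have h3 : (x * y)⁻¹ = x * y := inv_eq_of_mul_eq_one_left (D.hP2 _ (mul_mem hx hy))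
  calc x * y = (x * y)⁻¹ := h3.symm
    _ = y⁻¹ * x⁻¹ := mul_inv_rev x y
    _ = y * x := by rw [h1, h2]

/-- The four-group `{1, b, c, bc}`. -/
def V (g : G) : Prop := g = 1 ∨ g = D.b ∨ g = D.c ∨ g = D.b * D.c

theorem V_mem_L {g : G} (h : D.V g) : g ∈ D.L := by
  rcases h with rfl | rfl | rfl | rfl
  · exact one_mem _
  · exact D.hbL
  · exact D.hcL
  · exact mul_mem D.hbL D.hcL

theorem V_mem_P {g : G} (h : D.V g) : g ∈ D.P := by
  rcases h with rfl | rfl | rfl | rfl
  · exact one_mem _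
  · exact D.hbP
  · exact D.hcP
  · exact mul_mem D.hbP D.hcP

theorem a_ne_one : D.a ≠ 1 := fun h => D.haL (h ▸ one_mem _)

theorem c_ne_one : D.c ≠ 1 := by
  intro h
  apply D.hb1
  have h1 := D.htb
  rw [h] at h1
  calc D.b = D.t⁻¹ * (D.t * D.b * D.t⁻¹) * D.t := by group
    _ = 1 := by rw [h1]; group

theorem bc_ne_one : D.b * D.c ≠ 1 := by
  intro h
  apply D.hbcne
  calc D.b = D.b * (D.c * D.c) := by rw [D.hc, mul_one]
    _ = (D.b * D.c) * D.c := by group
    _ = D.c := by rw [h, one_mul]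

theorem aa_mul (g : G) : D.a * (D.a * g) = g := by
  rw [← mul_assoc, D.ha, one_mul]

theorem mem_P_cases {g : G} (hg : g ∈ D.P) : D.V g ∨ D.V (D.a * g) := by
  rcases D.hL g (D.comm_P D.haP hg) with h | h
  · exact Or.inl (D.hCE g h (D.comm_P hg D.hbP) (D.comm_P hg D.hcP))
  · have hag : D.a * g ∈ D.P := mul_mem D.haP hg
    exact Or.inr (D.hCE _ h (D.comm_P hag D.hbP) (D.comm_P hag D.hcP))

theorem mem_P_L {g : G} (hg : g ∈ D.P) (hgL : g ∈ D.L) : D.V g := by
  rcases D.mem_P_cases hg with h | h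
  · exact h
  · exfalso
    apply D.haL
    have h1 : D.a * g * g⁻¹ ∈ D.L := mul_mem (D.V_mem_L h) (inv_mem hgL)
    rwa [mul_inv_cancel_right] at h1

theorem cent_abc {g : G} (h1 : D.a * g = g * D.a) (h2 : g * D.b = D.b * g)
    (h3 : g * D.c = D.c * g) : g ∈ D.P := by
  rcases D.hL g h1 with h | h
  · exact D.V_mem_P (D.hCE g h h2 h3)
  · have e2 : D.a * g * D.b = D.b * (D.a * g) := by
      calc D.a * g * D.b = D.a * (g * D.b) := by group
        _ = D.a * (D.b * g) := by rw [h2]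
        _ = (D.a * D.b) * g := by group
        _ = (D.b * D.a) * g := by rw [D.hab]
        _ = D.b * (D.a * g) := by group
    have e3 : D.a * g * D.c = D.c * (D.a * g) := by
      calc D.a * g * D.c = D.a * (g * D.c) := by group
        _ = D.a * (D.c * g) := by rw [h3]
        _ = (D.a * D.c) * g := by group
        _ = (D.c * D.a) * g := by rw [D.hac]
        _ = D.c * (D.a * g) := by group
    have h4 := D.V_mem_P (D.hCE _ h e2 e3)
    have h5 : D.a * (D.a * g) ∈ D.P := mul_mem D.haP h4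
    rwa [D.aa_mul] at h5

theorem centralizer_eq : Subgroup.centralizer ((D.P : Subgroup G) : Set G) = D.P := by
  ext g
  rw [Subgroup.mem_centralizer_iff]
  constructor
  · intro h
    exact D.cent_abc (h _ D.haP) (h _ D.hbP).symm (h _ D.hcP).symm
  · intro hg x hx
    exact D.comm_P hx hg

section Fin

variable [Finite G]

/-- The homomorphism `P → Z₂` with kernel `P ∩ L`. -/
noncomputable def phi : ↥(D.P : Subgroup G) →* Multiplicative (ZMod 2) := by
  classical
  exact
  { toFun := fun p => if (p : G) ∈ D.L then 1 else Multiplicative.ofAdd 1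
    map_one' := if_pos (one_mem _)
    map_mul' := by
      intro p q
      have hz : (Multiplicative.ofAdd (1 : ZMod 2)) * Multiplicative.ofAdd 1 = 1 := by decide
      by_cases hp : (p : G) ∈ D.L <;> by_cases hq : (q : G) ∈ D.L
      · rw [if_pos hp, if_pos hq, if_pos (by rw [Subgroup.coe_mul]; exact mul_mem hp hq), one_mul]
      · rw [if_pos hp, if_neg hq, if_neg, one_mul]
        intro h
        rw [Subgroup.coe_mul] at h
        apply hq
        have := mul_mem (inv_mem hp) h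
        rwa [inv_mul_cancel_left] at this
      · rw [if_neg hp, if_pos hq, if_neg, mul_one]
        intro h
        rw [Subgroup.coe_mul] at h
        apply hp
        have := mul_mem h (inv_mem hq)
        rwa [mul_inv_cancel_right] at this
      · rw [if_neg hp, if_neg hq, if_pos, hz]
        rw [Subgroup.coe_mul]
        have h1 : D.a * (p : G) ∈ D.L :=
          (D.hL _ (D.comm_P D.haP p.2)).resolve_left hp
        have h2 : D.a * (q : G) ∈ D.L :=
          (D.hL _ (D.comm_P D.haP q.2)).resolve_left hq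
        have h3 := mul_mem h1 h2
        have e : D.a * (p : G) * (D.a * (q : G)) = (p : G) * (q : G) := by
          calc D.a * (p : G) * (D.a * (q : G)) = D.a * ((p : G) * D.a) * (q : G) := by group
            _ = D.a * (D.a * (p : G)) * (q : G) := by rw [D.comm_P p.2 D.haP]
            _ = (p : G) * (q : G) := by rw [D.aa_mul]
        rwa [e] at h3 }

theorem phi_of_mem {y : G} (hy : y ∈ D.P) (h : y ∈ D.L) : D.phi ⟨y, hy⟩ = 1 := by
  classical
  exact if_pos h

theorem phi_of_not_mem {y : G} (hy : y ∈ D.P) (h : y ∉ D.L) :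
    D.phi ⟨y, hy⟩ = Multiplicative.ofAdd 1 := by
  classical
  exact if_neg h

/-- Every involution is conjugate to an element of `P ∩ L` (transfer). -/
theorem fusion1 (hperf : commutator G = ⊤) {x : G} (hx : x * x = 1) :
    ∃ g₀ : G, g₀⁻¹ * x * g₀ ∈ D.P ∧ g₀⁻¹ * x * g₀ ∈ D.L := by
  by_contra hne
  push_neg at hne
  have hx2 : x ^ 2 = 1 := by rw [pow_two]; exact hx
  have hz2 : (Multiplicative.ofAdd (1 : ZMod 2)) ^ 2 = 1 := by decide
  have hz1 : (Multiplicative.ofAdd (1 : ZMod 2)) ≠ 1 := by decide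
  have key : ∀ (k : ℕ) (g₀ : G) (hk : g₀⁻¹ * x ^ k * g₀ ∈ (D.P : Subgroup G)),
      D.phi ⟨g₀⁻¹ * x ^ k * g₀, hk⟩ = (Multiplicative.ofAdd (1 : ZMod 2)) ^ k := by
    intro k g₀ hk
    rcases Nat.even_or_odd' k with ⟨j, rfl | rfl⟩
    · have hxk : x ^ (2 * j) = 1 := by rw [pow_mul, hx2, one_pow]
      have e : (⟨g₀⁻¹ * x ^ (2 * j) * g₀, hk⟩ : ↥(D.P : Subgroup G)) = 1 := by
        apply Subtype.ext
        show g₀⁻¹ * x ^ (2 * j) * g₀ = 1
        rw [hxk]
        group
      rw [e, map_one, pow_mul, hz2, one_pow]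
    · have hxk : x ^ (2 * j + 1) = x := by rw [pow_succ, pow_mul, hx2, one_pow, one_mul]
      have hk' : g₀⁻¹ * x * g₀ ∈ (D.P : Subgroup G) := by
        have := hk
        rwa [hxk] at this
      have e : (⟨g₀⁻¹ * x ^ (2 * j + 1) * g₀, hk⟩ : ↥(D.P : Subgroup G)) =
          ⟨g₀⁻¹ * x * g₀, hk'⟩ := by
        apply Subtype.ext
        show g₀⁻¹ * x ^ (2 * j + 1) * g₀ = g₀⁻¹ * x * g₀
        rw [hxk]
      rw [e, D.phi_of_not_mem hk' (hne g₀ hk'), pow_succ, pow_mul, hz2, one_pow, one_mul]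
  have h1 := transfer_eq_pow_of D.phi x _ key
  have h2 : MonoidHom.transfer D.phi x = 1 := by
    have h := Abelianization.commutator_subset_ker (MonoidHom.transfer D.phi)
    rw [hperf] at h
    exact MonoidHom.mem_ker.mp (h (Subgroup.mem_top x))
  have hodd : ¬ 2 ∣ (D.P : Subgroup G).index := D.P.not_dvd_index
  obtain ⟨j, hj⟩ : ∃ j, (D.P : Subgroup G).index = 2 * j + 1 := ⟨(D.P : Subgroup G).index / 2, by omega⟩
  rw [h2, hj, pow_succ, pow_mul, hz2, one_pow, one_mul] at h1
  exact hz1 h1.symm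

/-- Every involution is conjugate to one of `b`, `c`, `bc`. -/
theorem fusion2 (hperf : commutator G = ⊤) {x : G} (hx : x * x = 1) (hx1 : x ≠ 1) :
    ∃ g₀ : G, g₀⁻¹ * x * g₀ = D.b ∨ g₀⁻¹ * x * g₀ = D.c ∨ g₀⁻¹ * x * g₀ = D.b * D.c := by
  obtain ⟨g₀, h1, h2⟩ := D.fusion1 hperf hx
  refine ⟨g₀, ?_⟩
  rcases D.mem_P_L h1 h2 with h | h | h | h
  · exfalso
    apply hx1
    calc x = g₀ * (g₀⁻¹ * x * g₀) * g₀⁻¹ := by group
      _ = 1 := by rw [h]; group
  · exact Or.inl h
  · exact Or.inr (Or.inl h)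
  · exact Or.inr (Or.inr h)

theorem t_comm_a : D.t * D.a = D.a * D.t := (D.hLa _ D.htL).symm

theorem t_a : D.t * D.a * D.t⁻¹ = D.a := by
  rw [D.t_comm_a, mul_inv_cancel_right]

theorem t_bc : D.t * (D.b * D.c) * D.t⁻¹ = D.b := by
  calc D.t * (D.b * D.c) * D.t⁻¹ = (D.t * D.b * D.t⁻¹) * (D.t * D.c * D.t⁻¹) := by group
    _ = D.c * (D.b * D.c) := by rw [D.htb, D.htc]
    _ = D.c * (D.c * D.b) := by rw [D.hbc]
    _ = (D.c * D.c) * D.b := by group
    _ = D.b := by rw [D.hc, one_mul]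

theorem t_ne_one : D.t ≠ 1 := by
  intro h
  apply D.hbcne
  have h1 := D.htb
  rw [h] at h1
  simpa using h1

theorem t_conj_V {v : G} (h : D.V v) : D.V (D.t * v * D.t⁻¹) := by
  rcases h with rfl | rfl | rfl | rfl
  · left
    group
  · right; right; left
    exact D.htb
  · right; right; right
    exact D.htc
  · right; left
    exact D.t_bc

theorem t_conj_a_mul (v : G) : D.t * (D.a * v) * D.t⁻¹ = D.a * (D.t * v * D.t⁻¹) := by
  calc D.t * (D.a * v) * D.t⁻¹ = (D.t * D.a) * v * D.t⁻¹ := by group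
    _ = (D.a * D.t) * v * D.t⁻¹ := by rw [D.t_comm_a]
    _ = D.a * (D.t * v * D.t⁻¹) := by group

theorem t_conj_P {h : G} (hh : h ∈ D.P) : D.t * h * D.t⁻¹ ∈ D.P := by
  rcases D.mem_P_cases hh with hv | hv
  · exact D.V_mem_P (D.t_conj_V hv)
  · have h1 := D.V_mem_P (D.t_conj_V hv)
    rw [D.t_conj_a_mul] at h1
    have h2 := mul_mem D.haP h1
    rwa [D.aa_mul] at h2

theorem t_mem_normalizer : D.t ∈ Subgroup.normalizer ((D.P : Subgroup G) : Set G) := by
  rw [Subgroup.mem_normalizer_iff]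
  intro h
  refine ⟨fun hh => D.t_conj_P hh, fun hh => ?_⟩
  have h1 := D.t_conj_P (D.t_conj_P hh)
  have e : D.t * (D.t * (D.t * h * D.t⁻¹) * D.t⁻¹) * D.t⁻¹ =
      (D.t * D.t * D.t) * h * (D.t * D.t * D.t)⁻¹ := by group
  rw [e, D.ht3, one_mul, inv_one, mul_one] at h1
  exact h1

/-- `y` is conjugate to `a`. -/
def R (y : G) : Prop := ∃ g : G, g⁻¹ * D.a * g = y

theorem R_conj {y : G} (h : D.R y) (x : G) : D.R (x * y * x⁻¹) := by
  obtain ⟨g, rfl⟩ := h
  exact ⟨g * x⁻¹, by group⟩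

theorem R_a : D.R D.a := ⟨1, by group⟩

theorem R_bcs (hperf : commutator G = ⊤) : D.R D.b ∧ D.R D.c ∧ D.R (D.b * D.c) := by
  have key : ∀ y, D.R y → D.R (D.t * y * D.t⁻¹) := fun y hy => D.R_conj hy D.t
  obtain ⟨g₀, h | h | h⟩ := D.fusion2 hperf D.ha D.a_ne_one
  · have hb : D.R D.b := ⟨g₀, h⟩
    have hc : D.R D.c := by
      have := key _ hb
      rwa [D.htb] at this
    have hbc : D.R (D.b * D.c) := by
      have := key _ hc
      rwa [D.htc] at this
    exact ⟨hb, hc, hbc⟩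
  · have hc : D.R D.c := ⟨g₀, h⟩
    have hbc : D.R (D.b * D.c) := by
      have := key _ hc
      rwa [D.htc] at this
    have hb : D.R D.b := by
      have := key _ hbc
      rwa [D.t_bc] at this
    exact ⟨hb, hc, hbc⟩
  · have hbc : D.R (D.b * D.c) := ⟨g₀, h⟩
    have hb : D.R D.b := by
      have := key _ hbc
      rwa [D.t_bc] at this
    have hc : D.R D.c := by
      have := key _ hb
      rwa [D.htb] at this
    exact ⟨hb, hc, hbc⟩

theorem R_as (hperf : commutator G = ⊤) :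
    D.R (D.a * D.b) ∧ D.R (D.a * D.c) ∧ D.R (D.a * (D.b * D.c)) := by
  obtain ⟨hb, hc, hbc⟩ := D.R_bcs hperf
  have hsq : D.a * D.b * (D.a * D.b) = 1 := by
    calc D.a * D.b * (D.a * D.b) = D.a * (D.b * D.a) * D.b := by group
      _ = D.a * (D.a * D.b) * D.b := by rw [D.hab]
      _ = D.b * D.b := by rw [D.aa_mul]
      _ = 1 := D.hb
  have hne : D.a * D.b ≠ 1 := by
    intro h
    apply D.haL
    have e : D.a = D.b := by
      calc D.a = D.a * (D.b * D.b) := by rw [D.hb, mul_one]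
        _ = (D.a * D.b) * D.b := by group
        _ = D.b := by rw [h, one_mul]
    rw [e]
    exact D.hbL
  have hab : D.R (D.a * D.b) := by
    obtain ⟨g₀, h⟩ := D.fusion2 hperf hsq hne
    have e : D.a * D.b = g₀ * (g₀⁻¹ * (D.a * D.b) * g₀) * g₀⁻¹ := by group
    rw [e]
    rcases h with h | h | h <;> rw [h]
    · exact D.R_conj hb g₀
    · exact D.R_conj hc g₀
    · exact D.R_conj hbc g₀
  have hac : D.R (D.a * D.c) := by
    have := D.R_conj hab D.t
    rwa [D.t_conj_a_mul, D.htb] at this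
  have habc : D.R (D.a * (D.b * D.c)) := by
    have := D.R_conj hac D.t
    rwa [D.t_conj_a_mul, D.htc] at this
  exact ⟨hab, hac, habc⟩

theorem R_of_mem (hperf : commutator G = ⊤) {y : G} (hy : y ∈ D.P) (hy1 : y ≠ 1) : D.R y := by
  obtain ⟨hb, hc, hbc⟩ := D.R_bcs hperf
  obtain ⟨hab, hac, habc⟩ := D.R_as hperf
  rcases D.mem_P_cases hy with h | h
  · rcases h with h | h | h | h
    · exact absurd h hy1
    · rw [h]; exact hb
    · rw [h]; exact hc
    · rw [h]; exact hbc
  · have e : y = D.a * (D.a * y) := (D.aa_mul y).symm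
    rcases h with h | h | h | h
    · rw [e, h, mul_one]; exact D.R_a
    · rw [e, h]; exact hab
    · rw [e, h]; exact hac
    · rw [e, h]; exact habc

/-- Control of fusion in the normaliser of the (abelian) Sylow subgroup. -/
theorem exists_norm (hperf : commutator G = ⊤) {y : G} (hy : y ∈ D.P) (hy1 : y ≠ 1) :
    ∃ n ∈ Subgroup.normalizer ((D.P : Subgroup G) : Set G), n * D.a * n⁻¹ = y := by
  obtain ⟨g, rfl⟩ := D.R_of_mem hperf hy hy1
  have h1 : D.a ∈ Subgroup.centralizer ((D.P : Subgroup G) : Set G) := by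
    rw [D.centralizer_eq]; exact D.haP
  have h2 : g⁻¹ * D.a * g ∈ Subgroup.centralizer ((D.P : Subgroup G) : Set G) := by
    rw [D.centralizer_eq]; exact hy
  obtain ⟨n, hn, h⟩ := Sylow.conj_eq_normalizer_conj_of_mem_centralizer D.P D.a g h1 h2
  refine ⟨n⁻¹, inv_mem hn, ?_⟩
  rw [h, inv_inv]

/-- `M = N(P) ∩ C(a)`. -/
def M : Subgroup G :=
  Subgroup.normalizer ((D.P : Subgroup G) : Set G) ⊓ Subgroup.centralizer {D.a}

theorem mem_M_iff {g : G} : g ∈ D.M ↔
    g ∈ Subgroup.normalizer ((D.P : Subgroup G) : Set G) ∧ D.a * g = g * D.a := by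
  unfold M
  rw [Subgroup.mem_inf, Subgroup.mem_centralizer_iff]
  constructor
  · rintro ⟨h1, h2⟩
    exact ⟨h1, h2 _ rfl⟩
  · rintro ⟨h1, h2⟩
    refine ⟨h1, ?_⟩
    intro h hh
    rw [Set.mem_singleton_iff.mp hh]
    exact h2

theorem P_le_M : (D.P : Subgroup G) ≤ D.M := by
  intro x hx
  exact D.mem_M_iff.mpr ⟨Subgroup.le_normalizer hx, D.comm_P D.haP hx⟩

theorem t_mem_M : D.t ∈ D.M := D.mem_M_iff.mpr ⟨D.t_mem_normalizer, D.t_comm_a.symm⟩

theorem M_conj_V {g : G} (hg : g ∈ D.M) {v : G} (hv : D.V v) : D.V (g * v * g⁻¹) := by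
  obtain ⟨hgN, hga⟩ := D.mem_M_iff.mp hg
  have hP : g * v * g⁻¹ ∈ D.P := (Subgroup.mem_normalizer_iff.mp hgN v).mp (D.V_mem_P hv)
  apply D.mem_P_L hP
  rcases D.hL g hga with h | h
  · exact mul_mem (mul_mem h (D.V_mem_L hv)) (inv_mem h)
  · have h1 := mul_mem (mul_mem h (D.V_mem_L hv)) (inv_mem h)
    have e : D.a * g * v * (D.a * g)⁻¹ = g * v * g⁻¹ := by
      calc D.a * g * v * (D.a * g)⁻¹ = D.a * (g * v * g⁻¹) * D.a⁻¹ := by group
        _ = (g * v * g⁻¹) * D.a * D.a⁻¹ := by rw [D.comm_P D.haP hP]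
        _ = g * v * g⁻¹ := by group
    rwa [e] at h1

theorem conj_ne_one {g v : G} (hv : v ≠ 1) : g * v * g⁻¹ ≠ 1 := by
  intro h
  apply hv
  calc v = g⁻¹ * (g * v * g⁻¹) * g := by group
    _ = 1 := by rw [h]; group

theorem card_M {k : ℕ} (hk : ¬ 2 ∣ k) (hG : Nat.card G = 8 * k) : Nat.card D.M = 24 := by
  classical
  let f : ↥D.M → G × G := fun g => ((g : G) * D.b * (g : G)⁻¹, (g : G) * D.c * (g : G)⁻¹)
  have hf : ∀ g g' : ↥D.M, f g = f g' ↔ g⁻¹ * g' ∈ (D.P : Subgroup G).subgroupOf D.M := by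
    intro g g'
    rw [Subgroup.mem_subgroupOf]
    show _ ↔ (g : G)⁻¹ * (g' : G) ∈ (D.P : Subgroup G)
    constructor
    · intro h
      have hb : (g : G) * D.b * (g : G)⁻¹ = (g' : G) * D.b * (g' : G)⁻¹ := congrArg Prod.fst h
      have hc : (g : G) * D.c * (g : G)⁻¹ = (g' : G) * D.c * (g' : G)⁻¹ := congrArg Prod.snd h
      apply D.cent_abc
      · have h1 : Commute D.a (g : G) := (D.mem_M_iff.mp g.2).2
        have h2 : Commute D.a (g' : G) := (D.mem_M_iff.mp g'.2).2
        exact (h1.inv_right.mul_right h2).eq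
      · calc (g : G)⁻¹ * (g' : G) * D.b = (g : G)⁻¹ * ((g' : G) * D.b * (g' : G)⁻¹) * (g' : G) := by
              group
          _ = (g : G)⁻¹ * ((g : G) * D.b * (g : G)⁻¹) * (g' : G) := by rw [hb]
          _ = D.b * ((g : G)⁻¹ * (g' : G)) := by group
      · calc (g : G)⁻¹ * (g' : G) * D.c = (g : G)⁻¹ * ((g' : G) * D.c * (g' : G)⁻¹) * (g' : G) := by
              group
          _ = (g : G)⁻¹ * ((g : G) * D.c * (g : G)⁻¹) * (g' : G) := by rw [hc]
          _ = D.c * ((g : G)⁻¹ * (g' : G)) := by group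
    · intro h
      have e1 : ∀ v, v ∈ D.P → (g' : G) * v * (g' : G)⁻¹ = (g : G) * v * (g : G)⁻¹ := by
        intro v hv
        calc (g' : G) * v * (g' : G)⁻¹ = (g : G) * (((g : G)⁻¹ * (g' : G)) * v) * (g' : G)⁻¹ := by
              group
          _ = (g : G) * (v * ((g : G)⁻¹ * (g' : G))) * (g' : G)⁻¹ := by rw [D.comm_P h hv]
          _ = (g : G) * v * (g : G)⁻¹ := by group
      exact Prod.ext (e1 _ D.hbP).symm (e1 _ D.hcP).symm
  have h1 := card_fiber _ f hf
  have h8 : Nat.card ((D.P : Subgroup G).subgroupOf D.M) = 8 := by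
    rw [Nat.card_congr (Subgroup.subgroupOfEquivOfLe D.P_le_M).toEquiv]
    exact D.hP8
  let T : Finset (G × G) := {(D.b, D.c), (D.b, D.b * D.c), (D.c, D.b), (D.c, D.b * D.c),
    (D.b * D.c, D.b), (D.b * D.c, D.c)}
  have hT : (T : Set (G × G)).ncard ≤ 6 := by
    rw [Set.ncard_coe_finset]
    exact Finset.card_le_six
  have hsub : Set.range f ⊆ (T : Set (G × G)) := by
    rintro _ ⟨g, rfl⟩
    have hvb : D.V ((g : G) * D.b * (g : G)⁻¹) := D.M_conj_V g.2 (Or.inr (Or.inl rfl))
    have hvc : D.V ((g : G) * D.c * (g : G)⁻¹) := D.M_conj_V g.2 (Or.inr (Or.inr (Or.inl rfl)))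
    have hb1 : (g : G) * D.b * (g : G)⁻¹ ≠ 1 := conj_ne_one D.hb1
    have hc1 : (g : G) * D.c * (g : G)⁻¹ ≠ 1 := conj_ne_one D.c_ne_one
    have hne : (g : G) * D.b * (g : G)⁻¹ ≠ (g : G) * D.c * (g : G)⁻¹ := by
      intro h
      apply D.hbcne
      calc D.b = (g : G)⁻¹ * ((g : G) * D.b * (g : G)⁻¹) * (g : G) := by group
        _ = (g : G)⁻¹ * ((g : G) * D.c * (g : G)⁻¹) * (g : G) := by rw [h]
        _ = D.c := by group
    simp only [T, Finset.coe_insert, Finset.coe_singleton, Set.mem_insert_iff,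
      Set.mem_singleton_iff, Prod.mk.injEq, f]
    rcases hvb with h | h | h | h <;> rcases hvc with h' | h' | h' | h'
    all_goals first
      | exact absurd h hb1
      | exact absurd h' hc1
      | exact absurd (h.trans h'.symm) hne
      | (rw [h, h']; simp)
  have hr : (Set.range f).ncard ≤ 6 := (Set.ncard_le_ncard hsub (Finset.finite_toSet T)).trans hT
  have h3 : 3 ∣ Nat.card D.M := by
    have ho : orderOf D.t = 3 := orderOf_eq_prime (by rw [pow_three']; exact D.ht3) D.t_ne_one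
    have := orderOf_dvd_natCard (⟨D.t, D.t_mem_M⟩ : ↥D.M)
    rwa [Subgroup.orderOf_mk, ho] at this
  have hdvd : Nat.card D.M ∣ 8 * k := by
    rw [← hG]
    exact Subgroup.card_subgroup_dvd_card D.M
  rw [h1, h8] at h3 hdvd ⊢
  have h2 : ¬ 2 ∣ (Set.range f).ncard := by
    intro h
    apply hk
    have : (Set.range f).ncard ∣ k := by
      rw [mul_comm 8 k] at hdvd
      exact Nat.dvd_of_mul_dvd_mul_right (by norm_num) hdvd
    exact dvd_trans h this
  omega

theorem card_N (hperf : commutator G = ⊤) {k : ℕ} (hk : ¬ 2 ∣ k) (hG : Nat.card G = 8 * k) :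
    Nat.card (Subgroup.normalizer ((D.P : Subgroup G) : Set G)) = 168 := by
  let f : ↥(Subgroup.normalizer ((D.P : Subgroup G) : Set G)) → G :=
    fun n => (n : G) * D.a * (n : G)⁻¹
  have hf : ∀ n n' : ↥(Subgroup.normalizer ((D.P : Subgroup G) : Set G)),
      f n = f n' ↔ n⁻¹ * n' ∈ D.M.subgroupOf (Subgroup.normalizer ((D.P : Subgroup G) : Set G)) := by
    intro n n'
    rw [Subgroup.mem_subgroupOf, D.mem_M_iff]
    show (n : G) * D.a * (n : G)⁻¹ = (n' : G) * D.a * (n' : G)⁻¹ ↔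
      (n : G)⁻¹ * (n' : G) ∈ Subgroup.normalizer ((D.P : Subgroup G) : Set G) ∧
        D.a * ((n : G)⁻¹ * (n' : G)) = (n : G)⁻¹ * (n' : G) * D.a
    constructor
    · intro h
      refine ⟨mul_mem (inv_mem n.2) n'.2, ?_⟩
      calc D.a * ((n : G)⁻¹ * (n' : G)) = (n : G)⁻¹ * ((n : G) * D.a * (n : G)⁻¹) * (n' : G) := by
            group
        _ = (n : G)⁻¹ * ((n' : G) * D.a * (n' : G)⁻¹) * (n' : G) := by rw [h]
        _ = (n : G)⁻¹ * (n' : G) * D.a := by group
    · rintro ⟨-, h⟩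
      calc (n : G) * D.a * (n : G)⁻¹ = (n : G) * (D.a * ((n : G)⁻¹ * (n' : G))) * (n' : G)⁻¹ := by
            group
        _ = (n : G) * ((n : G)⁻¹ * (n' : G) * D.a) * (n' : G)⁻¹ := by rw [h]
        _ = (n' : G) * D.a * (n' : G)⁻¹ := by group
  have h1 := card_fiber _ f hf
  have hM : Nat.card (D.M.subgroupOf (Subgroup.normalizer ((D.P : Subgroup G) : Set G))) = 24 := by
    have hle : D.M ≤ Subgroup.normalizer ((D.P : Subgroup G) : Set G) :=
      fun x hx => (D.mem_M_iff.mp hx).1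
    exact (Nat.card_congr (Subgroup.subgroupOfEquivOfLe hle).toEquiv).trans (D.card_M hk hG)
  have hr : Set.range f = ((D.P : Subgroup G) : Set G) \ {1} := by
    ext y
    constructor
    · rintro ⟨n, rfl⟩
      refine ⟨(Subgroup.mem_normalizer_iff.mp n.2 D.a).mp D.haP, ?_⟩
      intro h
      exact conj_ne_one D.a_ne_one (Set.mem_singleton_iff.mp h)
    · rintro ⟨hy, hy1⟩
      obtain ⟨n, hn, h⟩ := D.exists_norm hperf hy (fun h => hy1 (Set.mem_singleton_iff.mpr h))
      exact ⟨⟨n, hn⟩, h⟩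
  have h7 : (Set.range f).ncard = 7 := by
    rw [hr, Set.ncard_diff_singleton_of_mem (one_mem _), ← Nat.card_coe_set_eq]
    have h8 : Nat.card ↥((D.P : Subgroup G) : Set G) = 8 := D.hP8
    rw [h8]
  rw [h1, h7, hM]

include D in
/-- The main statement. -/
theorem main (hperf : commutator G = ⊤) {k : ℕ} (hk : ¬ 2 ∣ k) (hG : Nat.card G = 8 * k)
    (S : Sylow 2 G) :
    Subgroup.centralizer ((S : Subgroup G) : Set G) = S ∧
      Nat.card (Subgroup.normalizer ((S : Subgroup G) : Set G)) = 168 := by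
  obtain ⟨g, rfl⟩ := MulAction.exists_smul_eq G D.P S
  have hmem : ∀ x, x ∈ ((g • D.P : Sylow 2 G) : Subgroup G) ↔
      g⁻¹ * x * g ∈ (D.P : Subgroup G) := fun x => by
    rw [Sylow.coe_subgroup_smul, Subgroup.mem_pointwise_smul_iff_inv_smul_mem, MulAut.smul_def,
      MulAut.conj_inv_apply]
  constructor
  · ext x
    rw [Subgroup.mem_centralizer_iff, hmem]
    constructor
    · intro h
      rw [← D.centralizer_eq, Subgroup.mem_centralizer_iff]
      intro y hy
      have h1 : g * y * g⁻¹ ∈ ((g • D.P : Sylow 2 G) : Subgroup G) := by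
        rw [hmem]
        have e : g⁻¹ * (g * y * g⁻¹) * g = y := by group
        rw [e]
        exact hy
      have h2 := h _ h1
      calc y * (g⁻¹ * x * g) = g⁻¹ * (g * y * g⁻¹ * x) * g := by group
        _ = g⁻¹ * (x * (g * y * g⁻¹)) * g := by rw [h2]
        _ = g⁻¹ * x * g * y := by group
    · intro hx y hy
      rw [SetLike.mem_coe, hmem] at hy
      have h1 := D.comm_P hy hx
      calc y * x = g * ((g⁻¹ * y * g) * (g⁻¹ * x * g)) * g⁻¹ := by group
        _ = g * ((g⁻¹ * x * g) * (g⁻¹ * y * g)) * g⁻¹ := by rw [h1]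
        _ = x * y := by group
  · rw [← D.card_N hperf hk hG]
    symm
    apply Nat.card_congr
    refine Equiv.subtypeEquiv (MulAut.conj g).toEquiv (fun n => ?_)
    show n ∈ Subgroup.normalizer ((D.P : Subgroup G) : Set G) ↔
      g * n * g⁻¹ ∈ Subgroup.normalizer (((g • D.P : Sylow 2 G) : Subgroup G) : Set G)
    rw [Subgroup.mem_normalizer_iff, Subgroup.mem_normalizer_iff]
    constructor
    · intro H h
      rw [hmem, hmem, H (g⁻¹ * h * g)]
      have e : g⁻¹ * (g * n * g⁻¹ * h * (g * n * g⁻¹)⁻¹) * g = n * (g⁻¹ * h * g) * n⁻¹ := by group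
      rw [e]
    · intro H h
      have := H (g * h * g⁻¹)
      rw [hmem, hmem] at this
      have e1 : g⁻¹ * (g * h * g⁻¹) * g = h := by group
      have e2 : g⁻¹ * (g * n * g⁻¹ * (g * h * g⁻¹) * (g * n * g⁻¹)⁻¹) * g = n * h * n⁻¹ := by group
      rw [e1, e2] at this
      exact this

end Fin

end Cfg

end Cfsg.Agent.Lib.Helper18.Ree25
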