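import Mathlib
import Cfsg.Agent.Lib.Helper18.Ree24
import Cfsg.Agent.Lib.Helper18.Ree25
import Cfsg.Agent.S1116

set_option autoImplicit false
set_option linter.unusedSimpArgs false
set_option linter.unusedSectionVars false
set_option linter.unusedVariables false

/-!
# The small Ree groups: a Sylow 2-subgroup `S` has `C(S) = S` and `|N(S)| = 168`
-/

namespace Cfsg.Agent.Lib.Helper18.Ree26

open Cfsg Cfsg.Lie Cfsg.Agent.Lib.Helper18 Cfsg.Agent.Lib.Helper18.Ree1
  Cfsg.Agent.Lib.Helper18.Ree2 Cfsg.Agent.Lib.Helper18.Ree3 Cfsg.Agent.Lib.Helper18.Ree4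
  Cfsg.Agent.Lib.Helper18.Ree5 Cfsg.Agent.Lib.Helper18.Ree6 Cfsg.Agent.Lib.Helper18.Ree7
  Cfsg.Agent.Lib.Helper18.Ree10 Cfsg.Agent.Lib.Helper18.Ree11 Cfsg.Agent.Lib.Helper18.Ree12
  Cfsg.Agent.Lib.Helper18.Ree13 Cfsg.Agent.Lib.Helper18.Ree14 Cfsg.Agent.Lib.Helper18.Ree17
  Cfsg.Agent.Lib.Helper18.Ree22 Cfsg.Agent.Lib.Helper18.Ree23 Cfsg.Agent.Lib.Helper18.Ree24
  Cfsg.Agent.Lib.Helper19.SL2Hom

variable {K : Type*} [Field K]

/-! ### Computations in `SL₂(K)` -/

theorem mul_entry (g g' : Matrix.SpecialLinearGroup (Fin 2) K) (i j : Fin 2) :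
    (g * g').1 i j = g.1 i 0 * g'.1 0 j + g.1 i 1 * g'.1 1 j := by
  have e : (g * g').1 = g.1 * g'.1 := rfl
  rw [e, Matrix.mul_apply, Fin.sum_univ_two]

theorem one_00 : (1 : Matrix.SpecialLinearGroup (Fin 2) K).1 0 0 = 1 := by simp
theorem one_01 : (1 : Matrix.SpecialLinearGroup (Fin 2) K).1 0 1 = 0 := by simp
theorem one_10 : (1 : Matrix.SpecialLinearGroup (Fin 2) K).1 1 0 = 0 := by simp
theorem one_11 : (1 : Matrix.SpecialLinearGroup (Fin 2) K).1 1 1 = 1 := by simp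

theorem up_00 (u : K) : (upper u).1 0 0 = 1 := rfl
theorem up_01 (u : K) : (upper u).1 0 1 = u := rfl
theorem up_10 (u : K) : (upper u).1 1 0 = 0 := rfl
theorem up_11 (u : K) : (upper u).1 1 1 = 1 := rfl

theorem sl2_ext {g g' : Matrix.SpecialLinearGroup (Fin 2) K} (h00 : g.1 0 0 = g'.1 0 0)
    (h01 : g.1 0 1 = g'.1 0 1) (h10 : g.1 1 0 = g'.1 1 0) (h11 : g.1 1 1 = g'.1 1 1) :
    g = g' := by
  apply Subtype.ext
  ext i j
  fin_cases i <;> fin_cases j
  · exact h00
  · exact h01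
  · exact h10
  · exact h11

theorem eq_smul_of_entries {h M₀ : Matrix.SpecialLinearGroup (Fin 2) K} {u : K}
    (h00 : h.1 0 0 = u * M₀.1 0 0) (h01 : h.1 0 1 = u * M₀.1 0 1)
    (h10 : h.1 1 0 = u * M₀.1 1 0) (h11 : h.1 1 1 = u * M₀.1 1 1) : h.1 = u • M₀.1 := by
  ext i j
  fin_cases i <;> fin_cases j
  · exact h00
  · exact h01
  · exact h10
  · exact h11

theorem center_of_smul {h M₀ : Matrix.SpecialLinearGroup (Fin 2) K} {u : K} (hu : u * u = 1)
    (hh : h.1 = u • M₀.1) :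
    h * M₀⁻¹ ∈ Subgroup.center (Matrix.SpecialLinearGroup (Fin 2) K) := by
  rw [Matrix.SpecialLinearGroup.mem_center_iff]
  refine ⟨u, by simp [pow_two, hu], ?_⟩
  have e : (h * M₀⁻¹).1 = h.1 * (M₀⁻¹).1 := rfl
  have e2 : M₀.1 * (M₀⁻¹).1 = 1 := by
    have : (M₀ * M₀⁻¹).1 = M₀.1 * (M₀⁻¹).1 := rfl
    rw [← this, mul_inv_cancel]
    rfl
  show _ = (h * M₀⁻¹).1
  rw [e, hh, Matrix.smul_mul, e2, Matrix.smul_one_eq_diagonal]
  rfl

variable [CharP K 3] [Fintype K]

theorem three_zero : (3 : K) = 0 := by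
  have := CharP.cast_eq_zero K 3
  exact_mod_cast this

theorem d1_00 : (d1 : Matrix.SpecialLinearGroup (Fin 2) K).1 0 0 = 0 := rfl
theorem d1_01 : (d1 : Matrix.SpecialLinearGroup (Fin 2) K).1 0 1 = 1 := rfl
theorem d1_10 : (d1 : Matrix.SpecialLinearGroup (Fin 2) K).1 1 0 = -1 := rfl
theorem d1_11 : (d1 : Matrix.SpecialLinearGroup (Fin 2) K).1 1 1 = 0 := rfl
theorem d2_00 : (d2 : Matrix.SpecialLinearGroup (Fin 2) K).1 0 0 = 1 := rfl
theorem d2_01 : (d2 : Matrix.SpecialLinearGroup (Fin 2) K).1 0 1 = 1 := rfl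
theorem d2_10 : (d2 : Matrix.SpecialLinearGroup (Fin 2) K).1 1 0 = 1 := rfl
theorem d2_11 : (d2 : Matrix.SpecialLinearGroup (Fin 2) K).1 1 1 = -1 := rfl
theorem zc_00 : (zc : Matrix.SpecialLinearGroup (Fin 2) K).1 0 0 = -1 := rfl
theorem zc_01 : (zc : Matrix.SpecialLinearGroup (Fin 2) K).1 0 1 = 0 := rfl
theorem zc_10 : (zc : Matrix.SpecialLinearGroup (Fin 2) K).1 1 0 = 0 := rfl
theorem zc_11 : (zc : Matrix.SpecialLinearGroup (Fin 2) K).1 1 1 = -1 := rfl

theorem zc_center : (zc : Matrix.SpecialLinearGroup (Fin 2) K) ∈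
    Subgroup.center (Matrix.SpecialLinearGroup (Fin 2) K) := center_of_neg_one rfl

/-- The linear algebra behind `C(⟨d1, d2⟩) = ⟨d1, d2⟩` modulo the centre. -/
theorem mat_cases {x y z w r s : K} (hdet : x * w - y * z = 1) (hr : r * r = 1) (hs : s * s = 1)
    (e1 : -y = r * z) (e2 : x = r * w) (f1 : x + y = s * (x + z)) (f2 : x - y = s * (y + w)) :
    ∃ u : K, u * u = 1 ∧ ((x = u ∧ y = 0 ∧ z = 0 ∧ w = u) ∨ (x = 0 ∧ y = u ∧ z = -u ∧ w = 0) ∨
      (x = u ∧ y = u ∧ z = u ∧ w = -u) ∨ (x = u ∧ y = -u ∧ z = -u ∧ w = -u)) := by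
  have h3 : (3 : K) = 0 := three_zero
  have hr' : r = 1 ∨ r = -1 := by
    have : (r - 1) * (r + 1) = 0 := by linear_combination hr
    rcases mul_eq_zero.mp this with h | h
    · exact Or.inl (sub_eq_zero.mp h)
    · exact Or.inr (eq_neg_of_add_eq_zero_left h)
  have hs' : s = 1 ∨ s = -1 := by
    have : (s - 1) * (s + 1) = 0 := by linear_combination hs
    rcases mul_eq_zero.mp this with h | h
    · exact Or.inl (sub_eq_zero.mp h)
    · exact Or.inr (eq_neg_of_add_eq_zero_left h)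
  rcases hr' with rfl | rfl <;> rcases hs' with rfl | rfl
  · have hy : y = 0 := by linear_combination y * h3 - (f1 - e1)
    have hz : z = 0 := by linear_combination -e1 - hy
    have hw : w = x := by linear_combination -e2
    refine ⟨x, by linear_combination hdet - x * hw + z * hy, Or.inl ⟨rfl, hy, hz, hw⟩⟩
  · have hx : x = 0 := by linear_combination x * h3 - (f1 + e1)
    have hw : w = 0 := by linear_combination hx - e2
    have hz : z = -y := by linear_combination -e1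
    refine ⟨y, by linear_combination hdet - w * hx + y * hz, Or.inr (Or.inl ⟨hx, rfl, hz, hw⟩)⟩
  · have hy : y = x := by linear_combination (y - x) * h3 + f2 + e2
    have hz : z = x := by linear_combination e1 + hy
    have hw : w = -x := by linear_combination e2
    refine ⟨x, by linear_combination hdet - x * hw + y * hz + x * hy + x * x * h3,
      Or.inr (Or.inr (Or.inl ⟨rfl, hy, hz, hw⟩))⟩
  · have hy : y = -x := by linear_combination (x + y) * h3 - (f1 - e1)
    have hz : z = -x := by linear_combination e1 + hy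
    have hw : w = -x := by linear_combination e2
    refine ⟨x, by linear_combination hdet - x * hw + y * hz - x * hy + x * x * h3,
      Or.inr (Or.inr (Or.inr ⟨rfl, hy, hz, hw⟩))⟩

/-- An element of `SL₂(K)` commuting with `d1` and `d2` modulo the centre lies in
`{1, d1, d2, d1 d2}` modulo the centre. -/
theorem sl2_cases (h : Matrix.SpecialLinearGroup (Fin 2) K)
    (h1 : h * d1 * h⁻¹ * d1⁻¹ ∈ Subgroup.center (Matrix.SpecialLinearGroup (Fin 2) K))
    (h2 : h * d2 * h⁻¹ * d2⁻¹ ∈ Subgroup.center (Matrix.SpecialLinearGroup (Fin 2) K)) :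
    ∃ M₀ : Matrix.SpecialLinearGroup (Fin 2) K, (M₀ = 1 ∨ M₀ = d1 ∨ M₀ = d2 ∨ M₀ = d1 * d2) ∧
      h * M₀⁻¹ ∈ Subgroup.center (Matrix.SpecialLinearGroup (Fin 2) K) := by
  obtain ⟨r, hr, hzr⟩ := Matrix.SpecialLinearGroup.mem_center_iff.mp h1
  obtain ⟨s, hs, hzs⟩ := Matrix.SpecialLinearGroup.mem_center_iff.mp h2
  have hr2 : r * r = 1 := by
    have : r ^ 2 = 1 := by simpa using hr
    rw [← this]; ring
  have hs2 : s * s = 1 := by
    have : s ^ 2 = 1 := by simpa using hs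
    rw [← this]; ring
  have m1 : h * d1 = (h * d1 * h⁻¹ * d1⁻¹) * (d1 * h) := by
    rw [← mul_assoc, inv_mul_cancel_right, inv_mul_cancel_right]
  have m2 : h * d2 = (h * d2 * h⁻¹ * d2⁻¹) * (d2 * h) := by
    rw [← mul_assoc, inv_mul_cancel_right, inv_mul_cancel_right]
  have r00 : (h * d1 * h⁻¹ * d1⁻¹).1 0 0 = r := by rw [← hzr]; simp
  have r01 : (h * d1 * h⁻¹ * d1⁻¹).1 0 1 = 0 := by rw [← hzr]; simp
  have s00 : (h * d2 * h⁻¹ * d2⁻¹).1 0 0 = s := by rw [← hzs]; simp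
  have s01 : (h * d2 * h⁻¹ * d2⁻¹).1 0 1 = 0 := by rw [← hzs]; simp
  have e00 := congrFun (congrFun (congrArg Subtype.val m1) 0) 0
  have e01 := congrFun (congrFun (congrArg Subtype.val m1) 0) 1
  have f00 := congrFun (congrFun (congrArg Subtype.val m2) 0) 0
  have f01 := congrFun (congrFun (congrArg Subtype.val m2) 0) 1
  rw [mul_entry h d1, mul_entry _ (d1 * h), mul_entry d1 h, mul_entry d1 h, r00, r01,
    d1_00, d1_01, d1_10, d1_11] at e00 e01
  rw [mul_entry h d2, mul_entry _ (d2 * h), mul_entry d2 h, mul_entry d2 h, s00, s01,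
    d2_00, d2_01, d2_10, d2_11] at f00 f01
  obtain ⟨u, hu, hc⟩ := mat_cases (det_eq h) hr2 hs2
    (by linear_combination e00) (by linear_combination e01)
    (by linear_combination f00) (by linear_combination f01)
  rcases hc with ⟨hx, hy, hz, hw⟩ | ⟨hx, hy, hz, hw⟩ | ⟨hx, hy, hz, hw⟩ | ⟨hx, hy, hz, hw⟩
  · refine ⟨1, Or.inl rfl, center_of_smul hu (eq_smul_of_entries ?_ ?_ ?_ ?_)⟩
    · rw [one_00, hx, mul_one]
    · rw [one_01, hy, mul_zero]
    · rw [one_10, hz, mul_zero]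
    · rw [one_11, hw, mul_one]
  · refine ⟨d1, Or.inr (Or.inl rfl), center_of_smul hu (eq_smul_of_entries ?_ ?_ ?_ ?_)⟩
    · rw [d1_00, hx, mul_zero]
    · rw [d1_01, hy, mul_one]
    · rw [d1_10, hz, mul_neg, mul_one]
    · rw [d1_11, hw, mul_zero]
  · refine ⟨d2, Or.inr (Or.inr (Or.inl rfl)), center_of_smul hu (eq_smul_of_entries ?_ ?_ ?_ ?_)⟩
    · rw [d2_00, hx, mul_one]
    · rw [d2_01, hy, mul_one]
    · rw [d2_10, hz, mul_one]
    · rw [d2_11, hw, mul_neg, mul_one]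
  · refine ⟨d1 * d2, Or.inr (Or.inr (Or.inr rfl)),
      center_of_smul hu (eq_smul_of_entries ?_ ?_ ?_ ?_)⟩
    · rw [mul_entry, d1_00, d1_01, d2_00, d2_10, hx]; ring
    · rw [mul_entry, d1_00, d1_01, d2_01, d2_11, hy]; ring
    · rw [mul_entry, d1_10, d1_11, d2_00, d2_10, hz]; ring
    · rw [mul_entry, d1_10, d1_11, d2_01, d2_11, hw]; ring

/-- `u d1 u⁻¹ = -d2` for `u = [[1,1],[0,1]]`. -/
theorem up_d1 : upper (1 : K) * d1 = zc * (d2 * upper 1) := by
  have h3 : (3 : K) = 0 := three_zero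
  apply sl2_ext
  · rw [mul_entry, mul_entry zc, mul_entry d2, mul_entry d2, up_00, up_01, up_10, d1_00, d1_10,
      zc_00, zc_01, d2_00, d2_01, d2_10, d2_11]
    ring
  · rw [mul_entry, mul_entry zc, mul_entry d2, mul_entry d2, up_00, up_01, up_11, d1_01, d1_11,
      zc_00, zc_01, d2_00, d2_01, d2_10, d2_11]
    linear_combination h3
  · rw [mul_entry, mul_entry zc, mul_entry d2, mul_entry d2, up_00, up_10, up_11, d1_00, d1_10,
      zc_10, zc_11, d2_00, d2_01, d2_10, d2_11]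
    ring
  · rw [mul_entry, mul_entry zc, mul_entry d2, mul_entry d2, up_01, up_10, up_11, d1_01, d1_11,
      zc_10, zc_11, d2_00, d2_01, d2_10, d2_11]
    ring

/-- `u d2 u⁻¹ = -d1 d2` for `u = [[1,1],[0,1]]`. -/
theorem up_d2 : upper (1 : K) * d2 = zc * ((d1 * d2) * upper 1) := by
  have h3 : (3 : K) = 0 := three_zero
  apply sl2_ext
  · rw [mul_entry, mul_entry zc, mul_entry (d1 * d2), mul_entry (d1 * d2), mul_entry d1,
      mul_entry d1, mul_entry d1, mul_entry d1, up_00, up_01, up_10, zc_00, zc_01,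
      d1_00, d1_01, d1_10, d1_11, d2_00, d2_01, d2_10, d2_11]
    linear_combination h3
  · rw [mul_entry, mul_entry zc, mul_entry (d1 * d2), mul_entry (d1 * d2), mul_entry d1,
      mul_entry d1, mul_entry d1, mul_entry d1, up_00, up_01, up_11, zc_00, zc_01,
      d1_00, d1_01, d1_10, d1_11, d2_00, d2_01, d2_10, d2_11]
    ring
  · rw [mul_entry, mul_entry zc, mul_entry (d1 * d2), mul_entry (d1 * d2), mul_entry d1,
      mul_entry d1, mul_entry d1, mul_entry d1, up_00, up_10, up_11, zc_10, zc_11,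
      d1_00, d1_01, d1_10, d1_11, d2_00, d2_01, d2_10, d2_11]
    ring
  · rw [mul_entry, mul_entry zc, mul_entry (d1 * d2), mul_entry (d1 * d2), mul_entry d1,
      mul_entry d1, mul_entry d1, mul_entry d1, up_01, up_10, up_11, zc_10, zc_11,
      d1_00, d1_01, d1_10, d1_11, d2_00, d2_01, d2_10, d2_11]
    linear_combination -h3

/-- `u³ = 1` for `u = [[1,1],[0,1]]`. -/
theorem up_cube : upper (1 : K) * upper 1 * upper 1 = 1 := by
  have h3 : (3 : K) = 0 := three_zero
  apply sl2_ext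
  · rw [mul_entry, mul_entry, up_00, up_01, up_10, one_00]
    ring
  · rw [mul_entry, mul_entry, mul_entry, up_00, up_01, up_10, up_11, one_01]
    linear_combination h3
  · rw [mul_entry, mul_entry, up_00, up_10, up_11, one_10]
    ring
  · rw [mul_entry, mul_entry, mul_entry, up_01, up_10, up_11, one_11]
    ring

/-! ### The configuration in the Ree group -/

variable {φ : K →+* K} {e : ℕ} (hφ : ∀ x, φ x = x ^ e)
  (h3 : ∀ x : K, φ (φ x) ^ 3 = x) {m : ℕ}
  (hK : Fintype.card K = 3 ^ (2 * m + 1)) (he : e = 3 ^ m) (S : Sig K φ)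

/-- `ψ` as a map into the Ree group. -/
noncomputable def psiG : Matrix.SpecialLinearGroup (Fin 2) K →* ↥(twistedG2 K e) :=
  (psi φ).codRestrict (twistedG2 K e) (fun g => (psi_mem hφ g).1)

theorem psiG_center {g : Matrix.SpecialLinearGroup (Fin 2) K}
    (hg : g ∈ Subgroup.center (Matrix.SpecialLinearGroup (Fin 2) K)) : psiG hφ g = 1 :=
  Subtype.ext (psi_center hg)

theorem psiG_eq_one {g : Matrix.SpecialLinearGroup (Fin 2) K} (hg : psiG hφ g = 1) :
    g ∈ Subgroup.center (Matrix.SpecialLinearGroup (Fin 2) K) :=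
  psi_eq_one (congrArg Subtype.val hg)

theorem psiG_zc_mul (g : Matrix.SpecialLinearGroup (Fin 2) K) :
    psiG hφ (zc * g) = psiG hφ g := by
  rw [map_mul, psiG_center hφ zc_center, one_mul]

include hφ h3 hK he S in
/-- A Sylow 2-subgroup `P` of the Ree group (`m ≥ 1`) satisfies `C(P) = P` and `|N(P)| = 168`. -/
theorem sylow2_norm (hm : 1 ≤ m) (P : Sylow 2 ↥(twistedG2 K e)) :
    Subgroup.centralizer ((P : Subgroup ↥(twistedG2 K e)) : Set ↥(twistedG2 K e)) = P ∧
      Nat.card (Subgroup.normalizer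
        ((P : Subgroup ↥(twistedG2 K e)) : Set ↥(twistedG2 K e))) = 168 := by
  subst he
  have hm1 : (-1 : K) ≠ 0 := neg_ne_zero.mpr one_ne_zero
  obtain ⟨k, hk, hk2⟩ := two_part m
  have hG : Nat.card ↥(twistedG2 K (3 ^ m)) = 8 * k := by
    rw [card_Gam S hφ h3 hK rfl, hK, hk2]
    norm_num
  have hperf : commutator ↥(twistedG2 K (3 ^ m)) = ⊤ := Cfsg.Agent.S1116.result hK hm
  have key : ∀ (ψ : Matrix.SpecialLinearGroup (Fin 2) K →* ↥(twistedG2 K (3 ^ m)))
      (a : ↥(twistedG2 K (3 ^ m))), ψ = psiG hφ → (a : GL chevG2.Idx K) = eta φ (-1) →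
      Subgroup.centralizer ((P : Subgroup ↥(twistedG2 K (3 ^ m))) :
        Set ↥(twistedG2 K (3 ^ m))) = P ∧
      Nat.card (Subgroup.normalizer
        ((P : Subgroup ↥(twistedG2 K (3 ^ m))) : Set ↥(twistedG2 K (3 ^ m)))) = 168 := by
    intro ψ a hψ haval
    have hψval : ∀ g, ((ψ g : ↥(twistedG2 K (3 ^ m))) : GL chevG2.Idx K) = psi φ g := by
      intro g
      rw [hψ]
      rfl
    have hcen : ∀ {g : Matrix.SpecialLinearGroup (Fin 2) K},
        g ∈ Subgroup.center (Matrix.SpecialLinearGroup (Fin 2) K) → ψ g = 1 := by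
      intro g hg
      rw [hψ]
      exact psiG_center hφ hg
    have hone : ∀ {g : Matrix.SpecialLinearGroup (Fin 2) K}, ψ g = 1 →
        g ∈ Subgroup.center (Matrix.SpecialLinearGroup (Fin 2) K) := by
      intro g hg
      rw [hψ] at hg
      exact psiG_eq_one hφ hg
    have hzc : ∀ g : Matrix.SpecialLinearGroup (Fin 2) K, ψ (zc * g) = ψ g := by
      intro g
      rw [map_mul, hcen zc_center, one_mul]
    have ha : a * a = 1 := by
      apply Subtype.ext
      show (a : GL chevG2.Idx K) * (a : GL chevG2.Idx K) = 1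
      rw [haval]
      exact a0_sq
    have hb : ψ d1 * ψ d1 = 1 := by rw [← map_mul]; exact hcen d1_sq
    have hc : ψ d2 * ψ d2 = 1 := by rw [← map_mul]; exact hcen d2_sq
    have hLa : ∀ g ∈ ψ.range, a * g = g * a := by
      rintro _ ⟨g, rfl⟩
      apply Subtype.ext
      show (a : GL chevG2.Idx K) * ((ψ g : ↥(twistedG2 K (3 ^ m))) : GL chevG2.Idx K) =
        ((ψ g : ↥(twistedG2 K (3 ^ m))) : GL chevG2.Idx K) * (a : GL chevG2.Idx K)
      rw [haval, hψval]
      exact (psi_mem hφ g).2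
    have hbc : ψ d1 * ψ d2 = ψ d2 * ψ d1 := by
      have h1 := hcen (d12_comm (K := K))
      rw [map_mul, map_inv, inv_mul_eq_one] at h1
      rw [← map_mul, ← map_mul, h1]
    have hL : ∀ g, a * g = g * a → g ∈ ψ.range ∨ a * g ∈ ψ.range := by
      intro g hg
      have hcomm : eta φ (-1 : K) * (g : GL chevG2.Idx K) =
          (g : GL chevG2.Idx K) * eta φ (-1) := by
        rw [← haval]
        exact congrArg Subtype.val hg
      obtain ⟨g', h | h⟩ := surj hφ h3 hK rfl S g.2 hcomm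
      · refine Or.inl ⟨g', Subtype.ext ?_⟩
        rw [hψval, h]
      · refine Or.inr ⟨g', Subtype.ext ?_⟩
        rw [hψval]
        show psi φ g' = (a : GL chevG2.Idx K) * (g : GL chevG2.Idx K)
        rw [haval, h, ← mul_assoc, a0_sq, one_mul]
    have haL : a ∉ ψ.range := by
      rintro ⟨g, hg⟩
      apply psi_ne_inv (φ := φ) g
      rw [← hψval, hg, haval]
    have hb1 : ψ d1 ≠ 1 := by
      intro h
      apply psi_not_B φ d1 d1_c
      rw [← hψval, h]
      exact Subgroup.one_mem _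
    have hbcne : ψ d1 ≠ ψ d2 := by
      intro h
      apply psi_not_B φ (d1 * d2) d12_c
      have e : ψ (d1 * d2) = 1 := by rw [map_mul, ← h]; exact hb
      rw [← hψval, e]
      exact Subgroup.one_mem _
    have hCE : ∀ g ∈ ψ.range, g * ψ d1 = ψ d1 * g → g * ψ d2 = ψ d2 * g →
        g = 1 ∨ g = ψ d1 ∨ g = ψ d2 ∨ g = ψ d1 * ψ d2 := by
      rintro _ ⟨h, rfl⟩ h1 h2
      have c1 : h * d1 * h⁻¹ * d1⁻¹ ∈ Subgroup.center (Matrix.SpecialLinearGroup (Fin 2) K) := by
        apply hone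
        rw [map_mul, map_mul, map_mul, map_inv, map_inv, h1, mul_inv_cancel_right, mul_inv_cancel]
      have c2 : h * d2 * h⁻¹ * d2⁻¹ ∈ Subgroup.center (Matrix.SpecialLinearGroup (Fin 2) K) := by
        apply hone
        rw [map_mul, map_mul, map_mul, map_inv, map_inv, h2, mul_inv_cancel_right, mul_inv_cancel]
      obtain ⟨M₀, hM, hc⟩ := sl2_cases h c1 c2
      have e : ψ h = ψ M₀ := by
        have := hcen hc
        rw [map_mul, map_inv, mul_inv_eq_one] at this
        exact this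
      rw [e]
      rcases hM with rfl | rfl | rfl | rfl
      · left; exact map_one ψ
      · right; left; rfl
      · right; right; left; rfl
      · right; right; right; exact map_mul ψ d1 d2
    have htb : ψ (upper 1) * ψ d1 * (ψ (upper 1))⁻¹ = ψ d2 := by
      have e := congrArg ψ (up_d1 (K := K))
      rw [map_mul, hzc, map_mul] at e
      rw [e, mul_inv_cancel_right]
    have htc : ψ (upper 1) * ψ d2 * (ψ (upper 1))⁻¹ = ψ d1 * ψ d2 := by
      have e := congrArg ψ (up_d2 (K := K))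
      rw [map_mul, hzc, map_mul, map_mul] at e
      rw [e, mul_inv_cancel_right]
    have ht3 : ψ (upper 1) * ψ (upper 1) * ψ (upper 1) = 1 := by
      rw [← map_mul, ← map_mul, up_cube, map_one]
    have hab : a * ψ d1 = ψ d1 * a := hLa _ ⟨d1, rfl⟩
    have hac : a * ψ d2 = ψ d2 * a := hLa _ ⟨d2, rfl⟩
    obtain ⟨P₀, haP, hbP, hcP⟩ := Ree25.exists_sylow ha hb hc hab hac hbc
    let D : Ree25.Cfg ↥(twistedG2 K (3 ^ m)) :=
      { a := a, b := ψ d1, c := ψ d2, t := ψ (upper 1), L := ψ.range, P := P₀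
        ha := ha, hb := hb, hc := hc, hab := hab, hac := hac, hbc := hbc
        hb1 := hb1, hbcne := hbcne, hL := hL, hLa := hLa, haL := haL
        hbL := ⟨d1, rfl⟩, hcL := ⟨d2, rfl⟩, hCE := hCE
        htL := ⟨upper 1, rfl⟩, htb := htb, htc := htc, ht3 := ht3
        haP := haP, hbP := hbP, hcP := hcP
        hP2 := (sylow2 hφ h3 hK rfl S P₀).2, hP8 := (sylow2 hφ h3 hK rfl S P₀).1 }
    exact D.main hperf hk hG P
  exact key (psiG hφ) ⟨eta φ (-1), eta_mem_Gam hφ h3 hK rfl hm1⟩ rfl rfl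

end Cfsg.Agent.Lib.Helper18.Ree26
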