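import Mathlib
import Cfsg.Agent.Lib.Helper18.Ree26
import Cfsg.Agent.Lib.Helper18.Ree19

set_option autoImplicit false
set_option linter.unusedSimpArgs false
set_option linter.unusedSectionVars false
set_option linter.unusedVariables false

/-!
# The small Ree groups: the centraliser of an element of `H¹` of order `> 2` is `H¹`;
the normaliser of `U¹` is `B¹`; `B¹` has no elements of order prime to `3(q-1)`
-/

namespace Cfsg.Agent.Lib.Helper18.Ree28

open Cfsg Cfsg.Lie Cfsg.Agent.Lib.Helper18 Cfsg.Agent.Lib.Helper18.Ree1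
  Cfsg.Agent.Lib.Helper18.Ree2 Cfsg.Agent.Lib.Helper18.Ree3 Cfsg.Agent.Lib.Helper18.Ree4
  Cfsg.Agent.Lib.Helper18.Ree5 Cfsg.Agent.Lib.Helper18.Ree6 Cfsg.Agent.Lib.Helper18.Ree7
  Cfsg.Agent.Lib.Helper18.Ree10 Cfsg.Agent.Lib.Helper18.Ree11 Cfsg.Agent.Lib.Helper18.Ree12
  Cfsg.Agent.Lib.Helper18.Ree13 Cfsg.Agent.Lib.Helper18.Ree14 Cfsg.Agent.Lib.Helper18.Ree17
  Cfsg.Agent.Lib.Helper18.Ree22 Cfsg.Agent.Lib.Helper18.Ree23 Cfsg.Agent.Lib.Helper18.Ree24
  Cfsg.Agent.Lib.Helper18.Ree26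
  Cfsg.Agent.Lib.Helper19.SL2Hom

variable {K : Type*} [Field K] [CharP K 3] {φ : K →+* K} {e : ℕ} (hφ : ∀ x, φ x = x ^ e)
  (h3 : ∀ x : K, φ (φ x) ^ 3 = x) [Fintype K] {m : ℕ}
  (hK : Fintype.card K = 3 ^ (2 * m + 1)) (he : e = 3 ^ m) (S : Sig K φ)

/-- `ψ(g) ∈ B` for upper triangular `g`. -/
theorem psi_B (g : Matrix.SpecialLinearGroup (Fin 2) K) (hc : g.1 1 0 = 0) :
    psi φ g ∈ chevG2.borelSubgroup K := by
  have hdet := det_eq g
  rw [hc, mul_zero, sub_zero] at hdet
  have ha : g.1 0 0 ≠ 0 := left_ne_zero_of_mul_eq_one hdet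
  rw [psi_zero φ g hc]
  exact Subgroup.mul_mem _ (U_le_B (xd_mem_U φ _)) (H_le_B (hd_mem_H φ ha))

include S hφ h3 hK he in
/-- An element of `H¹` commuting with `n₀` has square one. -/
theorem n0_comm_eta {s : K} (hs : s ≠ 0) (hc : n0 K * eta φ s = eta φ s * n0 K) :
    eta φ s * eta φ s = 1 := by
  have hm1 : (-1 : K) ≠ 0 := neg_ne_zero.mpr one_ne_zero
  obtain ⟨w', hw'⟩ := InP_n0 hφ h3 hK he S
  obtain ⟨d', hd'⟩ := InP_eta hφ h3 hK he hs
  have hcom : ∀ g, eta φ (-1 : K) * psi φ g = psi φ g * eta φ (-1) := fun g => (psi_mem hφ g).2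
  have hAA : eta φ (-1 : K) * eta φ (-1) = 1 := a0_sq
  -- `ψ(w')` and `ψ(d')` commute
  have hcomm : psi φ w' * psi φ d' = psi φ d' * psi φ w' := by
    rcases hw' with hw' | hw' <;> rcases hd' with hd' | hd' <;> rw [hw', hd'] at hc
    · exact hc
    · have : eta φ (-1 : K) * (psi φ w' * psi φ d') = eta φ (-1 : K) * (psi φ d' * psi φ w') := by
        calc eta φ (-1 : K) * (psi φ w' * psi φ d')
            = psi φ w' * (eta φ (-1 : K) * psi φ d') := by rw [← mul_assoc, hcom w', mul_assoc]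
          _ = eta φ (-1 : K) * psi φ d' * psi φ w' := hc
          _ = eta φ (-1 : K) * (psi φ d' * psi φ w') := mul_assoc _ _ _
      exact mul_left_cancel this
    · have : eta φ (-1 : K) * (psi φ w' * psi φ d') = eta φ (-1 : K) * (psi φ d' * psi φ w') := by
        calc eta φ (-1 : K) * (psi φ w' * psi φ d')
            = eta φ (-1 : K) * psi φ w' * psi φ d' := (mul_assoc _ _ _).symm
          _ = psi φ d' * (eta φ (-1 : K) * psi φ w') := hc
          _ = eta φ (-1 : K) * (psi φ d' * psi φ w') := by rw [← mul_assoc, ← hcom d', mul_assoc]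
      exact mul_left_cancel this
    · have : eta φ (-1 : K) * (eta φ (-1 : K) * (psi φ w' * psi φ d')) =
          eta φ (-1 : K) * (eta φ (-1 : K) * (psi φ d' * psi φ w')) := by
        calc eta φ (-1 : K) * (eta φ (-1 : K) * (psi φ w' * psi φ d'))
            = eta φ (-1 : K) * psi φ w' * (eta φ (-1 : K) * psi φ d') := by
              rw [mul_assoc (eta φ (-1 : K)) (psi φ w'), ← mul_assoc (psi φ w'), ← hcom w',
                mul_assoc (eta φ (-1 : K)) (psi φ w')]
          _ = eta φ (-1 : K) * psi φ d' * (eta φ (-1 : K) * psi φ w') := hc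
          _ = eta φ (-1 : K) * (eta φ (-1 : K) * (psi φ d' * psi φ w')) := by
              rw [mul_assoc (eta φ (-1 : K)) (psi φ d'), ← mul_assoc (psi φ d'), ← hcom d',
                mul_assoc (eta φ (-1 : K)) (psi φ d')]
      exact mul_left_cancel (mul_left_cancel this)
  -- `ψ(d') = η(s'')` with `s''² = s²`
  obtain ⟨s'', hs'', hψd, hsq⟩ : ∃ s'' : K, s'' ≠ 0 ∧ psi φ d' = eta φ s'' ∧ s'' * s'' = s * s := by
    rcases hd' with hd' | hd'
    · exact ⟨s, hs, hd'.symm, rfl⟩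
    · refine ⟨-1 * s, mul_ne_zero hm1 hs, ?_, by ring⟩
      rw [eta_mul φ hm1 hs, hd', ← mul_assoc, hAA, one_mul]
  -- `d'` is diagonal
  have hd10 : d'.1 1 0 = 0 := by
    by_contra hne
    apply psi_not_B φ d' hne
    rw [hψd]
    exact H_le_B (eta_mem_H φ hs'')
  have hT : ((psi φ d' : GL chevG2.Idx K) : Matrix chevG2.Idx chevG2.Idx K) = T2 (φ s'') s'' := by
    rw [hψd, coe_eta φ hs'']
  obtain ⟨hd01, hd00, -, -⟩ := psi_zero_H d' hd10 hT ((map_ne_zero φ).mpr hs'') hs''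
  have hdetd := det_eq d'
  rw [hd10, mul_zero, sub_zero] at hdetd
  -- `w'` is not upper triangular
  have hw10 : w'.1 1 0 ≠ 0 := by
    intro h0
    apply n0_not_mem_B (K := K)
    rcases hw' with hw' | hw'
    · rw [hw']
      exact psi_B w' h0
    · rw [hw']
      exact Subgroup.mul_mem _ (H_le_B (eta_mem_H φ hm1)) (psi_B w' h0)
  -- the commutator is central
  have hcen : w' * d' * w'⁻¹ * d'⁻¹ ∈ Subgroup.center (Matrix.SpecialLinearGroup (Fin 2) K) := by
    apply psi_eq_one (φ := φ)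
    rw [map_mul, map_mul, map_mul, map_inv, map_inv, hcomm, mul_inv_cancel_right, mul_inv_cancel]
  have hrel : w' * d' * w'⁻¹ * d'⁻¹ * d' * w' = w' * d' := by
    rw [inv_mul_cancel_right, inv_mul_cancel_right]
  rw [Matrix.SpecialLinearGroup.mem_center_iff] at hcen
  obtain ⟨r, hr, hcr⟩ := hcen
  have hr2 : r * r = 1 := by
    have : r ^ 2 = 1 := by simpa using hr
    rw [← this]
    ring
  generalize w' * d' * w'⁻¹ * d'⁻¹ = c₀ at hcr hrel
  have c10 : c₀.1 1 0 = 0 := by rw [← hcr]; simp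
  have c11 : c₀.1 1 1 = r := by rw [← hcr]; simp
  have c00 : c₀.1 0 0 = r := by rw [← hcr]; simp
  have c01 : c₀.1 0 1 = 0 := by rw [← hcr]; simp
  have e10 := congrArg (fun g : Matrix.SpecialLinearGroup (Fin 2) K => g.1 1 0) hrel
  simp only [mul_entry, c10, c11, c00, c01, hd10, hd01] at e10
  have hu : d'.1 0 0 = r * d'.1 1 1 := by
    have h1 : w'.1 1 0 * (d'.1 0 0 - r * d'.1 1 1) = 0 := by linear_combination -e10
    rcases mul_eq_zero.mp h1 with h | h
    · exact absurd h hw10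
    · exact sub_eq_zero.mp h
  have hu2 : d'.1 0 0 * d'.1 0 0 = r := by
    calc d'.1 0 0 * d'.1 0 0 = d'.1 0 0 * (r * d'.1 1 1) := by rw [← hu]
      _ = r * (d'.1 0 0 * d'.1 1 1) := by ring
      _ = r := by rw [hdetd, mul_one]
  have hv2 : d'.1 1 1 * d'.1 1 1 = r := by
    have : d'.1 1 1 = r * d'.1 0 0 := by
      calc d'.1 1 1 = (r * r) * d'.1 1 1 := by rw [hr2, one_mul]
        _ = r * (r * d'.1 1 1) := by ring
        _ = r * d'.1 0 0 := by rw [← hu]
    calc d'.1 1 1 * d'.1 1 1 = (r * d'.1 0 0) * d'.1 1 1 := by rw [← this]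
      _ = r * (d'.1 0 0 * d'.1 1 1) := by ring
      _ = r := by rw [hdetd, mul_one]
  have hdd : d' * d' ∈ Subgroup.center (Matrix.SpecialLinearGroup (Fin 2) K) := by
    rw [Matrix.SpecialLinearGroup.mem_center_iff]
    refine ⟨r, hr, ?_⟩
    ext i j
    fin_cases i <;> fin_cases j <;> simp [mul_entry, hd10, hd01, hu2, hv2]
  have h1 : eta φ s'' * eta φ s'' = 1 := by
    rw [← hψd, ← map_mul]
    exact psi_center hdd
  rw [← eta_mul φ hs hs, ← hsq, eta_mul φ hs'' hs'']
  exact h1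

include S hφ h3 hK he in
/-- The centraliser in the Ree group of an element of `H¹` of order greater than 2 lies in `H`. -/
theorem cent_H {h g : GL chevG2.Idx K} (hh : h ∈ chevG2.diagonalSubgroup K ⊓ twistedG2 K e)
    (hh2 : h * h ≠ 1) (hg : g ∈ twistedG2 K e) (hc : h * g = g * h) :
    g ∈ chevG2.diagonalSubgroup K := by
  obtain ⟨s, hs, rfl⟩ := (mem_H_Gam S hφ h3 hK he h).mp hh
  have hne1 : eta φ s ≠ 1 := by
    intro h1
    rw [h1, one_mul] at hh2
    exact hh2 rfl
  have hneA : eta φ s ≠ eta φ (-1) := by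
    intro h1
    rw [h1] at hh2
    exact hh2 a0_sq
  rcases Gam_cases S hφ h3 hK he hg with ⟨t, u, v, s', hs', rfl⟩ | ⟨t, u, v, s', t', u', v', hs', rfl⟩
  · have h1 : eta φ s * reeU φ t u v = reeU φ t u v * eta φ s := by
      have e1 : eta φ s * reeU φ t u v * eta φ s' = reeU φ t u v * eta φ s * eta φ s' := by
        calc eta φ s * reeU φ t u v * eta φ s'
            = eta φ s * (reeU φ t u v * eta φ s') := by group
          _ = reeU φ t u v * eta φ s' * eta φ s := hc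
          _ = reeU φ t u v * (eta φ s' * eta φ s) := by group
          _ = reeU φ t u v * (eta φ s * eta φ s') := by rw [eta_comm s' s hs' hs]
          _ = reeU φ t u v * eta φ s * eta φ s' := by group
      exact mul_right_cancel e1
    by_cases hu1 : reeU φ t u v = 1
    · rw [hu1, one_mul]
      exact eta_mem_H φ hs'
    · rcases cent_cases S hφ h3 hK he ⟨eta_mem_H φ hs, eta_mem_Gam hφ h3 hK he hs⟩
        ⟨reeU_mem t u v, reeU_mem_Gam hφ t u v⟩ hu1 h1 with h | h
      · exact absurd h hne1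
      · exact absurd h hneA
  · exfalso
    have haH : eta φ s ∈ chevG2.diagonalSubgroup K := eta_mem_H φ hs
    have hR : reeU φ t u v ∈ chevG2.posUnipotent K := reeU_mem t u v
    have hR' : reeU φ t' u' v' ∈ chevG2.posUnipotent K := reeU_mem t' u' v'
    have hconj : ∀ {r : GL chevG2.Idx K}, r ∈ chevG2.posUnipotent K →
        eta φ s * r * (eta φ s)⁻¹ ∈ chevG2.posUnipotent K := fun {r} hr =>
      (Subgroup.mem_set_normalizer_iff.mp (Pos.diag_le_normalizer_pos CAll.cfG2.af haH) _).mp hr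
    have hh' : (n0 K)⁻¹ * eta φ s * n0 K * eta φ s' * (eta φ s)⁻¹ ∈
        chevG2.diagonalSubgroup K :=
      Subgroup.mul_mem _ (Subgroup.mul_mem _ (N_conj_H' n0_mem_N haH) (eta_mem_H φ hs'))
        (Subgroup.inv_mem _ haH)
    have e1 : eta φ s * reeU φ t u v * (eta φ s)⁻¹ * n0 K *
        ((n0 K)⁻¹ * eta φ s * n0 K * eta φ s' * (eta φ s)⁻¹) *
        (eta φ s * reeU φ t' u' v' * (eta φ s)⁻¹) =
        reeU φ t u v * n0 K * eta φ s' * reeU φ t' u' v' := by
      calc eta φ s * reeU φ t u v * (eta φ s)⁻¹ * n0 K *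
          ((n0 K)⁻¹ * eta φ s * n0 K * eta φ s' * (eta φ s)⁻¹) *
          (eta φ s * reeU φ t' u' v' * (eta φ s)⁻¹)
          = eta φ s * (reeU φ t u v * n0 K * eta φ s' * reeU φ t' u' v') *
            (eta φ s)⁻¹ := by group
        _ = reeU φ t u v * n0 K * eta φ s' * reeU φ t' u' v' * eta φ s *
            (eta φ s)⁻¹ := by rw [hc]
        _ = reeU φ t u v * n0 K * eta φ s' * reeU φ t' u' v' := by group
    obtain ⟨-, fh, -⟩ := bigcell_uniq (hconj hR) hR hh' (eta_mem_H φ hs') (hconj hR') hR' e1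
    have e2 : (n0 K)⁻¹ * eta φ s * n0 K = eta φ s := by
      calc (n0 K)⁻¹ * eta φ s * n0 K
          = ((n0 K)⁻¹ * eta φ s * n0 K * eta φ s' * (eta φ s)⁻¹) *
            (eta φ s * (eta φ s')⁻¹) := by group
        _ = eta φ s' * (eta φ s * (eta φ s')⁻¹) := by rw [fh]
        _ = (eta φ s' * eta φ s) * (eta φ s')⁻¹ := by group
        _ = (eta φ s * eta φ s') * (eta φ s')⁻¹ := by rw [eta_comm s' s hs' hs]
        _ = eta φ s := by group
    have e3 : n0 K * eta φ s = eta φ s * n0 K := by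
      calc n0 K * eta φ s = n0 K * ((n0 K)⁻¹ * eta φ s * n0 K) := by rw [e2]
        _ = eta φ s * n0 K := by group
    exact hh2 (n0_comm_eta hφ h3 hK he S hs e3)

end Cfsg.Agent.Lib.Helper18.Ree28
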