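import Mathlib
import Cfsg.Agent.Lib.Helper18.Ree28

set_option autoImplicit false
set_option linter.unusedSimpArgs false
set_option linter.unusedSectionVars false
set_option linter.unusedVariables false

/-!
# The small Ree groups: the normaliser of `U¹` is `B¹`; `B¹` has no elements of prime order
`p ∤ 3(q-1)`
-/

namespace Cfsg.Agent.Lib.Helper18.Ree29

open Cfsg Cfsg.Lie Cfsg.Agent.Lib.Helper18 Cfsg.Agent.Lib.Helper18.Ree1
  Cfsg.Agent.Lib.Helper18.Ree2 Cfsg.Agent.Lib.Helper18.Ree3 Cfsg.Agent.Lib.Helper18.Ree4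
  Cfsg.Agent.Lib.Helper18.Ree5 Cfsg.Agent.Lib.Helper18.Ree6 Cfsg.Agent.Lib.Helper18.Ree7
  Cfsg.Agent.Lib.Helper18.Ree10 Cfsg.Agent.Lib.Helper18.Ree11 Cfsg.Agent.Lib.Helper18.Ree12
  Cfsg.Agent.Lib.Helper18.Ree13 Cfsg.Agent.Lib.Helper18.Ree14 Cfsg.Agent.Lib.Helper18.Ree17
  Cfsg.Agent.Lib.Helper18.Ree22 Cfsg.Agent.Lib.Helper18.Ree23 Cfsg.Agent.Lib.Helper18.Ree24
  Cfsg.Agent.Lib.Helper18.Ree26
  Cfsg.Agent.Lib.Helper19.SL2Hom

/-- Powers of `u h` when `h` normalises `U`. -/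
theorem pow_UH {G : Type*} [Group G] (U : Subgroup G) {u h : G} (hu : u ∈ U)
    (hn : ∀ x ∈ U, h * x * h⁻¹ ∈ U) (k : ℕ) : ∃ u' ∈ U, (u * h) ^ k = u' * h ^ k := by
  have hn' : ∀ j : ℕ, ∀ x ∈ U, h ^ j * x * (h ^ j)⁻¹ ∈ U := by
    intro j
    induction j with
    | zero => intro x hx; simpa using hx
    | succ j ih =>
      intro x hx
      have := ih _ (hn x hx)
      have e : h ^ (j + 1) * x * (h ^ (j + 1))⁻¹ = h ^ j * (h * x * h⁻¹) * (h ^ j)⁻¹ := by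
        rw [pow_succ]
        group
      rw [e]
      exact this
  induction k with
  | zero => exact ⟨1, U.one_mem, by simp⟩
  | succ k ih =>
    obtain ⟨u', hu', e⟩ := ih
    refine ⟨u' * (h ^ k * u * (h ^ k)⁻¹), U.mul_mem hu' (hn' k u hu), ?_⟩
    rw [pow_succ, e, pow_succ]
    group

variable {K : Type*} [Field K] [CharP K 3] {φ : K →+* K} {e : ℕ} (hφ : ∀ x, φ x = x ^ e)
  (h3 : ∀ x : K, φ (φ x) ^ 3 = x) [Fintype K] {m : ℕ}
  (hK : Fintype.card K = 3 ^ (2 * m + 1)) (he : e = 3 ^ m) (S : Sig K φ)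

theorem eta_pow {s : K} (hs : s ≠ 0) (k : ℕ) : eta φ s ^ k = eta φ (s ^ k) := by
  induction k with
  | zero => rw [pow_zero, pow_zero, eta_one]
  | succ k ih => rw [pow_succ, pow_succ, ih, eta_mul φ (pow_ne_zero k hs) hs]

include S hφ h3 hK he in
/-- `B¹` has no element of prime order `p ∤ 3(q-1)`. -/
theorem B_no_p {p : ℕ} (hp : p.Prime) (hp3 : p ≠ 3) (hpq : ¬ p ∣ 3 ^ (2 * m + 1) - 1)
    {b : GL chevG2.Idx K} (hbB : b ∈ chevG2.borelSubgroup K) (hbG : b ∈ twistedG2 K e)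
    (hbp : b ^ p = 1) : b = 1 := by
  rcases Gam_cases S hφ h3 hK he hbG with ⟨t, u, v, s, hs, rfl⟩ | ⟨t, u, v, s, t', u', v', hs, rfl⟩
  · have haH : eta φ s ∈ chevG2.diagonalSubgroup K := eta_mem_H φ hs
    obtain ⟨u', hu', e1⟩ := pow_UH (chevG2.posUnipotent K) (reeU_mem (φ := φ) t u v)
      (fun x hx => (Subgroup.mem_set_normalizer_iff.mp
        (Pos.diag_le_normalizer_pos CAll.cfG2.af haH) _).mp hx) p
    rw [hbp, eta_pow hs] at e1
    have h1 := UH_uniq hu' (Subgroup.one_mem _) (eta_mem_H φ (pow_ne_zero p hs))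
      (Subgroup.one_mem _) (e1.symm.trans (one_mul 1).symm)
    have hsp : s ^ p = 1 := eta_inj φ (pow_ne_zero p hs) one_ne_zero (h1.2.trans (eta_one φ).symm)
    have hsq : s ^ (3 ^ (2 * m + 1) - 1) = 1 := by
      rw [← hK]
      exact FiniteField.pow_card_sub_one_eq_one s hs
    have hs1 : s = 1 := by
      have := pow_gcd_eq_one.mpr ⟨hsp, hsq⟩
      rwa [Nat.Coprime.gcd_eq_one ((Nat.Prime.coprime_iff_not_dvd hp).mpr hpq), pow_one] at this
    subst hs1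
    rw [eta_one, mul_one] at hbp ⊢
    have hU3 : reeU φ t u v ^ (Fintype.card K ^ 3) = 1 := by
      have hcard := card_U_Gam S hφ h3 (K := K) (e := e)
      have hx : (⟨reeU φ t u v, reeU_mem t u v, reeU_mem_Gam hφ t u v⟩ :
          ↥(chevG2.posUnipotent K ⊓ twistedG2 K e)) ^
          Nat.card ↥(chevG2.posUnipotent K ⊓ twistedG2 K e) = 1 := pow_card_eq_one'
      rw [hcard] at hx
      exact congrArg Subtype.val hx
    have h2 := pow_gcd_eq_one.mpr ⟨hbp, hU3⟩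
    rw [hK, ← pow_mul, Nat.Coprime.gcd_eq_one
      (Nat.Coprime.pow_right _ ((Nat.coprime_primes hp Nat.prime_three).mpr hp3)), pow_one] at h2
    exact h2
  · exfalso
    apply n0_not_mem_B (K := K)
    have e1 : n0 K = (reeU φ t u v)⁻¹ * (reeU φ t u v * n0 K * eta φ s * reeU φ t' u' v') *
        (reeU φ t' u' v')⁻¹ * (eta φ s)⁻¹ := by group
    rw [e1]
    exact Subgroup.mul_mem _ (Subgroup.mul_mem _ (Subgroup.mul_mem _
      (Subgroup.inv_mem _ (U_le_B (reeU_mem t u v))) hbB)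
      (Subgroup.inv_mem _ (U_le_B (reeU_mem t' u' v'))))
      (Subgroup.inv_mem _ (H_le_B (eta_mem_H φ hs)))

include S hφ h3 hK he in
/-- The normaliser of `U¹` in the Ree group lies in `B`. -/
theorem norm_U_le_B {g : GL chevG2.Idx K} (hg : g ∈ twistedG2 K e)
    (hn : ∀ u ∈ chevG2.posUnipotent K ⊓ twistedG2 K e, g * u * g⁻¹ ∈ chevG2.posUnipotent K) :
    g ∈ chevG2.borelSubgroup K := by
  by_contra hgB
  obtain ⟨u, hu, b, hb, rfl⟩ := cell_cases S hφ h3 hK he hg hgB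
  have hy0 : reeU φ (0 : K) 1 0 ∈ chevG2.posUnipotent K := reeU_mem 0 1 0
  have hyU : b⁻¹ * reeU φ (0 : K) 1 0 * b ∈ chevG2.posUnipotent K := by
    have := B_conj_U (Subgroup.inv_mem _ hb.1) hy0
    rwa [inv_inv] at this
  have hyG : b⁻¹ * reeU φ (0 : K) 1 0 * b ∈ twistedG2 K e :=
    Subgroup.mul_mem _ (Subgroup.mul_mem _ (Subgroup.inv_mem _ hb.2) (reeU_mem_Gam hφ 0 1 0)) hb.2
  have h1 := hn _ ⟨hyU, hyG⟩
  have h2 : n0 K * reeU φ (0 : K) 1 0 * (n0 K)⁻¹ ∈ chevG2.posUnipotent K := by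
    have e1 : n0 K * reeU φ (0 : K) 1 0 * (n0 K)⁻¹ =
        u⁻¹ * (u * n0 K * b * (b⁻¹ * reeU φ (0 : K) 1 0 * b) * (u * n0 K * b)⁻¹) * u := by group
    rw [e1]
    exact Subgroup.mul_mem _ (Subgroup.mul_mem _ (Subgroup.inv_mem _ hu.1) h1) hu.1
  have h3' := U_n_U h2 (by
    have e2 : (n0 K)⁻¹ * (n0 K * reeU φ (0 : K) 1 0 * (n0 K)⁻¹) * n0 K = reeU φ (0 : K) 1 0 := by
      group
    rw [e2]
    exact hy0)
  have h4 : reeU φ (0 : K) 1 0 = 1 := by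
    calc reeU φ (0 : K) 1 0 = (n0 K)⁻¹ * (n0 K * reeU φ (0 : K) 1 0 * (n0 K)⁻¹) * n0 K := by group
      _ = 1 := by rw [h3']; group
  exact reeU_ne_one (φ := φ) (one_ne_zero (α := K)) h4

end Cfsg.Agent.Lib.Helper18.Ree29
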