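import Mathlib
import Cfsg.Agent.Lib.Helper18.Ree29
import Cfsg.Agent.Lib.Helper5.SL2Card

set_option autoImplicit false
set_option linter.unusedSimpArgs false
set_option linter.unusedSectionVars false
set_option linter.unusedVariables false

/-!
# The small Ree groups: the involution centraliser data, one class of involutions
-/

namespace Cfsg.Agent.Lib.Helper18.Ree30

open Cfsg Cfsg.Lie Cfsg.Agent.Lib.Helper18 Cfsg.Agent.Lib.Helper18.Ree1
  Cfsg.Agent.Lib.Helper18.Ree2 Cfsg.Agent.Lib.Helper18.Ree3 Cfsg.Agent.Lib.Helper18.Ree4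
  Cfsg.Agent.Lib.Helper18.Ree5 Cfsg.Agent.Lib.Helper18.Ree6 Cfsg.Agent.Lib.Helper18.Ree7
  Cfsg.Agent.Lib.Helper18.Ree10 Cfsg.Agent.Lib.Helper18.Ree11 Cfsg.Agent.Lib.Helper18.Ree12
  Cfsg.Agent.Lib.Helper18.Ree13 Cfsg.Agent.Lib.Helper18.Ree14 Cfsg.Agent.Lib.Helper18.Ree17
  Cfsg.Agent.Lib.Helper18.Ree22 Cfsg.Agent.Lib.Helper18.Ree23 Cfsg.Agent.Lib.Helper18.Ree24
  Cfsg.Agent.Lib.Helper18.Ree26
  Cfsg.Agent.Lib.Helper19.SL2Hom

variable {K : Type*} [Field K] [CharP K 3] {φ : K →+* K} {e : ℕ} (hφ : ∀ x, φ x = x ^ e)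
  (h3 : ∀ x : K, φ (φ x) ^ 3 = x) [Fintype K] {m : ℕ}
  (hK : Fintype.card K = 3 ^ (2 * m + 1)) (he : e = 3 ^ m) (S : Sig K φ)

include hφ h3 hK he S in
/-- The involution `a` of `H¹`, the homomorphism `ψ : SL₂(q) → C(a)`, and the conjugacy of all
involutions of the Ree group (`m ≥ 1`). -/
theorem ree_facts (hm : 1 ≤ m) :
    ∃ (ψ : Matrix.SpecialLinearGroup (Fin 2) K →* ↥(twistedG2 K e)) (a : ↥(twistedG2 K e)),
      (a : GL chevG2.Idx K) = eta φ (-1) ∧ a * a = 1 ∧ a ≠ 1 ∧ a ∉ ψ.range ∧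
      (∀ g, a * ψ g = ψ g * a) ∧
      (∀ c, a * c = c * a → c ∈ ψ.range ∨ a * c ∈ ψ.range) ∧
      (∀ g, ψ g = 1 ↔ g ∈ Subgroup.center (Matrix.SpecialLinearGroup (Fin 2) K)) ∧
      (∀ t : ↥(twistedG2 K e), t * t = 1 → t ≠ 1 → ∃ g, t = g * a * g⁻¹) := by
  subst he
  have hm1 : (-1 : K) ≠ 0 := neg_ne_zero.mpr one_ne_zero
  have hperf : commutator ↥(twistedG2 K (3 ^ m)) = ⊤ := Cfsg.Agent.S1116.result hK hm
  have key : ∀ (ψ : Matrix.SpecialLinearGroup (Fin 2) K →* ↥(twistedG2 K (3 ^ m)))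
      (a : ↥(twistedG2 K (3 ^ m))), ψ = psiG hφ → (a : GL chevG2.Idx K) = eta φ (-1) →
      a * a = 1 ∧ a ≠ 1 ∧ a ∉ ψ.range ∧
      (∀ g, a * ψ g = ψ g * a) ∧
      (∀ c, a * c = c * a → c ∈ ψ.range ∨ a * c ∈ ψ.range) ∧
      (∀ g, ψ g = 1 ↔ g ∈ Subgroup.center (Matrix.SpecialLinearGroup (Fin 2) K)) ∧
      (∀ t : ↥(twistedG2 K (3 ^ m)), t * t = 1 → t ≠ 1 → ∃ g, t = g * a * g⁻¹) := by
    intro ψ a hψ haval
    have hψval : ∀ g, ((ψ g : ↥(twistedG2 K (3 ^ m))) : GL chevG2.Idx K) = psi φ g := by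
      intro g
      rw [hψ]
      rfl
    have hcen : ∀ {g : Matrix.SpecialLinearGroup (Fin 2) K},
        g ∈ Subgroup.center (Matrix.SpecialLinearGroup (Fin 2) K) → ψ g = 1 := by
      intro g hg
      rw [hψ]
      exact psiG_center hφ hg
    have hone : ∀ {g : Matrix.SpecialLinearGroup (Fin 2) K}, ψ g = 1 →
        g ∈ Subgroup.center (Matrix.SpecialLinearGroup (Fin 2) K) := by
      intro g hg
      rw [hψ] at hg
      exact psiG_eq_one hφ hg
    have hzc : ∀ g : Matrix.SpecialLinearGroup (Fin 2) K, ψ (zc * g) = ψ g := by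
      intro g
      rw [map_mul, hcen zc_center, one_mul]
    have ha : a * a = 1 := by
      apply Subtype.ext
      show (a : GL chevG2.Idx K) * (a : GL chevG2.Idx K) = 1
      rw [haval]
      exact a0_sq
    have hb : ψ d1 * ψ d1 = 1 := by rw [← map_mul]; exact hcen d1_sq
    have hc : ψ d2 * ψ d2 = 1 := by rw [← map_mul]; exact hcen d2_sq
    have hLa : ∀ g ∈ ψ.range, a * g = g * a := by
      rintro _ ⟨g, rfl⟩
      apply Subtype.ext
      show (a : GL chevG2.Idx K) * ((ψ g : ↥(twistedG2 K (3 ^ m))) : GL chevG2.Idx K) =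
        ((ψ g : ↥(twistedG2 K (3 ^ m))) : GL chevG2.Idx K) * (a : GL chevG2.Idx K)
      rw [haval, hψval]
      exact (psi_mem hφ g).2
    have hbc : ψ d1 * ψ d2 = ψ d2 * ψ d1 := by
      have h1 := hcen (d12_comm (K := K))
      rw [map_mul, map_inv, inv_mul_eq_one] at h1
      rw [← map_mul, ← map_mul, h1]
    have hL : ∀ g, a * g = g * a → g ∈ ψ.range ∨ a * g ∈ ψ.range := by
      intro g hg
      have hcomm : eta φ (-1 : K) * (g : GL chevG2.Idx K) =
          (g : GL chevG2.Idx K) * eta φ (-1) := by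
        rw [← haval]
        exact congrArg Subtype.val hg
      obtain ⟨g', h | h⟩ := surj hφ h3 hK rfl S g.2 hcomm
      · refine Or.inl ⟨g', Subtype.ext ?_⟩
        rw [hψval, h]
      · refine Or.inr ⟨g', Subtype.ext ?_⟩
        rw [hψval]
        show psi φ g' = (a : GL chevG2.Idx K) * (g : GL chevG2.Idx K)
        rw [haval, h, ← mul_assoc, a0_sq, one_mul]
    have haL : a ∉ ψ.range := by
      rintro ⟨g, hg⟩
      apply psi_ne_inv (φ := φ) g
      rw [← hψval, hg, haval]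
    have hb1 : ψ d1 ≠ 1 := by
      intro h
      apply psi_not_B φ d1 d1_c
      rw [← hψval, h]
      exact Subgroup.one_mem _
    have hbcne : ψ d1 ≠ ψ d2 := by
      intro h
      apply psi_not_B φ (d1 * d2) d12_c
      have e : ψ (d1 * d2) = 1 := by rw [map_mul, ← h]; exact hb
      rw [← hψval, e]
      exact Subgroup.one_mem _
    have hCE : ∀ g ∈ ψ.range, g * ψ d1 = ψ d1 * g → g * ψ d2 = ψ d2 * g →
        g = 1 ∨ g = ψ d1 ∨ g = ψ d2 ∨ g = ψ d1 * ψ d2 := by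
      rintro _ ⟨h, rfl⟩ h1 h2
      have c1 : h * d1 * h⁻¹ * d1⁻¹ ∈ Subgroup.center (Matrix.SpecialLinearGroup (Fin 2) K) := by
        apply hone
        rw [map_mul, map_mul, map_mul, map_inv, map_inv, h1, mul_inv_cancel_right, mul_inv_cancel]
      have c2 : h * d2 * h⁻¹ * d2⁻¹ ∈ Subgroup.center (Matrix.SpecialLinearGroup (Fin 2) K) := by
        apply hone
        rw [map_mul, map_mul, map_mul, map_inv, map_inv, h2, mul_inv_cancel_right, mul_inv_cancel]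
      obtain ⟨M₀, hM, hc⟩ := sl2_cases h c1 c2
      have e : ψ h = ψ M₀ := by
        have := hcen hc
        rw [map_mul, map_inv, mul_inv_eq_one] at this
        exact this
      rw [e]
      rcases hM with rfl | rfl | rfl | rfl
      · left; exact map_one ψ
      · right; left; rfl
      · right; right; left; rfl
      · right; right; right; exact map_mul ψ d1 d2
    have htb : ψ (upper 1) * ψ d1 * (ψ (upper 1))⁻¹ = ψ d2 := by
      have e := congrArg ψ (up_d1 (K := K))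
      rw [map_mul, hzc, map_mul] at e
      rw [e, mul_inv_cancel_right]
    have htc : ψ (upper 1) * ψ d2 * (ψ (upper 1))⁻¹ = ψ d1 * ψ d2 := by
      have e := congrArg ψ (up_d2 (K := K))
      rw [map_mul, hzc, map_mul, map_mul] at e
      rw [e, mul_inv_cancel_right]
    have ht3 : ψ (upper 1) * ψ (upper 1) * ψ (upper 1) = 1 := by
      rw [← map_mul, ← map_mul, up_cube, map_one]
    have hab : a * ψ d1 = ψ d1 * a := hLa _ ⟨d1, rfl⟩
    have hac : a * ψ d2 = ψ d2 * a := hLa _ ⟨d2, rfl⟩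
    obtain ⟨P₀, haP, hbP, hcP⟩ := Ree25.exists_sylow ha hb hc hab hac hbc
    let D : Ree25.Cfg ↥(twistedG2 K (3 ^ m)) :=
      { a := a, b := ψ d1, c := ψ d2, t := ψ (upper 1), L := ψ.range, P := P₀
        ha := ha, hb := hb, hc := hc, hab := hab, hac := hac, hbc := hbc
        hb1 := hb1, hbcne := hbcne, hL := hL, hLa := hLa, haL := haL
        hbL := ⟨d1, rfl⟩, hcL := ⟨d2, rfl⟩, hCE := hCE
        htL := ⟨upper 1, rfl⟩, htb := htb, htc := htc, ht3 := ht3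
        haP := haP, hbP := hbP, hcP := hcP
        hP2 := (sylow2 hφ h3 hK rfl S P₀).2, hP8 := (sylow2 hφ h3 hK rfl S P₀).1 }
    have ha1 : a ≠ 1 := D.a_ne_one
    -- every involution is conjugate to `b`
    have hconjb : ∀ x : ↥(twistedG2 K (3 ^ m)), x * x = 1 → x ≠ 1 →
        ∃ g, x = g * ψ d1 * g⁻¹ := by
      intro x hx hx1
      obtain ⟨g₀, h | h | h⟩ := D.fusion2 hperf hx hx1
      · refine ⟨g₀, ?_⟩
        have h' : g₀⁻¹ * x * g₀ = ψ d1 := h
        rw [← h']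
        group
      · refine ⟨g₀ * ψ (upper 1), ?_⟩
        have h' : g₀⁻¹ * x * g₀ = ψ d2 := h
        have e1 : x = g₀ * ψ d2 * g₀⁻¹ := by rw [← h']; group
        rw [e1, ← htb]
        group
      · refine ⟨g₀ * ψ (upper 1) * ψ (upper 1), ?_⟩
        have h' : g₀⁻¹ * x * g₀ = ψ d1 * ψ d2 := h
        have e1 : x = g₀ * (ψ d1 * ψ d2) * g₀⁻¹ := by rw [← h']; group
        rw [e1, ← htc, ← htb]
        group
    refine ⟨ha, ha1, haL, fun g => hLa _ ⟨g, rfl⟩, hL, fun g => ⟨hone, hcen⟩, ?_⟩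
    intro t ht ht1
    obtain ⟨g, hg⟩ := hconjb t ht ht1
    obtain ⟨g₁, hg₁⟩ := hconjb a ha ha1
    refine ⟨g * g₁⁻¹, ?_⟩
    rw [hg, hg₁]
    group
  exact ⟨psiG hφ, ⟨eta φ (-1), eta_mem_Gam hφ h3 hK rfl hm1⟩, rfl,
    key (psiG hφ) ⟨eta φ (-1), eta_mem_Gam hφ h3 hK rfl hm1⟩ rfl rfl⟩

include hφ h3 hK he S in
/-- The order of the centraliser of the involution of `H¹`. -/
theorem card_cent (a : ↥(twistedG2 K e)) (haval : (a : GL chevG2.Idx K) = eta φ (-1))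
    (ha1 : a ≠ 1) (ha2 : a * a = 1) :
    Nat.card ↥(Subgroup.centralizer ({a} : Set ↥(twistedG2 K e))) =
      3 ^ (2 * m + 1) * ((3 ^ (2 * m + 1)) ^ 2 - 1) := by
  have hm1 : (-1 : K) ≠ 0 := neg_ne_zero.mpr one_ne_zero
  have haH : (a : GL chevG2.Idx K) ∈ chevG2.diagonalSubgroup K := by
    rw [haval]
    exact eta_mem_H φ hm1
  obtain ⟨f⟩ := centralizer_iso hφ h3 hK he S a haH ha1 ha2
  rw [Nat.card_congr f.toEquiv, Nat.card_prod]
  have h2 : Nat.card (Multiplicative (ZMod 2)) = 2 := by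
    rw [Nat.card_congr Multiplicative.toAdd, Nat.card_zmod]
  have hP := Cfsg.Agent.Lib.Helper5.SL2Card.card_PSL_two (F := K) hK
  have hgcd : Nat.gcd 2 (3 ^ (2 * m + 1) - 1) = 2 := by
    apply Nat.gcd_eq_left
    have hodd : Odd (3 ^ (2 * m + 1)) := Odd.pow (by decide)
    obtain ⟨k, hk⟩ := hodd
    exact ⟨k, by omega⟩
  rw [hgcd] at hP
  rw [h2, mul_comm, hP]

include hφ h3 hK he S in
/-- Elements of order dividing 4 have square one. -/
theorem sq_of_pow_four (x : ↥(twistedG2 K e)) (hx : x ^ 4 = 1) : x * x = 1 := by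
  haveI : Fact (Nat.Prime 2) := ⟨Nat.prime_two⟩
  have hP : IsPGroup 2 ↥(Subgroup.zpowers x) := by
    rintro ⟨y, hy⟩
    refine ⟨2, Subtype.ext ?_⟩
    obtain ⟨k, rfl⟩ := Subgroup.mem_zpowers_iff.mp hy
    show (x ^ k) ^ 2 ^ 2 = 1
    rw [← zpow_natCast, ← zpow_mul, mul_comm, zpow_mul, zpow_natCast]
    norm_num
    rw [hx, one_zpow]
  obtain ⟨P, hP⟩ := hP.exists_le_sylow
  exact (sylow2 hφ h3 hK he S P).2 x (hP (Subgroup.mem_zpowers x))

end Cfsg.Agent.Lib.Helper18.Ree30
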