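import Mathlib
import Cfsg.Agent.Lib.Helper18.Ree30
import Cfsg.Agent.Lib.Helper18.R59Stmt
import Cfsg.Agent.Lib.Helper18.R59Stmt2
import Cfsg.Agent.Lib.Helper23.R59ABS
import Cfsg.Agent.Lib.Helper30.R59SLC
import Cfsg.Agent.Lib.Helper2.R59SLI
import Cfsg.Agent.Lib.Helper33.R59SYLC
import Cfsg.Agent.Lib.Helper33.R59CLOSE
import Cfsg.Agent.Lib.Helper33.R59TRANS
import Cfsg.Agent.Lib.Helper49.R59R1ABS
import Cfsg.Agent.Lib.Helper49.R59FIN
import Cfsg.Agent.Lib.Helper2.R59NO3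
import Cfsg.Agent.Lib.Helper2.R59AR1
import Cfsg.Agent.Lib.Helper2.R59AR2

set_option autoImplicit false
set_option linter.unusedSimpArgs false
set_option linter.unusedSectionVars false
set_option linter.unusedVariables false

/-!
# The small Ree groups: centralisers of the cyclic subgroups of orders `(q-1)/2` and `(q+1)/4`
-/

namespace Cfsg.Agent.Lib.Helper18.Ree31

open Cfsg Cfsg.Lie Cfsg.Agent.Lib.Helper18 Cfsg.Agent.Lib.Helper18.Ree1
  Cfsg.Agent.Lib.Helper18.Ree2 Cfsg.Agent.Lib.Helper18.Ree3 Cfsg.Agent.Lib.Helper18.Ree4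
  Cfsg.Agent.Lib.Helper18.Ree5 Cfsg.Agent.Lib.Helper18.Ree6 Cfsg.Agent.Lib.Helper18.Ree7
  Cfsg.Agent.Lib.Helper18.Ree10 Cfsg.Agent.Lib.Helper18.Ree11 Cfsg.Agent.Lib.Helper18.Ree12
  Cfsg.Agent.Lib.Helper18.Ree13 Cfsg.Agent.Lib.Helper18.Ree14 Cfsg.Agent.Lib.Helper18.Ree17
  Cfsg.Agent.Lib.Helper18.Ree22 Cfsg.Agent.Lib.Helper18.Ree23 Cfsg.Agent.Lib.Helper18.Ree24
  Cfsg.Agent.Lib.Helper18.Ree26 Cfsg.Agent.Lib.Helper18.Ree28 Cfsg.Agent.Lib.Helper18.Ree29
  Cfsg.Agent.Lib.Helper18.Ree30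
  Cfsg.Agent.Lib.Helper19.SL2Hom

/-- A non-trivial subgroup of a finite group contains an element of prime order. -/
theorem exists_prime_elt {G : Type*} [Group G] [Finite G] (A : Subgroup G) (hA : A ≠ ⊥) :
    ∃ a ∈ A, ∃ p : ℕ, p.Prime ∧ orderOf a = p := by
  obtain ⟨⟨x, hxA⟩, hx1⟩ := Subgroup.ne_bot_iff_exists_ne_one.mp hA
  have hx1' : x ≠ 1 := fun h => hx1 (Subtype.ext h)
  have hn0 : orderOf x ≠ 0 := (orderOf_pos x).ne'
  have hn1 : orderOf x ≠ 1 := fun h => hx1' (orderOf_eq_one_iff.mp h)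
  refine ⟨x ^ (orderOf x / (orderOf x).minFac), A.pow_mem hxA _, (orderOf x).minFac,
    Nat.minFac_prime hn1, ?_⟩
  exact orderOf_pow_orderOf_div hn0 (Nat.minFac_dvd _)

/-- Conjugating a commutation relation. -/
theorem conj_comm {G : Type*} [Group G] {g x y : G} (h : x * y = y * x) :
    (g * x * g⁻¹) * (g * y * g⁻¹) = (g * y * g⁻¹) * (g * x * g⁻¹) := by
  calc (g * x * g⁻¹) * (g * y * g⁻¹) = g * (x * y) * g⁻¹ := by group
    _ = g * (y * x) * g⁻¹ := by rw [h]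
    _ = (g * y * g⁻¹) * (g * x * g⁻¹) := by group

theorem conj_comm' {G : Type*} [Group G] {g x y : G}
    (h : (g * x * g⁻¹) * (g * y * g⁻¹) = (g * y * g⁻¹) * (g * x * g⁻¹)) : x * y = y * x := by
  have := conj_comm (g := g⁻¹) h
  simpa [mul_assoc] using this

variable {K : Type*} [Field K] [CharP K 3] {φ : K →+* K} {e : ℕ} (hφ : ∀ x, φ x = x ^ e)
  (h3 : ∀ x : K, φ (φ x) ^ 3 = x) [Fintype K] {m : ℕ}
  (hK : Fintype.card K = 3 ^ (2 * m + 1)) (he : e = 3 ^ m) (S : Sig K φ)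

include hφ h3 hK he S in
/-- The centraliser of an element of prime order dividing `(q-1)/2`. -/
theorem key1 (a : ↥(twistedG2 K e)) (p : ℕ) (hp : p.Prime) (ha : orderOf a = p)
    (hpd : p ∣ (3 ^ (2 * m + 1) - 1) / 2) :
    (∀ x y : ↥(twistedG2 K e), x * a = a * x → y * a = a * y → x * y = y * x) ∧
    IsCyclic ↥(Subgroup.centralizer ({a} : Set ↥(twistedG2 K e))) ∧
    Nat.card ↥(Subgroup.centralizer ({a} : Set ↥(twistedG2 K e))) = 3 ^ (2 * m + 1) - 1 := by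
  obtain ⟨hp2, hfac⟩ := Cfsg.Agent.Lib.Helper2.R59AR1.main m p hp hpd
  have hcardH : Nat.card ↥((chevG2.diagonalSubgroup K ⊓ twistedG2 K e).subgroupOf
      (twistedG2 K e)) = 3 ^ (2 * m + 1) - 1 := by
    rw [Nat.card_congr (Subgroup.subgroupOfEquivOfLe
      (inf_le_right : chevG2.diagonalSubgroup K ⊓ twistedG2 K e ≤ twistedG2 K e)).toEquiv,
      card_H_Gam S hφ h3 hK he, hK]
  have hcardG : Nat.card ↥(twistedG2 K e) =
      (3 ^ (2 * m + 1)) ^ 3 * (3 ^ (2 * m + 1) - 1) * ((3 ^ (2 * m + 1)) ^ 3 + 1) := by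
    rw [card_Gam S hφ h3 hK he, hK]
  have mH : ∀ g : ↥(twistedG2 K e),
      g ∈ (chevG2.diagonalSubgroup K ⊓ twistedG2 K e).subgroupOf (twistedG2 K e) ↔
        (g : GL chevG2.Idx K) ∈ chevG2.diagonalSubgroup K :=
    fun g => ⟨fun h => (Subgroup.mem_subgroupOf.mp h).1,
      fun h => Subgroup.mem_subgroupOf.mpr ⟨h, g.2⟩⟩
  obtain ⟨g, hg⟩ := Cfsg.Agent.Lib.Helper33.R59SYLC.main ↥(twistedG2 K e)
    ((chevG2.diagonalSubgroup K ⊓ twistedG2 K e).subgroupOf (twistedG2 K e)) p hp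
    (by rw [hcardH, hcardG]; exact hfac) a ha
  generalize hH1 : (chevG2.diagonalSubgroup K ⊓ twistedG2 K e).subgroupOf (twistedG2 K e) = H1
    at hg hcardH mH
  -- `h = g a g⁻¹` has order `p ≠ 2`
  have hh2 : g * a * g⁻¹ * (g * a * g⁻¹) ≠ 1 := by
    intro h
    have h1 : a * a = 1 := by
      have : g * (a * a) * g⁻¹ = 1 := by rw [← h]; group
      calc a * a = g⁻¹ * (g * (a * a) * g⁻¹) * g := by group
        _ = 1 := by rw [this]; group
    have h2 : orderOf a ∣ 2 := orderOf_dvd_of_pow_eq_one (by rw [pow_two]; exact h1)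
    rw [ha] at h2
    exact hp2 ((Nat.prime_dvd_prime_iff_eq hp Nat.prime_two).mp h2)
  -- the centraliser of `h` is `H¹`
  have hcentH : ∀ x : ↥(twistedG2 K e), (g * a * g⁻¹) * x = x * (g * a * g⁻¹) → x ∈ H1 := by
    intro x hx
    rw [mH]
    exact cent_H hφ h3 hK he S ⟨(mH _).mp hg, (g * a * g⁻¹).2⟩
      (fun h => hh2 (Subtype.ext h)) x.2 (congrArg Subtype.val hx)
  have hHcomm : ∀ x ∈ H1, ∀ y ∈ H1, x * y = y * x := by
    intro x hx y hy
    obtain ⟨s, hs, e1⟩ := (mem_H_Gam S hφ h3 hK he _).mp ⟨(mH x).mp hx, x.2⟩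
    obtain ⟨s', hs', e2⟩ := (mem_H_Gam S hφ h3 hK he _).mp ⟨(mH y).mp hy, y.2⟩
    apply Subtype.ext
    show (x : GL chevG2.Idx K) * (y : GL chevG2.Idx K) =
      (y : GL chevG2.Idx K) * (x : GL chevG2.Idx K)
    rw [e1, e2]
    exact eta_comm s s' hs hs'
  have hiff : ∀ x : ↥(twistedG2 K e), x * a = a * x ↔ g * x * g⁻¹ ∈ H1 := by
    intro x
    constructor
    · intro hx
      exact hcentH _ (conj_comm hx.symm)
    · intro hx
      exact conj_comm' (hHcomm _ hx _ hg)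
  have hab : ∀ x y : ↥(twistedG2 K e), x * a = a * x → y * a = a * y → x * y = y * x :=
    fun x y hx hy => conj_comm' (hHcomm _ ((hiff x).mp hx) _ ((hiff y).mp hy))
  have hEq : Subgroup.centralizer ({a} : Set ↥(twistedG2 K e)) =
      H1.map (MulAut.conj g⁻¹).toMonoidHom := by
    ext x
    rw [Subgroup.mem_centralizer_singleton_iff, hiff, Subgroup.mem_map]
    constructor
    · intro hx
      refine ⟨g * x * g⁻¹, hx, ?_⟩
      show MulAut.conj g⁻¹ (g * x * g⁻¹) = x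
      rw [MulAut.conj_apply]
      group
    · rintro ⟨y, hy, rfl⟩
      have e1 : g * (MulAut.conj g⁻¹).toMonoidHom y * g⁻¹ = y := by
        show g * (MulAut.conj g⁻¹ y) * g⁻¹ = y
        rw [MulAut.conj_apply]
        group
      rw [e1]
      exact hy
  have hcyc1 : IsCyclic ↥H1 := by
    rw [← hH1]
    haveI := cyclic_H_Gam S hφ h3 hK he
    exact isCyclic_of_surjective (Subgroup.subgroupOfEquivOfLe
      (inf_le_right : chevG2.diagonalSubgroup K ⊓ twistedG2 K e ≤ twistedG2 K e)).symm.toMonoidHom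
      (Subgroup.subgroupOfEquivOfLe
      (inf_le_right : chevG2.diagonalSubgroup K ⊓ twistedG2 K e ≤ twistedG2 K e)).symm.surjective
  refine ⟨hab, ?_, ?_⟩
  · rw [hEq]
    exact isCyclic_of_surjective ((MulAut.conj g⁻¹).toMonoidHom.subgroupMap H1)
      (MonoidHom.subgroupMap_surjective _ _)
  · rw [hEq, Subgroup.card_map_of_injective (MulAut.conj g⁻¹).injective, hcardH]

include hφ h3 hK he S in
/-- The centraliser of an element of prime order dividing `(q+1)/4` (`m ≥ 1`). -/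
theorem key2 (hm : 1 ≤ m) (a : ↥(twistedG2 K e)) (p : ℕ) (hp : p.Prime) (ha : orderOf a = p)
    (hpd : p ∣ (3 ^ (2 * m + 1) + 1) / 4) :
    (∀ x y : ↥(twistedG2 K e), x * a = a * x → y * a = a * y → x * y = y * x) ∧
    Nat.card {x : ↥(twistedG2 K e) // x * a = a * x} = 3 ^ (2 * m + 1) + 1 := by
  obtain ⟨hp2, hp3, hpq, hfac⟩ := Cfsg.Agent.Lib.Helper2.R59AR2.main m p hp hpd
  obtain ⟨ψ, a₀, haval, ha2, ha1, hrange, hcomm, hsurj, hker, hconj⟩ :=
    ree_facts hφ h3 hK he S hm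
  have hcardG : Nat.card ↥(twistedG2 K e) =
      (3 ^ (2 * m + 1)) ^ 3 * (3 ^ (2 * m + 1) - 1) * ((3 ^ (2 * m + 1)) ^ 3 + 1) := by
    rw [card_Gam S hφ h3 hK he, hK]
  obtain ⟨g, hg⟩ := Cfsg.Agent.Lib.Helper33.R59SYLC.main ↥(twistedG2 K e)
    (Subgroup.centralizer ({a₀} : Set ↥(twistedG2 K e))) p hp
    (by rw [card_cent hφ h3 hK he S a₀ haval ha1 ha2, hcardG]; exact hfac) a ha
  rw [Subgroup.mem_centralizer_singleton_iff] at hg
  -- the Sylow 3-subgroup `U¹` and `B¹`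
  haveI : Fact (Nat.Prime 3) := ⟨Nat.prime_three⟩
  have hP1 : IsPGroup 3 ↥((chevG2.posUnipotent K ⊓ twistedG2 K e).subgroupOf (twistedG2 K e)) :=
    IsPGroup.of_card (Ree19.card_U1 S hφ h3 hK)
  have mP : ∀ g : ↥(twistedG2 K e),
      g ∈ ((hP1.toSylow (Ree19.not_dvd_index S hφ h3 hK he) : Sylow 3 ↥(twistedG2 K e)) :
        Subgroup ↥(twistedG2 K e)) ↔ (g : GL chevG2.Idx K) ∈ chevG2.posUnipotent K := by
    intro g
    rw [IsPGroup.toSylow_coe]
    exact ⟨fun h => (Subgroup.mem_subgroupOf.mp h).1,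
      fun h => Subgroup.mem_subgroupOf.mpr ⟨h, g.2⟩⟩
  have mB : ∀ g : ↥(twistedG2 K e),
      g ∈ (chevG2.borelSubgroup K ⊓ twistedG2 K e).subgroupOf (twistedG2 K e) ↔
        (g : GL chevG2.Idx K) ∈ chevG2.borelSubgroup K :=
    fun g => ⟨fun h => (Subgroup.mem_subgroupOf.mp h).1,
      fun h => Subgroup.mem_subgroupOf.mpr ⟨h, g.2⟩⟩
  have hno3 : ∀ x : ↥(twistedG2 K e), x * a = a * x → (∃ k : ℕ, x ^ 3 ^ k = 1) → x = 1 := by
    refine Cfsg.Agent.Lib.Helper2.R59NO3.main ↥(twistedG2 K e)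
      (hP1.toSylow (Ree19.not_dvd_index S hφ h3 hK he))
      ((chevG2.borelSubgroup K ⊓ twistedG2 K e).subgroupOf (twistedG2 K e)) p hp
      (Ree19.sylow3_ti S hφ h3 hK he) ?_ ?_ a ha
    · intro g hn
      rw [mB]
      refine norm_U_le_B hφ h3 hK he S g.2 (fun u hu => ?_)
      have := hn ⟨u, hu.2⟩ ((mP _).mpr hu.1)
      exact (mP _).mp this
    · intro b hb hbp
      apply Subtype.ext
      exact B_no_p hφ h3 hK he S hp hp3 hpq ((mB b).mp hb) b.2 (by
        have := congrArg Subtype.val hbp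
        simpa using this)
  -- the local structure at every involution commuting with `a`
  have hLoc : ∀ t : ↥(twistedG2 K e), t * t = 1 → t ≠ 1 → t * a = a * t →
      Cfsg.Agent.Lib.Helper18.R59Stmt.Loc a t (3 ^ (2 * m + 1) + 1) := by
    intro t ht ht1 hta
    obtain ⟨g', rfl⟩ := hconj t ht ht1
    have hord : orderOf (g'⁻¹ * a * g') = p := by
      have := (MulAut.conj g'⁻¹).orderOf_eq a
      rw [MulAut.conj_apply, inv_inv] at this
      rw [this, ha]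
    have hc' : g'⁻¹ * a * g' * a₀ = a₀ * (g'⁻¹ * a * g') := by
      have h1 := conj_comm (g := g'⁻¹) hta
      have e1 : g'⁻¹ * (g' * a₀ * g'⁻¹) * g'⁻¹⁻¹ = a₀ := by group
      rw [e1, inv_inv] at h1
      exact h1.symm
    have hL := Cfsg.Agent.Lib.Helper49.R59R1ABS.main Cfsg.Agent.Lib.Helper30.R59SLC.main
      Cfsg.Agent.Lib.Helper2.R59SLI.main K m hK ↥(twistedG2 K e) ψ a₀ ha2 hrange hcomm hsurj hker
      (g'⁻¹ * a * g') p hp hp2 hp3 hpq hord hc'
    exact Cfsg.Agent.Lib.Helper33.R59TRANS.main ↥(twistedG2 K e) a a₀ g' _ hL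
  refine Cfsg.Agent.Lib.Helper49.R59FIN.main Cfsg.Agent.Lib.Helper23.R59ABS.main
    ↥(twistedG2 K e) a (3 ^ (2 * m + 1) + 1) ⟨g⁻¹ * a₀ * g, ?_, ?_, ?_⟩ hLoc hno3
  · calc g⁻¹ * a₀ * g * (g⁻¹ * a₀ * g) = g⁻¹ * (a₀ * a₀) * g := by group
      _ = 1 := by rw [ha2]; group
  · intro h
    apply ha1
    calc a₀ = g * (g⁻¹ * a₀ * g) * g⁻¹ := by group
      _ = 1 := by rw [h]; group
  · have h1 := conj_comm (g := g⁻¹) hg
    have e1 : g⁻¹ * (g * a * g⁻¹) * g⁻¹⁻¹ = a := by group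
    rw [e1, inv_inv] at h1
    exact h1.symm

include hφ h3 hK he S in
/-- Centralisers of the cyclic subgroups of orders `(q-1)/2` and `(q+1)/4` of the Ree group. -/
theorem s2359 (hm : 1 ≤ m) (H : Subgroup ↥(twistedG2 K e)) (hH : IsCyclic H) :
    (Nat.card H = (3 ^ (2 * m + 1) - 1) / 2 →
      IsCyclic ↥(Subgroup.centralizer (H : Set ↥(twistedG2 K e))) ∧
        Nat.card ↥(Subgroup.centralizer (H : Set ↥(twistedG2 K e))) = 3 ^ (2 * m + 1) - 1 ∧
        ∀ A : Subgroup ↥(twistedG2 K e), A ≤ H → A ≠ ⊥ →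
          Subgroup.centralizer (A : Set ↥(twistedG2 K e)) =
            Subgroup.centralizer (H : Set ↥(twistedG2 K e))) ∧
    (Nat.card H = (3 ^ (2 * m + 1) + 1) / 4 →
      IsMulCommutative ↥(Subgroup.centralizer (H : Set ↥(twistedG2 K e))) ∧
        Nat.card ↥(Subgroup.centralizer (H : Set ↥(twistedG2 K e))) = 3 ^ (2 * m + 1) + 1 ∧
        (∀ x ∈ Subgroup.centralizer (H : Set ↥(twistedG2 K e)), orderOf x ≠ 4) ∧
        ∀ A : Subgroup ↥(twistedG2 K e), A ≤ H → A ≠ ⊥ →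
          Subgroup.centralizer (A : Set ↥(twistedG2 K e)) =
            Subgroup.centralizer (H : Set ↥(twistedG2 K e))) := by
  have hq27 : 27 ≤ 3 ^ (2 * m + 1) := by
    calc 27 = 3 ^ 3 := by norm_num
      _ ≤ 3 ^ (2 * m + 1) := Nat.pow_le_pow_right (by norm_num) (by omega)
  have hHcomm : ∀ x ∈ H, ∀ y ∈ H, x * y = y * x := by
    intro x hx y hy
    letI := IsCyclic.commGroup (α := ↥H)
    exact congrArg Subtype.val (mul_comm (⟨x, hx⟩ : ↥H) ⟨y, hy⟩)
  constructor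
  · intro hcard
    have hHne : H ≠ ⊥ := by
      intro h
      have h1 : Nat.card H = 1 := Subgroup.card_eq_one.mpr h
      omega
    have main : ∀ A : Subgroup ↥(twistedG2 K e), A ≤ H → A ≠ ⊥ →
        ∃ a : ↥(twistedG2 K e),
          Subgroup.centralizer (A : Set ↥(twistedG2 K e)) = Subgroup.centralizer {a} ∧
          Subgroup.centralizer (H : Set ↥(twistedG2 K e)) = Subgroup.centralizer {a} ∧
          IsCyclic ↥(Subgroup.centralizer ({a} : Set ↥(twistedG2 K e))) ∧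
          Nat.card ↥(Subgroup.centralizer ({a} : Set ↥(twistedG2 K e))) = 3 ^ (2 * m + 1) - 1 := by
      intro A hAH hA
      obtain ⟨a, haA, p, hp, hord⟩ := exists_prime_elt A hA
      have hpd : p ∣ (3 ^ (2 * m + 1) - 1) / 2 := by
        rw [← hcard, ← hord]
        exact H.orderOf_dvd_natCard (hAH haA)
      obtain ⟨hab, hcyc, hc⟩ := key1 hφ h3 hK he S a p hp hord hpd
      obtain ⟨e1, e2⟩ := Cfsg.Agent.Lib.Helper33.R59CLOSE.main ↥(twistedG2 K e) H A a hHcomm hAH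
        haA hab
      exact ⟨a, e1, e2, hcyc, hc⟩
    obtain ⟨a, -, e2, hcyc, hc⟩ := main H le_rfl hHne
    refine ⟨by rw [e2]; exact hcyc, by rw [e2]; exact hc, ?_⟩
    intro A hAH hA
    obtain ⟨a', e1', e2', -, -⟩ := main A hAH hA
    rw [e1', e2']
  · intro hcard
    have hHne : H ≠ ⊥ := by
      intro h
      have h1 : Nat.card H = 1 := Subgroup.card_eq_one.mpr h
      omega
    have main : ∀ A : Subgroup ↥(twistedG2 K e), A ≤ H → A ≠ ⊥ →
        ∃ a : ↥(twistedG2 K e),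
          Subgroup.centralizer (A : Set ↥(twistedG2 K e)) = Subgroup.centralizer {a} ∧
          Subgroup.centralizer (H : Set ↥(twistedG2 K e)) = Subgroup.centralizer {a} ∧
          (∀ x y : ↥(twistedG2 K e), x * a = a * x → y * a = a * y → x * y = y * x) ∧
          Nat.card {x : ↥(twistedG2 K e) // x * a = a * x} = 3 ^ (2 * m + 1) + 1 := by
      intro A hAH hA
      obtain ⟨a, haA, p, hp, hord⟩ := exists_prime_elt A hA
      have hpd : p ∣ (3 ^ (2 * m + 1) + 1) / 4 := by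
        rw [← hcard, ← hord]
        exact H.orderOf_dvd_natCard (hAH haA)
      obtain ⟨hab, hc⟩ := key2 hφ h3 hK he S hm a p hp hord hpd
      obtain ⟨e1, e2⟩ := Cfsg.Agent.Lib.Helper33.R59CLOSE.main ↥(twistedG2 K e) H A a hHcomm hAH
        haA hab
      exact ⟨a, e1, e2, hab, hc⟩
    obtain ⟨a, -, e2, hab, hc⟩ := main H le_rfl hHne
    refine ⟨?_, ?_, ?_, ?_⟩
    · rw [e2]
      exact ⟨⟨fun x y => Subtype.ext (hab x y (Subgroup.mem_centralizer_singleton_iff.mp x.2)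
        (Subgroup.mem_centralizer_singleton_iff.mp y.2))⟩⟩
    · rw [e2, ← hc]
      exact Nat.card_congr (Equiv.subtypeEquivRight
        (fun x => Subgroup.mem_centralizer_singleton_iff))
    · intro x _ h4
      have hx4 : x ^ 4 = 1 := by rw [← h4]; exact pow_orderOf_eq_one x
      have hx2 := sq_of_pow_four hφ h3 hK he S x hx4
      have h2 : orderOf x ∣ 2 := orderOf_dvd_of_pow_eq_one (by rw [pow_two]; exact hx2)
      rw [h4] at h2
      omega
    · intro A hAH hA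
      obtain ⟨a', e1', e2', -, -⟩ := main A hAH hA
      rw [e1', e2']

end Cfsg.Agent.Lib.Helper18.Ree31
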