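import Mathlib
import Cfsg.Agent.Lib.Helper18.Core
import Cfsg.Agent.Lib.Helper18.Perfect

set_option autoImplicit false
set_option linter.unusedSimpArgs false

namespace Cfsg.Agent.Lib.Helper18.Simple

open Cfsg Cfsg.Lie Cfsg.Agent.Lib.Helper18.Fast Cfsg.Agent.Lib.Helper18.Grade
  Cfsg.Agent.Lib.Helper18.Facts Cfsg.Agent.Lib.Helper18.AllRoots Cfsg.Agent.Lib.Helper18.Loop
  Cfsg.Agent.Lib.Helper18.Weyl Cfsg.Agent.Lib.Helper18.RootSys Cfsg.Agent.Lib.Helper18.Orbit
  Cfsg.Agent.Lib.Helper18.Units Cfsg.Agent.Lib.Helper18.Sub Cfsg.Agent.Lib.Helper18.Norm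
  Cfsg.Agent.Lib.Helper18.HAll Cfsg.Agent.Lib.Helper18.Torus Cfsg.Agent.Lib.Helper18.Pos
  Cfsg.Agent.Lib.Helper18.WGroup Cfsg.Agent.Lib.Helper18.BNChev Cfsg.Agent.Lib.Helper18.Mono
  Cfsg.Agent.Lib.Helper18.BNPairC Cfsg.Agent.Lib.Helper18.Long Cfsg.Agent.Lib.Helper18.Core
  Cfsg.Agent.Lib.Helper18.Perfect

variable {A : FData} {D : ChevalleyDatum} {F : Type*} [Field F] {X : WD} {m : ℕ → ℕ → ℤ}
  {w : ℕ → ℤ}

section

variable (hC : CFacts A D X m w)
  (hadd : ∀ r < D.nroots, ∀ t u : F, D.x F r t * D.x F r u = D.x F r (t + u))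
  (hinj : ∀ r < D.nroots, ∀ t : F, D.x F r t = 1 → t = 0)

include hC hinj in
/-- The commutator of the representatives of two adjacent simple reflections is not in `B`. -/
theorem comm_not_mem {par dep wit : ℕ → ℕ} (hI : IFacts A X m par dep wit) {i : ℕ}
    (hi : i < A.rank) (h0 : i ≠ 0) :
    ng hC.af F i * ng hC.af F (par i) * (ng hC.af F i)⁻¹ * (ng hC.af F (par i))⁻¹ ∉
      D.borelSubgroup F := by
  obtain ⟨hp, _, hw, hpos, hneg⟩ := hI.edge i hi h0
  intro hmem
  have e : nw hC.af F [(i, false), (par i, false), (i, true), (par i, true)] =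
      ng hC.af F i * ng hC.af F (par i) * (ng hC.af F i)⁻¹ * (ng hC.af F (par i))⁻¹ := by
    simp [nw, mul_assoc]
  have hlt : ∀ q ∈ [(i, false), (par i, false), (i, true), (par i, true)], q.1 < A.rank := by
    intro q hq
    simp only [List.mem_cons, List.not_mem_nil, or_false] at hq
    rcases hq with rfl | rfl | rfl | rfl <;> assumption
  obtain ⟨ε, hε, h⟩ := nw_conj (F := F) hC.af hC.wf _ hlt hw
  have h1 := h 1
  rw [e] at h1
  have hx : xg hC.af F (wit i) 1 ∈ D.borelSubgroup F := by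
    have hp' : D.IsPosRoot (wit i) := (isPos_iff_m hC hw).mpr hpos
    rw [xg_eq hC.af hp'.1]
    exact Subgroup.mem_sup_left (xU_mem_pos hC.af _ hp' _)
  have h2 := Subgroup.mul_mem _ (Subgroup.mul_mem _ hmem hx) (Subgroup.inv_mem _ hmem)
  rw [h1] at h2
  have hlt' : wperm X [i, par i, i, par i] (wit i) < A.n := by
    apply wperm_lt hC.wf _ hw
    intro j hj
    simp only [List.mem_cons, List.not_mem_nil, or_false] at hj
    rcases hj with rfl | rfl | rfl | rfl <;> assumption
  have h3 := neg_root_not_borel hC hinj hlt' ((isNeg_iff_m hC hlt').mpr hneg) h2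
  exact hε (by simpa using h3)

include hC in
/-- The `(B, N)`-pair of a Chevalley group with connected Dynkin diagram is irreducible. -/
theorem irreducible {par dep wit : ℕ → ℕ} (hI : IFacts A X m par dep wit) :
    (bnPair hC hadd hinj).Irreducible := by
  intro J hJ hJne hJc
  by_contra hcon
  push Not at hcon
  have hmemJ : ∀ i (hi : i < A.rank), (∃ s ∈ J, (s : GL D.Idx F) = ng hC.af F i) →
      (⟨ng hC.af F i, ng_mem_group hC hi⟩ : ↥(D.group F)) ∈ J := by
    rintro i hi ⟨s, hs, e⟩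
    have : s = ⟨ng hC.af F i, ng_mem_group hC hi⟩ := Subtype.ext e
    rwa [← this]
  have key : ∀ i < A.rank, i ≠ 0 → ((∃ s ∈ J, (s : GL D.Idx F) = ng hC.af F i) ↔
      (∃ s ∈ J, (s : GL D.Idx F) = ng hC.af F (par i))) := by
    intro i hi h0
    obtain ⟨hp, -⟩ := hI.edge i hi h0
    have hnot := comm_not_mem hC hinj hI hi h0
    by_contra hne
    by_cases h1 : ∃ s ∈ J, (s : GL D.Idx F) = ng hC.af F i
    · have h2 : ¬ ∃ s ∈ J, (s : GL D.Idx F) = ng hC.af F (par i) :=
        fun h => hne ⟨fun _ => h, fun _ => h1⟩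
      have hs := hmemJ i hi h1
      have hs' : (⟨ng hC.af F (par i), ng_mem_group hC hp⟩ : ↥(D.group F)) ∈
          (bnPair hC hadd hinj).S \ J := ⟨ng_mem_SS hC hp, fun h => h2 ⟨_, h, rfl⟩⟩
      have h3 := hcon _ hs _ hs'
      exact hnot (Subgroup.mem_subgroupOf.mp h3)
    · have h2 : ∃ s ∈ J, (s : GL D.Idx F) = ng hC.af F (par i) := by
        by_contra h
        exact hne ⟨fun h' => absurd h' h1, fun h' => absurd h' h⟩
      have hs := hmemJ (par i) hp h2
      have hs' : (⟨ng hC.af F i, ng_mem_group hC hi⟩ : ↥(D.group F)) ∈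
          (bnPair hC hadd hinj).S \ J := ⟨ng_mem_SS hC hi, fun h => h1 ⟨_, h, rfl⟩⟩
      have h3 := Subgroup.inv_mem _ (Subgroup.mem_subgroupOf.mp (hcon _ hs _ hs'))
      apply hnot
      have e : ng hC.af F i * ng hC.af F (par i) * (ng hC.af F i)⁻¹ * (ng hC.af F (par i))⁻¹ =
          (ng hC.af F (par i) * ng hC.af F i * (ng hC.af F (par i))⁻¹ * (ng hC.af F i)⁻¹)⁻¹ := by
        group
      rw [e]
      exact h3
  have all : ∀ d, ∀ i < A.rank, dep i ≤ d → ((∃ s ∈ J, (s : GL D.Idx F) = ng hC.af F i) ↔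
      (∃ s ∈ J, (s : GL D.Idx F) = ng hC.af F 0)) := by
    intro d
    induction d with
    | zero =>
      intro i hi hd
      by_cases h0 : i = 0
      · rw [h0]
      · have := (hI.edge i hi h0).2.1
        omega
    | succ d ih =>
      intro i hi hd
      by_cases h0 : i = 0
      · rw [h0]
      · obtain ⟨hp, hdep, -⟩ := hI.edge i hi h0
        exact (key i hi h0).trans (ih (par i) hp (by omega))
  obtain ⟨s, hs⟩ := hJne
  obtain ⟨s', hs'S, hs'J⟩ := hJc
  obtain ⟨i, hi, ei⟩ := SS_char hC (hJ hs)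
  obtain ⟨k, hk, ek⟩ := SS_char hC hs'S
  have h1 := (all (dep i) i hi le_rfl).mp ⟨s, hs, ei⟩
  obtain ⟨s'', hs'', e''⟩ := (all (dep k) k hk le_rfl).mpr h1
  have : s' = s'' := Subtype.ext (ek.trans e''.symm)
  exact hs'J (by rwa [this])

include hC hinj in
/-- The Chevalley group is non-trivial as soon as there is a root. -/
theorem nontrivial (hn : 0 < A.n) : Nontrivial ↥(D.group F) := by
  have h0 := lt_nroots hC.af hn
  refine ⟨⟨⟨xg hC.af F 0 1, xg_mem_group' hC 0 1⟩, 1, ?_⟩⟩
  intro e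
  have e' : xg hC.af F 0 (1 : F) = 1 := congrArg Subtype.val e
  have := hinj 0 h0 1 (by rw [← coe_xg hC.af h0, e']; rfl)
  exact one_ne_zero this

/-- `B` is solvable as a subgroup of the Chevalley group. -/
theorem solvable_borel (hF : AFacts A D) (h : Group.IsSolvable ↥(D.borelSubgroup F)) :
    Group.IsSolvable ↥((D.borelSubgroup F).subgroupOf (D.group F)) :=
  Group.isSolvable_of_isSolvable_injective
    (f := (Subgroup.subgroupOfEquivOfLe (borelSubgroup_le hF F)).toMonoidHom)
    (Subgroup.subgroupOfEquivOfLe (borelSubgroup_le hF F)).injective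

/-- A non-trivial perfect group is not commutative. -/
theorem not_comm_of_perfect {G : Type*} [Group G] [Nontrivial G] (h : commutator G = ⊤) :
    ¬ IsMulCommutative G := by
  intro hc
  have h1 : commutator G = ⊥ := by
    rw [eq_bot_iff]
    unfold commutator
    rw [Subgroup.commutator_le]
    intro a _ b _
    rw [Subgroup.mem_bot, commutatorElement_eq_one_iff_mul_comm]
    exact hc.is_comm.comm a b
  rw [h] at h1
  exact top_ne_bot h1

include hC hadd hinj in
/-- Simplicity of the Chevalley groups from the simplicity criterion for `(B, N)`-pairs. -/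
theorem simple {small : Bool} (hQ : QFacts A small)
    (hs : small = true → ∃ c : F, c ≠ 0 ∧ c ≠ 1) {wd : List ℕ} (hL : LFacts A X m wd)
    {par dep wit : ℕ → ℕ} (hI : IFacts A X m par dep wit) (hn : 0 < A.n)
    (hsolv : Group.IsSolvable ↥(D.borelSubgroup F))
    (hcrit : Nontrivial ↥(D.group F) → ∀ P : Cfsg.BNPair ↥(D.group F), P.Irreducible →
      Group.IsSolvable P.B → commutator ↥(D.group F) = ⊤ → P.B.normalCore = ⊥ →
      IsSimpleGroup ↥(D.group F)) :
    IsSimpleGroup ↥(D.group F) ∧ ¬ IsMulCommutative ↥(D.group F) := by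
  have hnt := nontrivial hC hinj hn
  have hperf := perfect hC hadd hQ hs
  exact ⟨hcrit hnt (bnPair hC hadd hinj) (irreducible hC hadd hinj hI)
    (solvable_borel hC.af hsolv) hperf (core_eq_bot hC hadd hinj hL),
    not_comm_of_perfect hperf⟩

end

end Cfsg.Agent.Lib.Helper18.Simple
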