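import Mathlib
import Cfsg.Agent.Lib.Helper18.Ree15
import Cfsg.Agent.Lib.Helper18.Ree17
import Cfsg.Agent.Lib.Helper18.Ree19
import Cfsg.Agent.Lib.Helper18.Ree20
import Cfsg.Agent.Lib.Helper19.GraphAutG

set_option autoImplicit false
set_option linter.unusedSimpArgs false
set_option linter.unusedSectionVars false
set_option linter.unusedVariables false

/-!
# The small Ree groups: the graph automorphism (from `Helper19.GraphAutG`) and further statements
-/

namespace Cfsg.Agent.Lib.Helper18.ReeG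

open Cfsg Cfsg.Lie Cfsg.Agent.Lib.Helper18.Ree1
  Cfsg.Agent.Lib.Helper18.Ree2 Cfsg.Agent.Lib.Helper18.Ree3 Cfsg.Agent.Lib.Helper18.Ree4
  Cfsg.Agent.Lib.Helper18.Ree13 Cfsg.Agent.Lib.Helper18.Ree15

variable {K : Type*} [Field K]

/-- The graph automorphism of `G₂` over a perfect field of characteristic 3, on the fundamental
root elements. -/
theorem hasGraph [CharP K 3] (hperf : ∀ x : K, ∃ y : K, y ^ 3 = x) : HasGraph K := by
  obtain ⟨α, hα⟩ := Cfsg.Agent.Lib.Helper19.GraphAutG.g2_aut hperf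
  refine ⟨α, fun g t => ⟨fun h => ?_, fun h => ?_, fun h => ?_, fun h => ?_⟩⟩
  · exact hα g 7 t (by decide) h
  · have h' := hα g 6 t (by decide) h
    rw [show Cfsg.Agent.Lib.Helper19.GraphAutG2.gd.lam 6 = 1 from rfl, pow_one] at h'
    exact h'
  · exact hα g 4 t (by decide) h
  · have h' := hα g 5 t (by decide) h
    rw [show Cfsg.Agent.Lib.Helper19.GraphAutG2.gd.lam 5 = 1 from rfl, pow_one] at h'
    exact h'

variable [Fintype K] {m : ℕ} (hK : Fintype.card K = 3 ^ (2 * m + 1))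

include hK in
theorem graph_of_card : HasGraph K := by
  haveI := charP3 hK
  exact hasGraph (perf3 hK)

include hK in
theorem s1153 :
    (∀ x y z : ↥(twistedG2 K (3 ^ m)) ⧸
        ((chevG2.borelSubgroup K ⊓ twistedG2 K (3 ^ m))).subgroupOf (twistedG2 K (3 ^ m)),
        x ≠ y → x ≠ z → y ≠ z →
        Nat.card ↥(MulAction.stabilizer ↥(twistedG2 K (3 ^ m)) x ⊓
          MulAction.stabilizer ↥(twistedG2 K (3 ^ m)) y ⊓
          MulAction.stabilizer ↥(twistedG2 K (3 ^ m)) z) ≤ 2) ∧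
      ∃ x y z : ↥(twistedG2 K (3 ^ m)) ⧸
        ((chevG2.borelSubgroup K ⊓ twistedG2 K (3 ^ m))).subgroupOf (twistedG2 K (3 ^ m)),
        x ≠ y ∧ x ≠ z ∧ y ≠ z ∧
        Nat.card ↥(MulAction.stabilizer ↥(twistedG2 K (3 ^ m)) x ⊓
          MulAction.stabilizer ↥(twistedG2 K (3 ^ m)) y ⊓
          MulAction.stabilizer ↥(twistedG2 K (3 ^ m)) z) = 2 := by
  haveI := charP3 hK
  obtain ⟨φ, hφ, h3⟩ := exists_theta hK
  obtain ⟨S⟩ := exists_sig φ (graph_of_card hK)
  exact Cfsg.Agent.Lib.Helper18.Ree17.stab3 S hφ h3 hK rfl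

include hK in
theorem s1154 :
    Nat.card {u : ↥(chevG2.posUnipotent K ⊓ twistedG2 K (3 ^ m)) // orderOf u = 3} =
      (3 ^ (2 * m + 1)) ^ 2 - 1 := by
  haveI := charP3 hK
  obtain ⟨φ, hφ, h3⟩ := exists_theta hK
  obtain ⟨S⟩ := exists_sig φ (graph_of_card hK)
  have h := Cfsg.Agent.Lib.Helper18.Ree20.card_order_three S hφ h3
  rw [hK] at h
  exact h

include hK in
theorem s1155 (P Q : Sylow 3 ↥(twistedG2 K (3 ^ m))) (hPQ : P ≠ Q) :
    (P : Subgroup ↥(twistedG2 K (3 ^ m))) ⊓ (Q : Subgroup ↥(twistedG2 K (3 ^ m))) = ⊥ := by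
  haveI := charP3 hK
  obtain ⟨φ, hφ, h3⟩ := exists_theta hK
  obtain ⟨S⟩ := exists_sig φ (graph_of_card hK)
  exact Cfsg.Agent.Lib.Helper18.Ree19.sylow3_ti S hφ h3 hK rfl P Q hPQ

end Cfsg.Agent.Lib.Helper18.ReeG
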