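import Mathlib
import Cfsg.Agent.Lib.Helper18.ReeHallStmt

/-!
# Small Ree groups: abstract assemblies for S1158, S2358, S2357
(from the clean axioms `Ax` of helper42's `ReeSpStmt` and the pieces of `ReeSpStmt`/`ReeHallStmt`).
-/

set_option autoImplicit false

namespace Cfsg.Agent.Lib.Helper18.ReeHallAsm

open Cfsg.Agent.Lib.Helper42.ReeSpStmt Cfsg.Agent.Lib.Helper18.ReeHallStmt

universe u v

/-- the facts needed for the three statements -/
structure Facts (G : Type u) [Group G] (U H A : Subgroup G) (K : Type v) [Field K] [Fintype K]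
    (m : ℕ) : Prop where
  ax : Ax G U H A K m
  syl : SylNC G U H m
  oddH : OddHC G H m
  oddA : OddAC G A m
  nh : NHC G H m
  na : NAC G A m
  c3 : C3C G m
  c2 : C2C G m
  c6 : C6C G m
  tor : TorC G m

/-- the facts from the clean axioms and the pieces -/
theorem facts_of_ax (pTI : TISyl.{u}) (pSyl : Syl.{u, v}) (pThree : Three.{u, v})
    (pEven : EvenP.{u, v}) (pOddH : OddH.{u, v}) (pOddA : OddA.{u, v})
    (pRC1 : RC1.{u, v}) (pRC2 : RC2.{u, v}) (pHall : Hall.{u, v})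
    (pNH : NH.{u, v}) (pNA : NA.{u, v}) (pC3 : C3.{u, v}) (pC2 : C2.{u, v})
    (pC6 : C6.{u, v}) (pCT1 : CT1.{u, v}) (pCT2 : CT2.{u, v}) (pCE : CE.{u, v})
    (pCP : CP.{u, v}) (pOrb : OrbP.{u, v}) (pDio : DioP)
    {G : Type u} [Group G] [Finite G] {U H A : Subgroup G} {K : Type v} [Field K]
    [Fintype K] {m : ℕ} (hax : Ax G U H A K m) : Facts G U H A K m := by
  have hS := pSyl G U H A K m hax pTI
  have h3 := pThree G U H A K m hax hS
  have hE := pEven G U H A K m hax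
  have hH := pOddH G U H A K m hax
  have hA := pOddA G U H A K m hax
  have hr1 := pRC1 G K m hax.cardK hax.rep
  have hr2 := pRC2 G K m hax.cardK hax.rep
  have hHall := pHall G U H A K m hax h3 hE hH hA hr1 hr2
  have hNH := pNH G U H A K m hax pTI
  have hNA := pNA G U H A K m hax pTI
  have hC3 := pC3 G U H A K m hax hS
  have hC2 := pC2 G U H A K m hax
  have hC6 := pC6 G U H A K m hax hS h3 hC2
  have hc := count_of hax hC3 hC2 hC6 (pCT1 G U H A K m hax hNH) (pCT2 G U H A K m hax hNA)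
    (pCE G U H A K m hax h3 hE hH hA) (pCP G U H A K m hax hS h3 hH hA)
  have hT := tor_of hax (pOrb G U H A K m hax hHall) pDio hc
  exact ⟨hax, hS, hH, hA, hNH, hNA, hC3, hC2, hC6, hT⟩

/-- the facts from the raw facts and the pieces -/
theorem facts_of_raw (pa : TRa.{u, v}) (p9 : TR9.{u, v}) (pi : TRi.{u, v}) (ph : TRh.{u, v})
    (pA : TRA.{u, v}) (pTI : TISyl.{u}) (pSyl : Syl.{u, v}) (pThree : Three.{u, v})
    (pEven : EvenP.{u, v}) (pOddH : OddH.{u, v}) (pOddA : OddA.{u, v})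
    (pRC1 : RC1.{u, v}) (pRC2 : RC2.{u, v}) (pHall : Hall.{u, v})
    (pNH : NH.{u, v}) (pNA : NA.{u, v}) (pC3 : C3.{u, v}) (pC2 : C2.{u, v})
    (pC6 : C6.{u, v}) (pCT1 : CT1.{u, v}) (pCT2 : CT2.{u, v}) (pCE : CE.{u, v})
    (pCP : CP.{u, v}) (pOrb : OrbP.{u, v}) (pDio : DioP)
    {Γ : Type u} [Group Γ] {R D Up : Subgroup Γ} {K : Type v} [Field K] [Fintype K] {m : ℕ}
    (hraw : Raw R D Up K m) :
    Finite ↥R ∧ ∃ A : Subgroup ↥R, Facts ↥R (Usub R Up) (Hsub R D) A K m := by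
  obtain ⟨A, hax⟩ := ax_of_raw pa p9 pi ph pA hraw
  have hfin : Finite ↥R := Nat.finite_of_card_ne_zero (by
    rw [hraw.s1069]
    have h3 := three_le_qq m
    have h1 : 0 < 3 ^ (2 * m + 1) - 1 := by
      have : 3 ≤ 3 ^ (2 * m + 1) := h3
      omega
    positivity)
  exact ⟨hfin, A, facts_of_ax pTI pSyl pThree pEven pOddH pOddA pRC1 pRC2 pHall pNH pNA pC3 pC2
    pC6 pCT1 pCT2 pCE pCP pOrb pDio hax⟩

/-- the number of elements of a given order of `Up ⊓ R`, seen inside `R` -/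
theorem card_order_sub {Γ : Type u} [Group Γ] (R Up : Subgroup Γ) (k : ℕ) :
    Nat.card {u : ↥(Usub R Up) // orderOf u = k} =
      Nat.card {u : ↥(Up ⊓ R) // orderOf u = k} := by
  let e : ↥(Usub R Up) ≃* ↥(Up ⊓ R) := Subgroup.subgroupOfEquivOfLe inf_le_right
  exact Nat.card_congr (e.toEquiv.subtypeEquiv (fun u => by
    show orderOf u = k ↔ orderOf (e u) = k
    rw [MulEquiv.orderOf_eq e u]))

/-- S1158, abstractly -/
theorem norm_of (pH : NrmH.{u, v}) (pA : NrmA.{u, v}) (pT : NrmT.{u})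
    {G : Type u} [Group G] [Finite G] {U H A : Subgroup G} {K : Type v} [Field K]
    [Fintype K] {m : ℕ} (hf : Facts G U H A K m) :
    NormP G ((qq m - 1) / 2) (2 * (qq m - 1)) ∧ NormP G ((qq m + 1) / 4) (6 * (qq m + 1)) ∧
    NormP G (qq m - rr m + 1) (6 * (qq m - rr m + 1)) ∧
    NormP G (qq m + rr m + 1) (6 * (qq m + rr m + 1)) :=
  ⟨pH G U H A K m hf.ax hf.nh, pA G U H A K m hf.ax hf.na, (pT G m hf.tor).1, (pT G m hf.tor).2⟩

/-- S2358, abstractly -/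
theorem conj_of (pH : ConjH.{u, v}) (pA : ConjA.{u, v}) (pT : ConjT.{u})
    {G : Type u} [Group G] [Finite G] {U H A : Subgroup G} {K : Type v} [Field K]
    [Fintype K] {m : ℕ} (hf : Facts G U H A K m) (d : ℕ)
    (hd : d ∣ (qq m - 1) / 2 ∨ d ∣ (qq m + 1) / 4 ∨ d ∣ qq m - rr m + 1 ∨ d ∣ qq m + rr m + 1) :
    ConjP G d := by
  rcases hd with h | h | h | h
  · exact pH G U H A K m hf.ax hf.oddH d h
  · exact pA G U H A K m hf.ax hf.oddA d h
  · exact pT G m hf.ax.hm hf.tor d (Or.inl h)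
  · exact pT G m hf.ax.hm hf.tor d (Or.inr h)

/-- S2357, abstractly -/
theorem counts_of (pCnt : Cnt.{u}) (pK3 : K3.{u, v}) (pK9 : K9.{u}) (pKH : KH.{u, v})
    (pKA1 : KA1.{u, v}) (pKA2 : KA2.{u, v}) (pKT : KT.{u})
    {G : Type u} [Group G] [Finite G] {U H A : Subgroup G} {K : Type v} [Field K]
    [Fintype K] {m : ℕ} (hf : Facts G U H A K m)
    (h3U : Nat.card {u : ↥U // orderOf u = 3} = qq m ^ 2 - 1) :
    Nat.card {g : G // orderOf g = 2} = qq m ^ 2 * (qq m ^ 2 - qq m + 1) ∧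
    Nat.card {g : G // orderOf g = 3} = (qq m ^ 2 - 1) * (qq m ^ 3 + 1) ∧
    Nat.card {g : G // orderOf g = 6} = qq m ^ 2 * (qq m - 1) * (qq m ^ 3 + 1) ∧
    Nat.card {g : G // orderOf g = 9} = qq m ^ 2 * (qq m - 1) * (qq m ^ 3 + 1) ∧
    (∀ i : ℕ, 2 < i → i ∣ qq m - 1 →
      2 * Nat.card {g : G // orderOf g = i} = Nat.totient i * qq m ^ 3 * (qq m ^ 3 + 1)) ∧
    (∀ i : ℕ, 1 < i → i ∣ (qq m + 1) / 4 →
      6 * Nat.card {g : G // orderOf g = i} =
          Nat.totient i * qq m ^ 3 * (qq m - 1) * (qq m ^ 2 - qq m + 1) ∧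
        2 * Nat.card {g : G // orderOf g = 2 * i} =
          Nat.totient i * qq m ^ 3 * (qq m - 1) * (qq m ^ 2 - qq m + 1)) ∧
    (∀ i : ℕ, 1 < i → i ∣ qq m - rr m + 1 →
      6 * Nat.card {g : G // orderOf g = i} =
        Nat.totient i * qq m ^ 3 * (qq m ^ 2 - 1) * (qq m + rr m + 1)) ∧
    (∀ i : ℕ, 1 < i → i ∣ qq m + rr m + 1 →
      6 * Nat.card {g : G // orderOf g = i} =
        Nat.totient i * qq m ^ 3 * (qq m ^ 2 - 1) * (qq m - rr m + 1)) := by
  have h3 := pK3 G U H A K m hf.ax pCnt hf.syl h3U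
  have h9 := pK9 G m hf.c3 h3
  have hT := pKT G m hf.ax.hm pCnt hf.ax.card hf.tor
  refine ⟨hf.c2, h3, ?_, h9, pKH G U H A K m hf.ax pCnt hf.oddH hf.nh, ?_, hT.1, hT.2⟩
  · have h6 : Nat.card {g : G // orderOf g = 6} = (qq m ^ 3 + 1) * qq m ^ 2 * (qq m - 1) := hf.c6
    rw [h6]; ring
  · intro i hi hdv
    exact ⟨pKA1 G U H A K m hf.ax pCnt hf.oddA hf.na i hi hdv,
      pKA2 G U H A K m hf.ax pCnt hf.oddA hf.na i hi hdv⟩

end Cfsg.Agent.Lib.Helper18.ReeHallAsm
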