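import Cfsg.Agent.Lib.Helper18.ReeRaw
import Cfsg.Agent.Lib.Helper18.ReeHallAsm
import Cfsg.Agent.Lib.Helper95.ReeSpTRA
import Cfsg.Agent.Lib.Helper90.ReeSpTR9
import Cfsg.Agent.Lib.Helper90.ReeSpTRI
import Cfsg.Agent.Lib.Helper95.ReeSpTRH
import Cfsg.Agent.Lib.Helper72.ReeSpTRAA
import Cfsg.Agent.Lib.Helper93.ReeSpTISYL
import Cfsg.Agent.Lib.Helper4.ReeSpSYL
import Cfsg.Agent.Lib.Helper74.ReeSpTHREE
import Cfsg.Agent.Lib.Helper97.ReeSpEVEN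
import Cfsg.Agent.Lib.Helper33.ReeSpODDH
import Cfsg.Agent.Lib.Helper97.ReeSpODDA
import Cfsg.Agent.Lib.Helper77.ReeSpRC1
import Cfsg.Agent.Lib.Helper38.ReeSpRC2
import Cfsg.Agent.Lib.Helper15.ReeSpHALL
import Cfsg.Agent.Lib.Helper4.ReeSpNH
import Cfsg.Agent.Lib.Helper74.ReeSpNA
import Cfsg.Agent.Lib.Helper33.ReeSpC3
import Cfsg.Agent.Lib.Helper33.ReeSpC2
import Cfsg.Agent.Lib.Helper66.ReeSpC6
import Cfsg.Agent.Lib.Helper4.ReeSpCT1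
import Cfsg.Agent.Lib.Helper65.ReeSpCT2
import Cfsg.Agent.Lib.Helper67.ReeSpCE
import Cfsg.Agent.Lib.Helper7.ReeSpCP
import Cfsg.Agent.Lib.Helper7.RHORBP
import Cfsg.Agent.Lib.Helper51.RHDIOP

/-!
# The facts of `ReeHallAsm.Facts` for the real small Ree group (all pieces of the S1159 swarm plus
ORBP, DIOP instantiated)
-/

set_option autoImplicit false

namespace Cfsg.Agent.Lib.Helper18.ReeHallFin

open Cfsg.Agent.Lib.Helper42.ReeSpStmt Cfsg.Agent.Lib.Helper18.ReeHallStmt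
  Cfsg.Agent.Lib.Helper18.ReeHallAsm

/-- all the facts for the real small Ree group -/
theorem facts_ree {K : Type*} [Field K] [Fintype K] {m : ℕ} (hm : 1 ≤ m)
    (hK : Fintype.card K = 3 ^ (2 * m + 1)) :
    ∃ A : Subgroup ↥(Cfsg.Lie.twistedG2 K (3 ^ m)),
      Facts ↥(Cfsg.Lie.twistedG2 K (3 ^ m))
        (Usub (Cfsg.Lie.twistedG2 K (3 ^ m)) (Cfsg.Lie.chevG2.posUnipotent K))
        (Hsub (Cfsg.Lie.twistedG2 K (3 ^ m)) (Cfsg.Lie.chevG2.diagonalSubgroup K)) A K m :=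
  (facts_of_raw Cfsg.Agent.Lib.Helper95.ReeSpTRA.main Cfsg.Agent.Lib.Helper90.ReeSpTR9.main
    Cfsg.Agent.Lib.Helper90.ReeSpTRI.main Cfsg.Agent.Lib.Helper95.ReeSpTRH.main
    Cfsg.Agent.Lib.Helper72.ReeSpTRAA.main Cfsg.Agent.Lib.Helper93.ReeSpTISYL.main
    Cfsg.Agent.Lib.Helper4.ReeSpSYL.main Cfsg.Agent.Lib.Helper74.ReeSpTHREE.main
    Cfsg.Agent.Lib.Helper97.ReeSpEVEN.main Cfsg.Agent.Lib.Helper33.ReeSpODDH.main
    Cfsg.Agent.Lib.Helper97.ReeSpODDA.main Cfsg.Agent.Lib.Helper77.ReeSpRC1.main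
    Cfsg.Agent.Lib.Helper38.ReeSpRC2.main Cfsg.Agent.Lib.Helper15.ReeSpHALL.main
    Cfsg.Agent.Lib.Helper4.ReeSpNH.main Cfsg.Agent.Lib.Helper74.ReeSpNA.main
    Cfsg.Agent.Lib.Helper33.ReeSpC3.main Cfsg.Agent.Lib.Helper33.ReeSpC2.main
    Cfsg.Agent.Lib.Helper66.ReeSpC6.main Cfsg.Agent.Lib.Helper4.ReeSpCT1.main
    Cfsg.Agent.Lib.Helper65.ReeSpCT2.main Cfsg.Agent.Lib.Helper67.ReeSpCE.main
    Cfsg.Agent.Lib.Helper7.ReeSpCP.main Cfsg.Agent.Lib.Helper7.RHORBP.main Cfsg.Agent.Lib.Helper51.RHDIOP.main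
    (Cfsg.Agent.Lib.Helper18.ReeRaw.raw_ree hm hK)).2

end Cfsg.Agent.Lib.Helper18.ReeHallFin
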