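import Mathlib
import Cfsg.Agent.Lib.Helper18.TwBN

set_option autoImplicit false
set_option linter.unusedSimpArgs false
set_option linter.unusedSectionVars false
set_option linter.unusedVariables false

/-!
# The `(B, N)`-pair of a twisted group: the axioms
-/

namespace Cfsg.Agent.Lib.Helper18.TwBN2

open Cfsg Cfsg.Lie Cfsg.Agent.Lib.Helper18.Fast Cfsg.Agent.Lib.Helper18.Grade
  Cfsg.Agent.Lib.Helper18.Facts Cfsg.Agent.Lib.Helper18.AllRoots Cfsg.Agent.Lib.Helper18.Loop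
  Cfsg.Agent.Lib.Helper18.Weyl Cfsg.Agent.Lib.Helper18.RootSys Cfsg.Agent.Lib.Helper18.Orbit
  Cfsg.Agent.Lib.Helper18.Units Cfsg.Agent.Lib.Helper18.Sub Cfsg.Agent.Lib.Helper18.Norm
  Cfsg.Agent.Lib.Helper18.HAll Cfsg.Agent.Lib.Helper18.Torus Cfsg.Agent.Lib.Helper18.Pos
  Cfsg.Agent.Lib.Helper18.WGroup Cfsg.Agent.Lib.Helper18.BNChev Cfsg.Agent.Lib.Helper18.Mono
  Cfsg.Agent.Lib.Helper18.BNPairC Cfsg.Agent.Lib.Helper18.UOrd Cfsg.Agent.Lib.Helper18.Cox
  Cfsg.Agent.Lib.Helper18.Long Cfsg.Agent.Lib.Helper18.Core Cfsg.Agent.Lib.Helper18.Conj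
  Cfsg.Agent.Lib.Helper18.RFact Cfsg.Agent.Lib.Helper18.BNCell Cfsg.Agent.Lib.Helper18.Vec
  Cfsg.Agent.Lib.Helper18.XMat Cfsg.Agent.Lib.Helper18.Cells Cfsg.Agent.Lib.Helper18.Cox2
  Cfsg.Agent.Lib.Helper18.Cells2 Cfsg.Agent.Lib.Helper18.BNAbs Cfsg.Agent.Lib.Helper18.Poly2
  Cfsg.Agent.Lib.Helper18.Graph Cfsg.Agent.Lib.Helper18.Tw0 Cfsg.Agent.Lib.Helper18.Tw1
  Cfsg.Agent.Lib.Helper18.Par Cfsg.Agent.Lib.Helper18.Par2 Cfsg.Agent.Lib.Helper18.Tw2
  Cfsg.Agent.Lib.Helper18.Tw3 Cfsg.Agent.Lib.Helper18.Tw4 Cfsg.Agent.Lib.Helper18.Tw5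
  Cfsg.Agent.Lib.Helper18.Tw6 Cfsg.Agent.Lib.Helper18.Tw7 Cfsg.Agent.Lib.Helper18.Tw8
  Cfsg.Agent.Lib.Helper18.TwBN

variable {A : FData} {D : ChevalleyDatum} {K : Type*} [Field K] {X : WD} {m : ℕ → ℕ → ℤ}
  {w : ℕ → ℤ} {N : ℕ} {ord rnk : ℕ → ℕ} {bz : ℕ → ℕ → ℤ} {w' : ℕ → ℤ} {P : SPerm} {l : List ℕ}

section

variable (hC : CFacts A D X m w) (hR : RFacts A X) (hU : UFacts A w' N ord rnk bz) (hn : 0 < A.n)
  (hadd : ∀ r < D.nroots, ∀ t u : K, D.x K r t * D.x K r u = D.x K r (t + u))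
  (hinj : ∀ r < D.nroots, ∀ t : K, D.x K r t = 1 → t = 0)
  (hP : P.OK A) (hl : SimpleOK P A l) (φ : K →+* K)
  (hpos : ∀ r < A.n, PosA A r → PosA A (P.rho r))
  (linv : ℕ → ℕ) (hlinv : ∀ i < A.rank, linv (l.getD i 0) = i)

include hR hU hn hadd hinj hl hlinv hpos in
/-- The normal form of the elements of `Γ` in the cell of a word made of blocks. -/
theorem nf_gam' {Γ : Subgroup (GL D.Idx K)} (hΓ : Γ ≤ fixS hP hC.af.agrees φ)
    (Ss : List (List ℕ)) (hSs : ∀ S ∈ Ss, GOK hC.af X l φ linv Γ S) (hred : RedT A X Ss.flatten)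
    {g : GL D.Idx K} (hg : g ∈ Γ) (hc : g ∈ cell hC K Ss.flatten) :
    ∃ u ∈ Uw hC.af X K Ss.flatten, u ∈ Γ ∧ ∃ b ∈ D.borelSubgroup K, b ∈ Γ ∧
      g = u * nw hC.af K (plain Ss.flatten) * b := by
  induction Ss generalizing g with
  | nil =>
    rw [List.flatten_nil, cell_nil hC] at hc
    refine ⟨1, Subgroup.one_mem _, Subgroup.one_mem _, g, hc, hg, ?_⟩
    have : nw hC.af K (plain ([] : List (List ℕ)).flatten) = 1 := rfl
    rw [this, one_mul, one_mul]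
  | cons S Ss ih =>
    have hS := hSs S List.mem_cons_self
    have hSs' : ∀ T ∈ Ss, GOK hC.af X l φ linv Γ T := fun T hT => hSs T (List.mem_cons_of_mem _ hT)
    rw [List.flatten_cons] at hred hc ⊢
    obtain ⟨f, hf, h1, c, ⟨hcΓ, hcc⟩, rfl⟩ := (inter_cell_step hC hadd hinj hP hl φ hpos linv hlinv
      hΓ hS Ss (fun T hT => (hSs' T hT).ok) hred _).mp ⟨hg, hc⟩
    obtain ⟨u, hu, huΓ, b, hb, hbΓ, e⟩ := ih hSs' (redT_append hred) hcΓ hcc
    obtain ⟨u', hu', e'⟩ := blk_U hC hR hU hn hadd hred f hu rfl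
    have hnw' : nw hC.af K (plain Ss.flatten) ∈ Γ := nw_flatten_mem hC φ linv Ss hSs'
    have hnw : nw hC.af K (plain (S ++ Ss.flatten)) ∈ Γ := by
      rw [plain_append, nw_append]
      exact Γ.mul_mem hS.nmem hnw'
    refine ⟨u', hu', ?_, b, hb, hbΓ, ?_⟩
    · have e2 : u' = blk hC.af K S f * (u * nw hC.af K (plain Ss.flatten)) *
          (nw hC.af K (plain (S ++ Ss.flatten)))⁻¹ := by
        rw [e']
        group
      rw [e2]
      exact Γ.mul_mem (Γ.mul_mem (hS.xmem f h1) (Γ.mul_mem huΓ hnw')) (Γ.inv_mem hnw)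
    · rw [← e', e]
      group

include hR hU hn hadd hinj hl hlinv hpos in
theorem nf_gam {Γ : Subgroup (GL D.Idx K)} (hΓ : Γ ≤ fixS hP hC.af.agrees φ)
    (Ss : List (List ℕ)) (hSs : ∀ S ∈ Ss, GOK hC.af X l φ linv Γ S) (hred : RedT A X Ss.flatten)
    {g : GL D.Idx K} (hg : g ∈ Γ) (hc : g ∈ cell hC K Ss.flatten) :
    ∃ u ∈ D.borelSubgroup K, u ∈ Γ ∧ ∃ b ∈ D.borelSubgroup K, b ∈ Γ ∧
      g = u * nw hC.af K (plain Ss.flatten) * b := by
  obtain ⟨u, hu, huΓ, b, hb, hbΓ, e⟩ := nf_gam' hC hR hU hn hadd hinj hP hl φ hpos linv hlinv hΓ Ss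
    hSs hred hg hc
  exact ⟨u, le_sup_left (b := D.diagonalSubgroup K) (Uw_le hC.af _ hu), huΓ, b, hb, hbΓ, e⟩

include hadd in
/-- The product of a block representative, an element of `B` and an element of `N` lies in the
double coset of a sub-word. -/
theorem stepA (T : List ℕ) (hT : ∀ i ∈ T, i < A.rank) {n b : GL D.Idx K}
    (hnN : n ∈ D.monomialSubgroup K) (hb : b ∈ D.borelSubgroup K) :
    ∃ T' : List ℕ, T'.Sublist T ∧ nw hC.af K (plain T) * b * n ∈
      DoubleCoset.doubleCoset (nw hC.af K (plain T') * n)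
        (D.borelSubgroup K : Set (GL D.Idx K)) (D.borelSubgroup K) := by
  induction T with
  | nil =>
    refine ⟨[], List.Sublist.refl _, ?_⟩
    rw [DoubleCoset.mem_doubleCoset]
    refine ⟨b, hb, 1, Subgroup.one_mem _, ?_⟩
    have : nw hC.af K (plain []) = 1 := rfl
    rw [this, one_mul, one_mul, mul_one]
  | cons i T ih =>
    have hi := hT i List.mem_cons_self
    obtain ⟨T', hT', h1⟩ := ih (fun j hj => hT j (List.mem_cons_of_mem _ hj))
    rw [DoubleCoset.mem_doubleCoset] at h1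
    obtain ⟨b1, hb1, b2, hb2, e⟩ := h1
    have hT'lt : ∀ j ∈ T', j < A.rank := fun j hj =>
      hT j (List.mem_cons_of_mem _ (hT'.subset hj))
    have hN' : nw hC.af K (plain T') * n ∈ D.monomialSubgroup K :=
      Subgroup.mul_mem _ (nw_mem_monomial hC (plain_lt hT'lt)) hnN
    have e2 : nw hC.af K (plain (i :: T)) * b * n =
        ng hC.af K i * b1 * (nw hC.af K (plain T') * n) * b2 := by
      rw [nw_plain_cons, mul_assoc (ng hC.af K i), mul_assoc (ng hC.af K i), e]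
      group
    rcases bn_axiom_chev hC hadd hi hN' hb1 with h | h
    · rw [DoubleCoset.mem_doubleCoset] at h
      obtain ⟨c1, hc1, c2, hc2, e3⟩ := h
      refine ⟨i :: T', hT'.cons₂ i, ?_⟩
      rw [DoubleCoset.mem_doubleCoset]
      refine ⟨c1, hc1, c2 * b2, Subgroup.mul_mem _ hc2 hb2, ?_⟩
      rw [e2, e3, nw_plain_cons]
      group
    · rw [DoubleCoset.mem_doubleCoset] at h
      obtain ⟨c1, hc1, c2, hc2, e3⟩ := h
      refine ⟨T', hT'.cons i, ?_⟩
      rw [DoubleCoset.mem_doubleCoset]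
      refine ⟨c1, hc1, c2 * b2, Subgroup.mul_mem _ hc2 hb2, ?_⟩
      rw [e2, e3]
      group

include hR hU hn hadd hinj hl hpos in
/-- A double coset meeting the fixed points is stable under the graph permutation. -/
theorem wperm_of_fixed {T : List ℕ} (hT : ∀ i ∈ T, i < A.rank) {n g : GL D.Idx K}
    (hnN : n ∈ D.monomialSubgroup K) (hnf : sg hP hC.af.agrees φ n = n)
    (hgf : sg hP hC.af.agrees φ g = g)
    (hgc : g ∈ DoubleCoset.doubleCoset (nw hC.af K (plain T) * n)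
      (D.borelSubgroup K : Set (GL D.Idx K)) (D.borelSubgroup K)) :
    ∀ r < A.n, wperm X (T.map fun i => l.getD i 0) r = wperm X T r := by
  have hT' : ∀ i ∈ T.map (fun i => l.getD i 0), i < A.rank := by
    intro i hi
    obtain ⟨j, hj, rfl⟩ := List.mem_map.mp hi
    exact (hl j (hT j hj)).1
  have hgc' := hgc
  rw [DoubleCoset.mem_doubleCoset] at hgc'
  obtain ⟨b1, hb1, b2, hb2, e⟩ := hgc'
  have e2 : g = sg hP hC.af.agrees φ b1 *
      (nw hC.af K (plain (T.map fun i => l.getD i 0)) * n) * sg hP hC.af.agrees φ b2 := by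
    conv_lhs => rw [← hgf, e, map_mul, map_mul, map_mul, sg_nw hP hC.af hl φ hT, hnf]
  have hN1 : nw hC.af K (plain T) * n ∈ D.monomialSubgroup K :=
    Subgroup.mul_mem _ (nw_mem_monomial hC (plain_lt hT)) hnN
  have hN2 : nw hC.af K (plain (T.map fun i => l.getD i 0)) * n ∈ D.monomialSubgroup K :=
    Subgroup.mul_mem _ (nw_mem_monomial hC (plain_lt hT')) hnN
  have h3 := dc_unique hC hadd hinj hN1 hN2 hgc (DoubleCoset.mem_doubleCoset.mpr
    ⟨_, sg_B hP hC.af hl φ hpos hb1, _, sg_B hP hC.af hl φ hpos hb2, e2⟩)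
  have h4 : nw hC.af K (plain (T.map fun i => l.getD i 0)) * (nw hC.af K (plain T))⁻¹ ∈
      D.diagonalSubgroup K := by
    have e3 : nw hC.af K (plain (T.map fun i => l.getD i 0)) * (nw hC.af K (plain T))⁻¹ =
        nw hC.af K (plain (T.map fun i => l.getD i 0)) * n * (nw hC.af K (plain T) * n)⁻¹ := by
      group
    rw [e3]
    exact h3
  have h5 : nw hC.af K (plain (T.map fun i => l.getD i 0)) ∈ cell hC K T := by
    unfold cell
    rw [DoubleCoset.mem_doubleCoset]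
    refine ⟨_, le_sup_right (a := D.posUnipotent K) h4, 1, Subgroup.one_mem _, ?_⟩
    group
  have h6 : nw hC.af K (plain (T.map fun i => l.getD i 0)) ∈
      cell hC K (T.map fun i => l.getD i 0) := by
    unfold cell
    rw [DoubleCoset.mem_doubleCoset]
    exact ⟨1, Subgroup.one_mem _, 1, Subgroup.one_mem _, by group⟩
  have hw := wprod_eq_of_meet hC hR hU hn hadd hinj hT' hT h6 h5
  intro r hr
  have := congrArg (fun σ : Equiv.Perm (Fin A.n) => (σ ⟨r, hr⟩).val) hw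
  beta_reduce at this
  rwa [wprod_val hC hR hU hn hT', wprod_val hC hR hU hn hT] at this

end

end Cfsg.Agent.Lib.Helper18.TwBN2
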