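import Mathlib
import Cfsg.Agent.Lib.Helper18.TwBN2

set_option autoImplicit false
set_option linter.unusedSimpArgs false
set_option linter.unusedSectionVars false
set_option linter.unusedVariables false

/-!
# The `(B, N)`-pair of a twisted group: the pair
-/

namespace Cfsg.Agent.Lib.Helper18.TwBN3

open Cfsg Cfsg.Lie Cfsg.Agent.Lib.Helper18.Fast Cfsg.Agent.Lib.Helper18.Grade
  Cfsg.Agent.Lib.Helper18.Facts Cfsg.Agent.Lib.Helper18.AllRoots Cfsg.Agent.Lib.Helper18.Loop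
  Cfsg.Agent.Lib.Helper18.Weyl Cfsg.Agent.Lib.Helper18.RootSys Cfsg.Agent.Lib.Helper18.Orbit
  Cfsg.Agent.Lib.Helper18.Units Cfsg.Agent.Lib.Helper18.Sub Cfsg.Agent.Lib.Helper18.Norm
  Cfsg.Agent.Lib.Helper18.HAll Cfsg.Agent.Lib.Helper18.Torus Cfsg.Agent.Lib.Helper18.Pos
  Cfsg.Agent.Lib.Helper18.WGroup Cfsg.Agent.Lib.Helper18.BNChev Cfsg.Agent.Lib.Helper18.Mono
  Cfsg.Agent.Lib.Helper18.BNPairC Cfsg.Agent.Lib.Helper18.UOrd Cfsg.Agent.Lib.Helper18.Cox
  Cfsg.Agent.Lib.Helper18.Long Cfsg.Agent.Lib.Helper18.Core Cfsg.Agent.Lib.Helper18.Conj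
  Cfsg.Agent.Lib.Helper18.RFact Cfsg.Agent.Lib.Helper18.BNCell Cfsg.Agent.Lib.Helper18.Vec
  Cfsg.Agent.Lib.Helper18.XMat Cfsg.Agent.Lib.Helper18.Cells Cfsg.Agent.Lib.Helper18.Cox2
  Cfsg.Agent.Lib.Helper18.Cells2 Cfsg.Agent.Lib.Helper18.BNAbs Cfsg.Agent.Lib.Helper18.Poly2
  Cfsg.Agent.Lib.Helper18.Graph Cfsg.Agent.Lib.Helper18.Tw0 Cfsg.Agent.Lib.Helper18.Tw1
  Cfsg.Agent.Lib.Helper18.Par Cfsg.Agent.Lib.Helper18.Par2 Cfsg.Agent.Lib.Helper18.Tw2
  Cfsg.Agent.Lib.Helper18.Tw3 Cfsg.Agent.Lib.Helper18.Tw4 Cfsg.Agent.Lib.Helper18.Tw5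
  Cfsg.Agent.Lib.Helper18.Tw6 Cfsg.Agent.Lib.Helper18.Tw7 Cfsg.Agent.Lib.Helper18.Tw8
  Cfsg.Agent.Lib.Helper18.TwBN Cfsg.Agent.Lib.Helper18.TwBN2

variable {A : FData} {D : ChevalleyDatum} {K : Type*} [Field K] {X : WD} {m : ℕ → ℕ → ℤ}
  {w : ℕ → ℤ} {N : ℕ} {ord rnk : ℕ → ℕ} {bz : ℕ → ℕ → ℤ} {w' : ℕ → ℤ} {P : SPerm} {l : List ℕ}

section

variable (hC : CFacts A D X m w) (hR : RFacts A X) (hU : UFacts A w' N ord rnk bz) (hn : 0 < A.n)
  (hadd : ∀ r < D.nroots, ∀ t u : K, D.x K r t * D.x K r u = D.x K r (t + u))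
  (hinj : ∀ r < D.nroots, ∀ t : K, D.x K r t = 1 → t = 0)
  (hP : P.OK A) (hl : SimpleOK P A l) (φ : K →+* K)
  (hpos : ∀ r < A.n, PosA A r → PosA A (P.rho r))
  (linv : ℕ → ℕ) (hlinv : ∀ i < A.rank, linv (l.getD i 0) = i)

include hR hU hn hadd hinj hl hlinv hpos in
/-- The elements of `Γ` in an ambient double coset of an element of `N ⊓ Γ` lie in its double
coset with respect to `B ⊓ Γ`. -/
theorem stepC {Γ : Subgroup (GL D.Idx K)} (hΓ : Γ ≤ fixS hP hC.af.agrees φ)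
    (Bs : List (List ℕ)) (hgok : ∀ S ∈ Bs, GOK hC.af X l φ linv Γ S)
    (HEX : ∀ g ∈ Γ, ∃ Ss : List (List ℕ), (∀ S ∈ Ss, S ∈ Bs) ∧ RedT A X Ss.flatten ∧
      g ∈ cell hC K Ss.flatten)
    {n' g : GL D.Idx K} (hn' : n' ∈ Γ) (hg : g ∈ Γ)
    (hgc : g ∈ DoubleCoset.doubleCoset n' (D.borelSubgroup K : Set (GL D.Idx K))
      (D.borelSubgroup K)) :
    ∃ b1 ∈ D.borelSubgroup K ⊓ Γ, ∃ b2 ∈ D.borelSubgroup K ⊓ Γ, g = b1 * n' * b2 := by
  obtain ⟨Ss, hSs, hred, hc⟩ := HEX n' hn'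
  have hSs' : ∀ S ∈ Ss, GOK hC.af X l φ linv Γ S := fun S hS => hgok S (hSs S hS)
  have hgc2 : g ∈ cell hC K Ss.flatten := by
    have hc' := hc
    unfold cell at hc' ⊢
    rw [DoubleCoset.mem_doubleCoset] at hc' hgc ⊢
    obtain ⟨c1, hc1, c2, hc2, e1⟩ := hc'
    obtain ⟨b1, hb1, b2, hb2, e2⟩ := hgc
    refine ⟨b1 * c1, Subgroup.mul_mem _ hb1 hc1, c2 * b2, Subgroup.mul_mem _ hc2 hb2, ?_⟩
    rw [e2, e1]
    group
  obtain ⟨u, hu, huΓ, b, hb, hbΓ, e⟩ := nf_gam hC hR hU hn hadd hinj hP hl φ hpos linv hlinv hΓ Ss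
    hSs' hred hg hgc2
  obtain ⟨u0, hu0, hu0Γ, b0, hb0, hb0Γ, e0⟩ := nf_gam hC hR hU hn hadd hinj hP hl φ hpos linv hlinv
    hΓ Ss hSs' hred hn' hc
  refine ⟨u * u0⁻¹, ⟨Subgroup.mul_mem _ hu (Subgroup.inv_mem _ hu0),
    Γ.mul_mem huΓ (Γ.inv_mem hu0Γ)⟩, b0⁻¹ * b, ⟨Subgroup.mul_mem _ (Subgroup.inv_mem _ hb0) hb,
    Γ.mul_mem (Γ.inv_mem hb0Γ) hbΓ⟩, ?_⟩
  rw [e, e0]
  group

include hR hU hn hadd hinj hl hlinv hpos in
/-- The `(B, N)`-pair of a twisted group. -/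
theorem twisted_bn {Γ : Subgroup (GL D.Idx K)} (hΓ : Γ ≤ fixS hP hC.af.agrees φ)
    (Bs : List (List ℕ)) (hgok : ∀ S ∈ Bs, GOK hC.af X l φ linv Γ S)
    (hBred : ∀ S ∈ Bs, RedT A X S) (hBne : ∀ S ∈ Bs, S ≠ [])
    (hsub : ∀ S ∈ Bs, subB A X l S = true) (hinjB : injB A X Bs = true)
    (hsq : ∀ S ∈ Bs, sqB A X S = true)
    (HEX : ∀ g ∈ Γ, ∃ Ss : List (List ℕ), (∀ S ∈ Ss, S ∈ Bs) ∧ RedT A X Ss.flatten ∧
      g ∈ cell hC K Ss.flatten) :
    ∃ P : Cfsg.BNPair ↥Γ, P.B = (D.borelSubgroup K ⊓ Γ).subgroupOf Γ ∧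
      P.N = (D.monomialSubgroup K ⊓ Γ).subgroupOf Γ ∧
      P.S = {s : ↥Γ | (s : GL D.Idx K) ∈ {s | ∃ S ∈ Bs, s = nw hC.af K (plain S)}} := by
  have hsqH : ∀ S ∈ Bs, nw hC.af K (plain S) * nw hC.af K (plain S) ∈ D.diagonalSubgroup K := by
    intro S hS
    have hlt : ∀ p ∈ plain (S ++ S), p.1 < A.rank := plain_lt (by
      intro i hi
      rcases List.mem_append.mp hi with h | h <;> exact (hgok S hS).ok.lt i h)
    have h1 := mem_H_of_id hC hR hU hn hadd hinj hlt (by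
      rw [plain_fst]
      exact sq_of_sqB (hsq S hS))
    rwa [plain_append, nw_append] at h1
  apply bnPair_of_internal
  · intro g hg
    obtain ⟨Ss, hSs, hred, hc⟩ := HEX g hg
    have hSs' : ∀ S ∈ Ss, GOK hC.af X l φ linv Γ S := fun S hS => hgok S (hSs S hS)
    obtain ⟨u, hu, huΓ, b, hb, hbΓ, e⟩ := nf_gam hC hR hU hn hadd hinj hP hl φ hpos linv hlinv hΓ
      Ss hSs' hred hg hc
    rw [e]
    have hlt := flatten_lt Ss (fun S hS => (hSs' S hS).ok)
    exact Subgroup.mul_mem _ (Subgroup.mul_mem _ (Subgroup.mem_sup_left ⟨hu, huΓ⟩)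
      (Subgroup.mem_sup_right ⟨nw_mem_monomial hC (plain_lt hlt),
        nw_flatten_mem hC φ linv Ss hSs'⟩)) (Subgroup.mem_sup_left ⟨hb, hbΓ⟩)
  · intro n hn' t ht
    rw [borel_inf_monomial hC.af hC.pw] at ht
    have hnn := monomial_le_normalizer hC.af K hn'.1
    exact le_sup_right (a := D.posUnipotent K)
      ((Subgroup.mem_set_normalizer_iff.mp hnn t).mp ht)
  · rintro s ⟨S, hS, rfl⟩
    exact ⟨nw_mem_monomial hC (plain_lt (hgok S hS).ok.lt), (hgok S hS).nmem⟩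
  · rintro s ⟨S, hS, rfl⟩
    exact le_sup_right (a := D.posUnipotent K) (hsqH S hS)
  · rintro s ⟨S, hS, rfl⟩ s' ⟨T, hT, rfl⟩ h
    have hSlt := (hgok S hS).ok.lt
    have hTlt := (hgok T hT).ok.lt
    have h1 : nw hC.af K (plain T) ∈ cell hC K T := by
      unfold cell
      rw [DoubleCoset.mem_doubleCoset]
      exact ⟨1, Subgroup.one_mem _, 1, Subgroup.one_mem _, by group⟩
    have h2 : nw hC.af K (plain T) ∈ cell hC K S := by
      unfold cell
      rw [DoubleCoset.mem_doubleCoset]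
      exact ⟨1, Subgroup.one_mem _, _, h, by group⟩
    have hw := wprod_eq_of_meet hC hR hU hn hadd hinj hSlt hTlt h2 h1
    have hST : S = T := inj_of_injB hinjB hS hT (by
      intro r hr
      have := congrArg (fun σ : Equiv.Perm (Fin A.n) => (σ ⟨r, hr⟩).val) hw
      beta_reduce at this
      rwa [wprod_val hC hR hU hn hSlt, wprod_val hC hR hU hn hTlt] at this)
    rw [hST]
  · intro n hn'
    obtain ⟨Ss, hSs, hred, hc⟩ := HEX n hn'.2
    have hSs' : ∀ S ∈ Ss, GOK hC.af X l φ linv Γ S := fun S hS => hgok S (hSs S hS)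
    have hlt := flatten_lt Ss (fun S hS => (hSs' S hS).ok)
    have haN : nw hC.af K (plain Ss.flatten) ∈ D.monomialSubgroup K :=
      nw_mem_monomial hC (plain_lt hlt)
    refine ⟨nw hC.af K (plain Ss.flatten), ?_, ?_⟩
    · clear hc hred hlt haN hSs'
      induction Ss with
      | nil => exact Subgroup.one_mem _
      | cons S Ss ih =>
        rw [List.flatten_cons, plain_append, nw_append]
        exact Subgroup.mul_mem _ (Subgroup.subset_closure ⟨S, hSs S List.mem_cons_self, rfl⟩)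
          (ih (fun T hT => hSs T (List.mem_cons_of_mem _ hT)))
    · have h3 := dc_unique hC hadd hinj haN hn'.1 hc (DoubleCoset.mem_doubleCoset.mpr
        ⟨1, Subgroup.one_mem _, 1, Subgroup.one_mem _, by group⟩)
      have hnn := monomial_le_normalizer hC.af K (Subgroup.inv_mem _ haN)
      have h4 := (Subgroup.mem_set_normalizer_iff.mp hnn _).mp h3
      have e : (nw hC.af K (plain Ss.flatten))⁻¹ * n =
          (nw hC.af K (plain Ss.flatten))⁻¹ * (n * (nw hC.af K (plain Ss.flatten))⁻¹) *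
            (nw hC.af K (plain Ss.flatten))⁻¹⁻¹ := by group
      rw [e]
      exact le_sup_right (a := D.posUnipotent K) h4
  · rintro s ⟨S, hS, rfl⟩ n hn' b hb
    have hSlt := (hgok S hS).ok.lt
    have hsΓ := (hgok S hS).nmem
    have hgΓ : nw hC.af K (plain S) * b * n ∈ Γ := Γ.mul_mem (Γ.mul_mem hsΓ hb.2) hn'.2
    obtain ⟨T, hT, hgc⟩ := stepA hC hadd S hSlt hn'.1 hb.1
    have hTlt : ∀ i ∈ T, i < A.rank := fun i hi => hSlt i (hT.subset hi)
    have hw := wperm_of_fixed hC hR hU hn hadd hinj hP hl φ hpos hTlt hn'.1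
      ((mem_fixS hP hC.af.agrees φ _).mp (hΓ hn'.2)) ((mem_fixS hP hC.af.agrees φ _).mp (hΓ hgΓ))
      hgc
    rcases sub_of_subB (hsub S hS) hT hw with hT0 | hTS
    · right
      rw [hT0] at hgc
      have h1 : nw hC.af K (plain []) = 1 := rfl
      rw [h1, one_mul] at hgc
      exact stepC hC hR hU hn hadd hinj hP hl φ hpos linv hlinv hΓ Bs hgok HEX hn'.2 hgΓ hgc
    · left
      rw [hTS] at hgc
      exact stepC hC hR hU hn hadd hinj hP hl φ hpos linv hlinv hΓ Bs hgok HEX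
        (Γ.mul_mem hsΓ hn'.2) hgΓ hgc
  · rintro s ⟨S, hS, rfl⟩
    have hok := (hgok S hS).ok
    have hSlt := hok.lt
    have hsΓ := (hgok S hS).nmem
    have hf : Comp φ linv S (fun _ => (1 : K)) := fun j _ => map_one φ
    have hxΓ := (hgok S hS).xmem _ hf
    have hbe := blk_eq hC hok (fun _ => (1 : K))
    refine ⟨xS hC.af K S (fun _ => 1), ⟨?_, ?_⟩, ?_⟩
    · apply le_sup_left (b := D.diagonalSubgroup K)
      unfold xS
      apply Subgroup.list_prod_mem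
      intro x hx
      obtain ⟨i, hi, rfl⟩ := List.mem_map.mp hx
      exact xg_pos_mem hC.af (hC.af.sfacts.simple_lt i (hSlt i hi))
        (posA_simple hC.mf (hSlt i hi) (hC.af.sfacts.simple_lt i (hSlt i hi))) _
    · have e : xS hC.af K S (fun _ => (1 : K)) =
          blk hC.af K S (fun _ => 1) * (nw hC.af K (plain S))⁻¹ := by
        rw [hbe]
        group
      rw [e]
      exact Γ.mul_mem hxΓ (Γ.inv_mem hsΓ)
    · intro hB
      rw [mul_assoc, ← hbe] at hB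
      have hb0 : blk hC.af K S (fun _ => (0 : K)) = nw hC.af K (plain S) := by
        rw [blk_eq hC hok]
        have h0 : xS hC.af K S (fun _ => (0 : K)) = 1 := by
          unfold xS
          apply List.prod_eq_one
          intro x hx
          obtain ⟨i, hi, rfl⟩ := List.mem_map.mp hx
          exact xg_zero hadd hC.af _
        rw [h0, one_mul]
      have hc'B : (nw hC.af K (plain S) * nw hC.af K (plain S))⁻¹ *
          (nw hC.af K (plain S) * blk hC.af K S (fun _ => (1 : K))) ∈ D.borelSubgroup K :=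
        Subgroup.mul_mem _ (Subgroup.inv_mem _ (le_sup_right (a := D.posUnipotent K) (hsqH S hS)))
          hB
      have e : blk hC.af K S (fun _ => (1 : K)) * 1 = blk hC.af K S (fun _ => (0 : K)) *
          ((nw hC.af K (plain S) * nw hC.af K (plain S))⁻¹ *
          (nw hC.af K (plain S) * blk hC.af K S (fun _ => (1 : K)))) := by
        rw [hb0]
        group
      have hred : RedT A X (S ++ []) := by
        rw [List.append_nil]
        exact hBred S hS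
      have h1 := blk_inj hC hadd hinj hred (by rw [cell_nil hC]; exact Subgroup.one_mem _)
        (by rw [cell_nil hC]; exact hc'B) e
      obtain ⟨i, hi⟩ := List.exists_mem_of_ne_nil S (hBne S hS)
      exact one_ne_zero (h1.1 i hi)

end

end Cfsg.Agent.Lib.Helper18.TwBN3
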