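import Mathlib
import Cfsg.Agent.Lib.Helper18.TwBN3

set_option autoImplicit false
set_option linter.unusedSimpArgs false
set_option linter.unusedSectionVars false
set_option linter.unusedVariables false

/-!
# Irreducibility of the `(B, N)`-pair of a twisted group
-/

namespace Cfsg.Agent.Lib.Helper18.TwSimp

open Cfsg Cfsg.Lie Cfsg.Agent.Lib.Helper18.Fast Cfsg.Agent.Lib.Helper18.Grade
  Cfsg.Agent.Lib.Helper18.Facts Cfsg.Agent.Lib.Helper18.AllRoots Cfsg.Agent.Lib.Helper18.Loop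
  Cfsg.Agent.Lib.Helper18.Weyl Cfsg.Agent.Lib.Helper18.RootSys Cfsg.Agent.Lib.Helper18.Orbit
  Cfsg.Agent.Lib.Helper18.Units Cfsg.Agent.Lib.Helper18.Sub Cfsg.Agent.Lib.Helper18.Norm
  Cfsg.Agent.Lib.Helper18.HAll Cfsg.Agent.Lib.Helper18.Torus Cfsg.Agent.Lib.Helper18.Pos
  Cfsg.Agent.Lib.Helper18.WGroup Cfsg.Agent.Lib.Helper18.BNChev Cfsg.Agent.Lib.Helper18.Mono
  Cfsg.Agent.Lib.Helper18.BNPairC Cfsg.Agent.Lib.Helper18.UOrd Cfsg.Agent.Lib.Helper18.Cox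
  Cfsg.Agent.Lib.Helper18.Long Cfsg.Agent.Lib.Helper18.Core Cfsg.Agent.Lib.Helper18.Conj
  Cfsg.Agent.Lib.Helper18.RFact Cfsg.Agent.Lib.Helper18.BNCell Cfsg.Agent.Lib.Helper18.Vec
  Cfsg.Agent.Lib.Helper18.XMat Cfsg.Agent.Lib.Helper18.Cells Cfsg.Agent.Lib.Helper18.Cox2
  Cfsg.Agent.Lib.Helper18.Cells2 Cfsg.Agent.Lib.Helper18.BNAbs Cfsg.Agent.Lib.Helper18.Poly2
  Cfsg.Agent.Lib.Helper18.Graph Cfsg.Agent.Lib.Helper18.Tw0 Cfsg.Agent.Lib.Helper18.Tw1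
  Cfsg.Agent.Lib.Helper18.Par Cfsg.Agent.Lib.Helper18.Par2 Cfsg.Agent.Lib.Helper18.Tw2
  Cfsg.Agent.Lib.Helper18.Tw3 Cfsg.Agent.Lib.Helper18.Tw4 Cfsg.Agent.Lib.Helper18.Tw5
  Cfsg.Agent.Lib.Helper18.Tw6 Cfsg.Agent.Lib.Helper18.Tw7 Cfsg.Agent.Lib.Helper18.Tw8
  Cfsg.Agent.Lib.Helper18.TwBN Cfsg.Agent.Lib.Helper18.TwBN2 Cfsg.Agent.Lib.Helper18.TwBN3

/-- A `(B, N)`-pair whose distinguished generators form a chain of non-commuting neighbours is
irreducible. -/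
theorem irreducible_of_chain {G : Type*} [Group G] (P : Cfsg.BNPair G) (k : ℕ) (f : Fin k → G)
    (hS : ∀ s, s ∈ P.S ↔ ∃ i, s = f i)
    (hch : ∀ (i : ℕ) (h : i + 1 < k),
      f ⟨i, Nat.lt_of_succ_lt h⟩ * f ⟨i + 1, h⟩ * (f ⟨i, Nat.lt_of_succ_lt h⟩)⁻¹ *
        (f ⟨i + 1, h⟩)⁻¹ ∉ P.B) :
    P.Irreducible := by
  intro J hJ hJne hJc
  by_contra hcon
  push_neg at hcon
  have hfS : ∀ i, f i ∈ P.S := fun i => (hS _).mpr ⟨i, rfl⟩
  have step : ∀ (i : ℕ) (h : i + 1 < k),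
      (f ⟨i, Nat.lt_of_succ_lt h⟩ ∈ J ↔ f ⟨i + 1, h⟩ ∈ J) := by
    intro i h
    constructor
    · intro h1
      by_contra h2
      exact hch i h (hcon _ h1 _ ⟨hfS _, h2⟩)
    · intro h1
      by_contra h2
      have h3 := hcon _ h1 _ ⟨hfS ⟨i, Nat.lt_of_succ_lt h⟩, h2⟩
      apply hch i h
      have e : f ⟨i, Nat.lt_of_succ_lt h⟩ * f ⟨i + 1, h⟩ * (f ⟨i, Nat.lt_of_succ_lt h⟩)⁻¹ *
          (f ⟨i + 1, h⟩)⁻¹ = (f ⟨i + 1, h⟩ * f ⟨i, Nat.lt_of_succ_lt h⟩ * (f ⟨i + 1, h⟩)⁻¹ *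
            (f ⟨i, Nat.lt_of_succ_lt h⟩)⁻¹)⁻¹ := by group
      rw [e]
      exact P.B.inv_mem h3
  have all : ∀ (i : ℕ) (h : i < k), (f ⟨i, h⟩ ∈ J ↔ f ⟨0, Nat.lt_of_le_of_lt (Nat.zero_le i) h⟩ ∈ J) := by
    intro i
    induction i with
    | zero => intro h; exact Iff.rfl
    | succ i ih =>
      intro h
      rw [← step i h]
      exact ih (Nat.lt_of_succ_lt h)
  obtain ⟨s, hs⟩ := hJne
  obtain ⟨s', hs'⟩ := hJc
  obtain ⟨i, rfl⟩ := (hS s).mp (hJ hs)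
  obtain ⟨j, rfl⟩ := (hS s').mp hs'.1
  have h0 := (all i.1 i.2).mp hs
  exact hs'.2 ((all j.1 j.2).mpr h0)

/-- A group with a `(B, N)`-pair with a distinguished generator is not trivial. -/
theorem nontrivial_of_bn {G : Type*} [Group G] (P : Cfsg.BNPair G) (hS : P.S.Nonempty) :
    Nontrivial G := by
  by_contra hnt
  rw [not_nontrivial_iff_subsingleton] at hnt
  obtain ⟨s, hs⟩ := hS
  apply P.conj_ne s hs
  ext x
  have hx : x = 1 := Subsingleton.elim _ _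
  constructor
  · intro _
    rw [hx]
    exact P.B.one_mem
  · intro _
    exact ⟨1, P.B.one_mem, Subsingleton.elim _ _⟩

/-- The intersection of a solvable subgroup with a subgroup is solvable. -/
theorem solvable_inf {G : Type*} [Group G] (B Γ : Subgroup G) (h : Group.IsSolvable ↥B) :
    Group.IsSolvable ↥((B ⊓ Γ).subgroupOf Γ) := by
  let f : ↥((B ⊓ Γ).subgroupOf Γ) →* ↥B :=
    { toFun := fun x => ⟨x.1.1, (Subgroup.mem_subgroupOf.mp x.2).1⟩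
      map_one' := rfl
      map_mul' := fun x y => rfl }
  apply Group.isSolvable_of_isSolvable_injective (f := f)
  intro x y e
  apply Subtype.ext
  apply Subtype.ext
  exact congrArg (fun z : ↥B => z.1) e

variable {A : FData} {D : ChevalleyDatum} {K : Type*} [Field K] {X : WD} {m : ℕ → ℕ → ℤ}
  {w : ℕ → ℤ} {N : ℕ} {ord rnk : ℕ → ℕ} {bz : ℕ → ℕ → ℤ} {w' : ℕ → ℤ} {P : SPerm} {l : List ℕ}

/-- The Weyl group elements of two blocks do not commute. -/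
def ncB (A : FData) (X : WD) (S T : List ℕ) : Bool :=
  (List.range A.n).any fun r => decide (wperm X ((S ++ T) ++ (T ++ S).reverse) r ≠ r)

/-- Consecutive blocks do not commute. -/
def chainB (A : FData) (X : WD) (Bs : List (List ℕ)) : Bool :=
  (List.range (Bs.length - 1)).all fun i => ncB A X (Bs.getD i []) (Bs.getD (i + 1) [])

section

variable (hC : CFacts A D X m w) (hR : RFacts A X) (hU : UFacts A w' N ord rnk bz) (hn : 0 < A.n)
  (hadd : ∀ r < D.nroots, ∀ t u : K, D.x K r t * D.x K r u = D.x K r (t + u))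
  (hinj : ∀ r < D.nroots, ∀ t : K, D.x K r t = 1 → t = 0)
  (hP : P.OK A) (hl : SimpleOK P A l) (φ : K →+* K)
  (hpos : ∀ r < A.n, PosA A r → PosA A (P.rho r))
  (linv : ℕ → ℕ) (hlinv : ∀ i < A.rank, linv (l.getD i 0) = i)

include hU in
theorem not_comm_of_ncB {S T : List ℕ} (hS : ∀ i ∈ S, i < A.rank) (hT : ∀ i ∈ T, i < A.rank)
    (h : ncB A X S T = true) :
    nw hC.af K (plain S) * nw hC.af K (plain T) * (nw hC.af K (plain S))⁻¹ *
      (nw hC.af K (plain T))⁻¹ ∉ D.borelSubgroup K := by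
  intro hB
  have hST : ∀ i ∈ S ++ T, i < A.rank := by
    intro i hi
    rcases List.mem_append.mp hi with h | h
    · exact hS i h
    · exact hT i h
  have hTS : ∀ i ∈ T ++ S, i < A.rank := by
    intro i hi
    rcases List.mem_append.mp hi with h | h
    · exact hT i h
    · exact hS i h
  have e : nw hC.af K (plain S) * nw hC.af K (plain T) * (nw hC.af K (plain S))⁻¹ *
      (nw hC.af K (plain T))⁻¹ = nw hC.af K (plain (S ++ T) ++ winv (plain (T ++ S))) := by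
    rw [nw_cmp, plain_append, plain_append, nw_append, nw_append]
    group
  rw [e] at hB
  have hN : nw hC.af K (plain (S ++ T) ++ winv (plain (T ++ S))) ∈ D.monomialSubgroup K :=
    nw_mem_monomial hC (cmp_lt hTS hST)
  have hH : nw hC.af K (plain (S ++ T) ++ winv (plain (T ++ S))) ∈ D.diagonalSubgroup K := by
    rw [← borel_inf_monomial hC.af hC.pw]
    exact ⟨hB, hN⟩
  have hid := id_of_mem_H hC hU (cmp_lt hTS hST) hH
  rw [cmp_fst] at hid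
  unfold ncB at h
  rw [List.any_eq_true] at h
  obtain ⟨r, hr, h1⟩ := h
  rw [decide_eq_true_eq] at h1
  exact h1 (hid r (List.mem_range.mp hr))

include hR hU hn hadd hinj hl hlinv hpos in
/-- The `(B, N)`-pair of a twisted group is irreducible. -/
theorem twisted_bn_irr {Γ : Subgroup (GL D.Idx K)} (hΓ : Γ ≤ fixS hP hC.af.agrees φ)
    (Bs : List (List ℕ)) (hgok : ∀ S ∈ Bs, GOK hC.af X l φ linv Γ S)
    (hBred : ∀ S ∈ Bs, RedT A X S) (hBne : ∀ S ∈ Bs, S ≠ [])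
    (hsub : ∀ S ∈ Bs, subB A X l S = true) (hinjB : injB A X Bs = true)
    (hsq : ∀ S ∈ Bs, sqB A X S = true)
    (HEX : ∀ g ∈ Γ, ∃ Ss : List (List ℕ), (∀ S ∈ Ss, S ∈ Bs) ∧ RedT A X Ss.flatten ∧
      g ∈ cell hC K Ss.flatten)
    (hch : chainB A X Bs = true) (hBs0 : Bs ≠ []) :
    ∃ P : Cfsg.BNPair ↥Γ, P.B = (D.borelSubgroup K ⊓ Γ).subgroupOf Γ ∧
      P.N = (D.monomialSubgroup K ⊓ Γ).subgroupOf Γ ∧ P.Irreducible ∧ P.S.Nonempty := by
  obtain ⟨P, hB, hN, hS⟩ := twisted_bn hC hR hU hn hadd hinj hP hl φ hpos linv hlinv hΓ Bs hgok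
    hBred hBne hsub hinjB hsq HEX
  let f : Fin Bs.length → ↥Γ := fun i =>
    ⟨nw hC.af K (plain Bs[i]), (hgok _ (List.getElem_mem _)).nmem⟩
  have hS' : ∀ s, s ∈ P.S ↔ ∃ i, s = f i := by
    intro s
    rw [hS]
    constructor
    · rintro ⟨S, hSm, e⟩
      obtain ⟨i, hi, rfl⟩ := List.getElem_of_mem hSm
      exact ⟨⟨i, hi⟩, Subtype.ext e⟩
    · rintro ⟨i, rfl⟩
      exact ⟨Bs[i], List.getElem_mem _, rfl⟩
  refine ⟨P, hB, hN, ?_, ?_⟩
  · apply irreducible_of_chain P Bs.length f hS'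
    intro i h hmem
    rw [hB, Subgroup.mem_subgroupOf] at hmem
    have h1 := hmem.1
    unfold chainB at hch
    rw [List.all_eq_true] at hch
    have h2 := hch i (List.mem_range.mpr (by omega))
    rw [List.getD_eq_getElem _ _ (Nat.lt_of_succ_lt h), List.getD_eq_getElem _ _ h] at h2
    exact not_comm_of_ncB hC hU (hgok _ (List.getElem_mem _)).ok.lt
      (hgok _ (List.getElem_mem _)).ok.lt h2 h1
  · obtain ⟨S, hSm⟩ := List.exists_mem_of_ne_nil Bs hBs0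
    obtain ⟨i, hi, rfl⟩ := List.getElem_of_mem hSm
    exact ⟨f ⟨i, hi⟩, (hS' _).mpr ⟨⟨i, hi⟩, rfl⟩⟩

end

end Cfsg.Agent.Lib.Helper18.TwSimp
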