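import Cfsg.Agent.S1069
import Cfsg.Agent.S1156
import Cfsg.Agent.S1157
import Cfsg.Agent.Lib.Helper18.Ree24
import Cfsg.Agent.Lib.Helper18.Ree27
import Cfsg.Agent.Lib.Helper18.ReeG
import Cfsg.Agent.Lib.Helper18.ReeMultStmt

/-!
# The Schur multiplier of `²G₂(q)` is trivial: assembly of the pieces of `ReeMultStmt` (S2113)
-/

set_option autoImplicit false

namespace Cfsg.Agent.Lib.Helper18.ReeMultTop

open Cfsg.Agent.Lib.Helper18 Cfsg.Agent.Lib.Helper18.ReeMultStmt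

open scoped commutatorElement

universe u v w

/-- the conclusion of the analysis at the prime 3 -/
def P3 : Prop :=
  ∀ (Γ : Type w) [Group Γ] (G : Type u) [Group G] (K : Type v) [Field K] [Fintype K] (m : ℕ)
    (φ : K →+* K) (x : K → K → K → G) (e : K → G) (σ : Γ →* G) (_ : Ext Γ G K m φ x e σ)
    (U : Subgroup G), (∀ g : G, g ∈ U ↔ ∃ t u v, g = x t u v) →
    ∀ z ∈ σ.ker, z ∈ ⁅U.comap σ, U.comap σ⁆ → z = 1

/-- the prime 3 from the pieces -/
theorem p3 (hEXR : EXR.{v}) (hZZ : ZZ.{u, v, w}) (hZU0 : ZU0.{u, v, w}) (hZT : ZT.{u, v, w})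
    (hZCENT : ZCENT.{u, v, w}) (hU0U0 : U0U0.{u, v, w}) (hAAB : AAB.{u, v, w})
    (hLCONJ : LCONJ.{u, v, w}) (hTT : TT.{u, v, w}) (hFIN3 : FIN3.{u, v, w}) :
    P3.{u, v, w} := by
  intro Γ _ G _ K _ _ m φ x e σ E U hU z hz hz'
  obtain ⟨s₁, hs0, -, hs3⟩ := hEXR K m E.par.hm E.par.cardK
  have h1 := hZZ Γ G K m φ x e σ E
  have h2 := hZU0 Γ G K m φ x e σ E
  have h3 := hZT Γ G K m φ x e σ E h1 h2
  have h4 := hZCENT Γ G K m φ x e σ E h1 h2 h3
  have h5 := hU0U0 Γ G K m φ x e σ E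
  have h6 := hAAB Γ G K m φ x e σ E h4 h5
  have h7 := hLCONJ Γ G K m φ x e σ E s₁ hs0 hs3 h4 h6
  have h8 := hTT Γ G K m φ x e σ E s₁ hs0 hs3 h4 h6 h7
  exact hFIN3 Γ G K m φ x e σ E U hU s₁ hs0 hs3 h4 h6 h7 h8 z hz hz'

/-- the parametrization of the real small Ree group -/
theorem opar_ree {K : Type u} [Field K] [Fintype K] {m : ℕ} (hm : 1 ≤ m)
    (hK : Fintype.card K = 3 ^ (2 * m + 1)) :
    ∃ (φ : K →+* K) (x : K → K → K → ↥(Cfsg.Lie.twistedG2 K (3 ^ m)))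
      (e : K → ↥(Cfsg.Lie.twistedG2 K (3 ^ m))),
      ReeOutStmt.OPar ↥(Cfsg.Lie.twistedG2 K (3 ^ m)) K m φ x e := by
  classical
  have := Ree4.charP3 hK
  obtain ⟨φ, hφ, h3⟩ := Ree4.exists_theta hK
  let x : K → K → K → ↥(Cfsg.Lie.twistedG2 K (3 ^ m)) :=
    fun t u v => ⟨Ree2.reeU φ t u v, Ree4.reeU_mem_Gam hφ t u v⟩
  let e : K → ↥(Cfsg.Lie.twistedG2 K (3 ^ m)) :=
    fun s => if hs : s ≠ 0 then ⟨Ree7.eta φ s, Ree11.eta_mem_Gam hφ h3 hK rfl hs⟩ else 1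
  have he : ∀ s (hs : s ≠ 0),
      e s = ⟨Ree7.eta φ s, Ree11.eta_mem_Gam hφ h3 hK rfl hs⟩ := fun s hs => dif_pos hs
  refine ⟨φ, x, e, ?_⟩
  exact
    { hm := hm
      cardK := hK
      char3 := by
        have := CharP.cast_eq_zero K 3
        exact_mod_cast this
      phi := hφ
      phi3 := h3
      x_inj := fun t u v t' u' v' h => Ree3.reeU_inj (congrArg Subtype.val h)
      x_mul := fun t u v t' u' v' => Subtype.ext (Ree27.reeU_mul h3 t u v t' u' v')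
      e_inj := fun s s' hs hs' h => by
        rw [he s hs, he s' hs'] at h
        exact Ree7.eta_inj φ hs hs' (congrArg Subtype.val h)
      e_mul := fun s s' hs hs' => by
        rw [he s hs, he s' hs', he (s * s') (mul_ne_zero hs hs')]
        exact Subtype.ext (Ree7.eta_mul φ hs hs')
      e_x := fun s hs t u v => by
        rw [he s hs]
        exact Subtype.ext (Ree27.eta_mul_reeU h3 hs t u v) }

/-- the Sylow 2-subgroups of the real small Ree group are elementary abelian of order 8 -/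
theorem sylow2_ree {K : Type u} [Field K] [Fintype K] {m : ℕ}
    (hK : Fintype.card K = 3 ^ (2 * m + 1)) (S : Sylow 2 ↥(Cfsg.Lie.twistedG2 K (3 ^ m))) :
    Nat.card S = 8 ∧ ∀ x ∈ S, x * x = 1 := by
  have := Ree4.charP3 hK
  obtain ⟨φ, hφ, h3⟩ := Ree4.exists_theta hK
  obtain ⟨Sg⟩ := Ree13.exists_sig φ (ReeG.graph_of_card hK)
  exact Ree24.sylow2 hφ h3 hK rfl Sg S

/-- a finite stem extension of the small Ree group is trivial -/
theorem ker_eq_bot (hP3 : P3.{u, u, u}) (hP2ELT : P2ELT.{u}) (hFIN2 : FIN2.{u, u})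
    (hSYLU : ReeOutStmt.SYLU.{u, u})
    {K : Type u} [Field K] [Fintype K] {m : ℕ} (hm : 1 ≤ m)
    (hK : Fintype.card K = 3 ^ (2 * m + 1))
    {Γ : Type u} [Group Γ] [Finite Γ] (σ : Γ →* ↥(Cfsg.Lie.twistedG2 K (3 ^ m)))
    (hσ : Cfsg.IsStemExtension σ) : σ.ker = ⊥ := by
  obtain ⟨hs, hc, hcomm⟩ := hσ
  apply Cfsg.Agent.Lib.Helper35.Stem.eq_bot_of_no_prime_order
  intro z hz hprime
  have hzc := hc hz
  have hz' := hcomm hz
  by_cases h3 : orderOf z = 3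
  · obtain ⟨φ, x, e, hp⟩ := opar_ree hm hK
    obtain ⟨P, hP, -⟩ := hSYLU ↥(Cfsg.Lie.twistedG2 K (3 ^ m)) K m φ x e hp
      (Cfsg.Agent.S1069.result hK)
    have hidx : ((P : Subgroup ↥(Cfsg.Lie.twistedG2 K (3 ^ m))).comap σ).index =
        (P : Subgroup ↥(Cfsg.Lie.twistedG2 K (3 ^ m))).index :=
      Subgroup.index_comap_of_surjective _ hs
    have hco : Nat.Coprime ((P : Subgroup ↥(Cfsg.Lie.twistedG2 K (3 ^ m))).comap σ).index
        (orderOf z) := by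
      rw [hidx, h3, Nat.coprime_comm]
      exact (Nat.Prime.coprime_iff_not_dvd Nat.prime_three).mpr P.not_dvd_index
    have h4 := Cfsg.Agent.Lib.Helper35.Stem.mem_commutator_of_coprime _ hzc hz' hco
    have h5 := hP3 Γ ↥(Cfsg.Lie.twistedG2 K (3 ^ m)) K m φ x e σ ⟨hp, hs, hc⟩
      (P : Subgroup ↥(Cfsg.Lie.twistedG2 K (3 ^ m))) hP z hz h4
    rw [h5, orderOf_one] at h3
    exact absurd h3 (by norm_num)
  by_cases h2 : orderOf z = 2
  · let S : Sylow 2 ↥(Cfsg.Lie.twistedG2 K (3 ^ m)) := default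
    obtain ⟨hcardS, hexpS⟩ := sylow2_ree hK S
    obtain ⟨hcent, hnorm⟩ := Cfsg.Agent.S1157.result hm hK S
    obtain ⟨n, hn7, hnS, hnfpf⟩ :=
      hP2ELT ↥(Cfsg.Lie.twistedG2 K (3 ^ m)) S hcardS hexpS hcent hnorm
    have hidx : ((S : Subgroup ↥(Cfsg.Lie.twistedG2 K (3 ^ m))).comap σ).index =
        (S : Subgroup ↥(Cfsg.Lie.twistedG2 K (3 ^ m))).index :=
      Subgroup.index_comap_of_surjective _ hs
    have hco : Nat.Coprime ((S : Subgroup ↥(Cfsg.Lie.twistedG2 K (3 ^ m))).comap σ).index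
        (orderOf z) := by
      rw [hidx, h2, Nat.coprime_comm]
      exact (Nat.Prime.coprime_iff_not_dvd Nat.prime_two).mpr S.not_dvd_index
    have h4 := Cfsg.Agent.Lib.Helper35.Stem.mem_commutator_of_coprime _ hzc hz' hco
    have h5 := hFIN2 Γ ↥(Cfsg.Lie.twistedG2 K (3 ^ m)) σ hs hc
      (S : Subgroup ↥(Cfsg.Lie.twistedG2 K (3 ^ m))) n hcardS hexpS hn7 hnS hnfpf z hz h4
    rw [h5, orderOf_one] at h2
    exact absurd h2 (by norm_num)
  · have : Fact (orderOf z).Prime := ⟨hprime⟩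
    have hlt : 3 < orderOf z := by
      by_contra hle
      have hle' : orderOf z ≤ 3 := by omega
      have h2le := hprime.two_le
      interval_cases h : orderOf z
      · exact h2 rfl
      · exact h3 rfl
    let S : Sylow (orderOf z) Γ := default
    have hp : IsPGroup (orderOf z) ((S : Subgroup Γ).map σ) := S.isPGroup'.map σ
    obtain ⟨Q, hQ⟩ := hp.exists_le_sylow
    have hcyc : IsCyclic Q := Cfsg.Agent.S1156.result hm hK hlt Q
    have hcyc' : IsCyclic ((S : Subgroup Γ).map σ) :=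
      isCyclic_of_injective (Subgroup.inclusion hQ) (Subgroup.inclusion_injective hQ)
    exact Cfsg.Agent.Lib.Helper35.Stem.not_prime_order_of_sylow_comm S
      (Cfsg.Agent.Lib.Helper35.Stem.comm_of_map_isCyclic σ hc S hcyc') hzc hz' rfl

/-- the Schur multiplier of the small Ree group is trivial -/
theorem schur_ree (hP3 : P3.{u, u, u}) (hP2ELT : P2ELT.{u}) (hFIN2 : FIN2.{u, u})
    (hSYLU : ReeOutStmt.SYLU.{u, u})
    {K : Type u} [Field K] [Fintype K] {m : ℕ} (hm : 1 ≤ m)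
    (hK : Fintype.card K = 3 ^ (2 * m + 1)) :
    Cfsg.HasCyclicSchurMultiplier ↥(Cfsg.Lie.twistedG2 K (3 ^ m)) 1 := by
  apply Cfsg.Agent.Lib.Helper35.Stem.hasCyclicSchurMultiplier_one
  intro Γ _ _ σ hσ
  exact ker_eq_bot hP3 hP2ELT hFIN2 hSYLU hm hK σ hσ

end Cfsg.Agent.Lib.Helper18.ReeMultTop
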