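import Cfsg.Agent.S1069
import Cfsg.Agent.S1155
import Cfsg.Agent.S1073
import Cfsg.Agent.Lib.Helper18.Ree27
import Cfsg.Agent.Lib.Helper18.ReeG
import Cfsg.Agent.Lib.Helper18.ReeOutStmt

/-!
# `|Out(²G₂(q))| = 2m+1`: the real small Ree group satisfies the hypotheses of `ReeOutStmt.Top`
(S2127), given the Frobenius automorphism.
-/

set_option autoImplicit false

namespace Cfsg.Agent.Lib.Helper18.ReeOutInst

open Cfsg.Agent.Lib.Helper18

universe u

/-- `Top` and the Frobenius automorphism give the order of the outer automorphism group of the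
real small Ree group -/
theorem out_ree (hTop : ReeOutStmt.Top.{u, u}) {K : Type u} [Field K] [Fintype K] {m : ℕ}
    (hm : 1 ≤ m) (hK : Fintype.card K = 3 ^ (2 * m + 1))
    (hF : ∀ φ : K →+* K, (∀ x, φ x = x ^ 3 ^ m) →
      ∃ F : MulAut ↥(Cfsg.Lie.twistedG2 K (3 ^ m)),
        (∀ (g : ↥(Cfsg.Lie.twistedG2 K (3 ^ m))) (t u v : K),
          (g : GL Cfsg.Lie.chevG2.Idx K) = Ree2.reeU φ t u v →
          ((F g : ↥(Cfsg.Lie.twistedG2 K (3 ^ m))) : GL Cfsg.Lie.chevG2.Idx K) =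
            Ree2.reeU φ (t ^ 3) (u ^ 3) (v ^ 3)) ∧
        (∀ (g : ↥(Cfsg.Lie.twistedG2 K (3 ^ m))) (s : K), s ≠ 0 →
          (g : GL Cfsg.Lie.chevG2.Idx K) = Ree7.eta φ s →
          ((F g : ↥(Cfsg.Lie.twistedG2 K (3 ^ m))) : GL Cfsg.Lie.chevG2.Idx K) =
            Ree7.eta φ (s ^ 3))) :
    Nat.card (MulAut ↥(Cfsg.Lie.twistedG2 K (3 ^ m)) ⧸
      (MulAut.conj : ↥(Cfsg.Lie.twistedG2 K (3 ^ m)) →* MulAut ↥(Cfsg.Lie.twistedG2 K (3 ^ m))).range) =
      2 * m + 1 := by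
  classical
  have := Ree4.charP3 hK
  obtain ⟨φ, hφ, h3⟩ := Ree4.exists_theta hK
  obtain ⟨F, hFx, hFe⟩ := hF φ hφ
  let x : K → K → K → ↥(Cfsg.Lie.twistedG2 K (3 ^ m)) :=
    fun t u v => ⟨Ree2.reeU φ t u v, Ree4.reeU_mem_Gam hφ t u v⟩
  let e : K → ↥(Cfsg.Lie.twistedG2 K (3 ^ m)) :=
    fun s => if hs : s ≠ 0 then ⟨Ree7.eta φ s, Ree11.eta_mem_Gam hφ h3 hK rfl hs⟩ else 1
  have he : ∀ s (hs : s ≠ 0),
      e s = ⟨Ree7.eta φ s, Ree11.eta_mem_Gam hφ h3 hK rfl hs⟩ := fun s hs => dif_pos hs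
  have hp : ReeOutStmt.OPar ↥(Cfsg.Lie.twistedG2 K (3 ^ m)) K m φ x e :=
    { hm := hm
      cardK := hK
      char3 := by
        have := CharP.cast_eq_zero K 3
        exact_mod_cast this
      phi := hφ
      phi3 := h3
      x_inj := fun t u v t' u' v' h => Ree3.reeU_inj (congrArg Subtype.val h)
      x_mul := fun t u v t' u' v' => Subtype.ext (Ree27.reeU_mul h3 t u v t' u' v')
      e_inj := fun s s' hs hs' h => by
        rw [he s hs, he s' hs'] at h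
        exact Ree7.eta_inj φ hs hs' (congrArg Subtype.val h)
      e_mul := fun s s' hs hs' => by
        rw [he s hs, he s' hs', he (s * s') (mul_ne_zero hs hs')]
        exact Subtype.ext (Ree7.eta_mul φ hs hs')
      e_x := fun s hs t u v => by
        rw [he s hs]
        exact Subtype.ext (Ree27.eta_mul_reeU h3 hs t u v) }
  refine hTop ↥(Cfsg.Lie.twistedG2 K (3 ^ m)) K m φ x e hp (Cfsg.Agent.S1069.result hK)
    (Cfsg.Agent.S1073.result hm hK).1 (fun P Q h => Cfsg.Agent.S1155.result hm hK P Q h) F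
    (fun t u v => Subtype.ext (hFx _ t u v rfl)) (fun s hs => ?_)
  rw [he s hs, he (s ^ 3) (pow_ne_zero 3 hs)]
  exact Subtype.ext (hFe _ s hs rfl)

end Cfsg.Agent.Lib.Helper18.ReeOutInst
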