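import Cfsg.Agent.Lib.Helper18.ReeOutStmt

/-!
# `|Out(²G₂(q))| = 2m+1`: the assembly of the pieces of `ReeOutStmt` (S2127)
-/

set_option autoImplicit false

namespace Cfsg.Agent.Lib.Helper18.ReeOutTop

open Cfsg.Agent.Lib.Helper18.ReeOutStmt

universe u v

/-- the conclusion `Top` from the pieces -/
theorem top (hREG : REG.{u}) (hOUT : OUTCNT.{u}) (hRIG : RIGID.{u}) (hFIXQ : FIXQ.{u})
    (hSTAB : STAB.{u}) (hCEN : CENTER.{u, v}) (hSYLU : SYLU.{u, v}) (hHSUB : HSUB.{u, v})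
    (hNSYL : NSYL.{u, v}) (hFPF : FPF.{u, v}) (hMEM : ASMMEM.{u, v}) (hSURJ : ASMSURJ.{u, v})
    (hCARD : CARDA0.{u, v}) : ReeOutStmt.Top.{u, v} := by
  intro G _ _ K _ _ m φ x e hp hcard hsimple hTI F hFx hFe
  obtain ⟨P, hP, hPcard⟩ := hSYLU G K m φ x e hp hcard
  obtain ⟨H, hH, hHcard, hHcomm⟩ := hHSUB G K m φ x e hp
  obtain ⟨hle, hQex⟩ := hNSYL G K m φ x e hp hcard hsimple P hP
  obtain ⟨hreg, hnsyl⟩ := hREG G 3 P hTI hQex (by rw [hPcard]; exact hle)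
  have hHP : ∀ h ∈ H, ∀ u ∈ (P : Subgroup G), h * u * h⁻¹ ∈ (P : Subgroup G) := by
    intro h hh u hu
    obtain ⟨s, hs, rfl⟩ := (hH h).1 hh
    obtain ⟨t, u', v, rfl⟩ := (hP u).1 hu
    rw [hp.e_x s hs, mul_assoc, mul_inv_cancel, mul_one]
    exact (hP _).2 ⟨_, _, _, rfl⟩
  obtain ⟨s₀, hs₀, hfpf⟩ := hFPF G K m φ x e hp
  have hfp : ∃ h₀ ∈ H, ∀ u ∈ (P : Subgroup G), h₀ * u = u * h₀ → u = 1 := by
    refine ⟨e s₀, (hH _).2 ⟨s₀, hs₀, rfl⟩, ?_⟩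
    intro u hu hc
    obtain ⟨t, u', v, rfl⟩ := (hP u).1 hu
    exact hfpf t u' v hc
  obtain ⟨Q, hQP, hHQ, huniq⟩ := hFIXQ G 3 P H hTI hreg hQex hHcomm hHP hfp
  have hnorm := hSTAB G 3 P Q H hTI hreg hQP hnsyl (by rw [hPcard, hHcard]; exact hcard) hHP hHQ
  have hcen := hCEN G K m φ x e hp hsimple
  have hout := hOUT G 3 P Q hcen hQP hreg
  have hsit : Sit G K m φ x e P Q H F :=
    { par := hp, memP := hP, memH := hH, QP := hQP, normQ := hHQ, norm := hnorm, uniq := huniq,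
      rigid := hRIG G 3 P Q hsimple hQP hreg, Fx := hFx, Fe := hFe }
  have hmem := hMEM G K m φ x e P Q H F hsit
  have hsurj := hSURJ G K m φ x e P Q H F hsit hmem
  have hA0 := hCARD G K m φ x e P Q H F hsit hmem hsurj
  rw [hnorm, hA0, hHcard] at hout
  have hq : 0 < 3 ^ (2 * m + 1) - 1 := by
    have : 1 < 3 ^ (2 * m + 1) := Nat.one_lt_pow (by omega) (by norm_num)
    omega
  exact Nat.eq_of_mul_eq_mul_right hq (by rw [hout, Nat.mul_comm])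

end Cfsg.Agent.Lib.Helper18.ReeOutTop
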