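import Cfsg.Agent.S1069
import Cfsg.Agent.S1155
import Cfsg.Agent.S1150
import Cfsg.Agent.S1114
import Cfsg.Agent.S1151
import Cfsg.Agent.S1101
import Cfsg.Agent.S1154
import Cfsg.Agent.S1073
import Cfsg.Agent.S1152
import Cfsg.Agent.S1157
import Cfsg.Agent.S2359
import Cfsg.Agent.S1156
import Cfsg.Agent.Lib.Helper36.ReeRep7
import Cfsg.Agent.Lib.Helper29.ReeSpNORM
import Cfsg.Agent.Lib.Helper42.ReeSpStmt

/-!
# The raw facts of `ReeSpStmt.Raw` for the small Ree group `²G₂(3^(2m+1))`, `m ≥ 1`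
(from the proved statements S1069, S1155, S1150, S1114, S1151, S1101, S1154, S1073, S1152, S1157,
S2359, S1156, the faithful 7-dimensional representation and the normalization of the positive
unipotent subgroup by the diagonal subgroup).
-/

set_option autoImplicit false

namespace Cfsg.Agent.Lib.Helper18.ReeRaw

/-- the raw facts for the real small Ree group -/
theorem raw_ree {K : Type*} [Field K] [Fintype K] {m : ℕ} (hm : 1 ≤ m)
    (hK : Fintype.card K = 3 ^ (2 * m + 1)) :
    Cfsg.Agent.Lib.Helper42.ReeSpStmt.Raw (Cfsg.Lie.twistedG2 K (3 ^ m))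
      (Cfsg.Lie.chevG2.diagonalSubgroup K) (Cfsg.Lie.chevG2.posUnipotent K) K m where
  hm := hm
  cardK := hK
  s1069 := Cfsg.Agent.S1069.result hK
  s1155 := fun P Q h => Cfsg.Agent.S1155.result hm hK P Q h
  s1150 := Cfsg.Agent.S1150.result hK
  s1114 := Cfsg.Agent.S1114.result hK
  s1151 := (Cfsg.Agent.S1151.result hK).2
  s1101 := (Cfsg.Agent.S1101.result hK).2
  s1154 := Cfsg.Agent.S1154.result hm hK
  s1073 := (Cfsg.Agent.S1073.result hm hK).1
  norm := fun h hh u hu => Cfsg.Agent.Lib.Helper29.ReeSpNORM.main K h hh.1 u hu.1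
  s1152 := fun a haH ha1 ha2 => Cfsg.Agent.S1152.result hK a haH ha1 ha2
  s1157 := fun S => Cfsg.Agent.S1157.result hm hK S
  s2359 := fun H hH => Cfsg.Agent.S2359.result hm hK H hH
  s1156 := fun p _ hp P => Cfsg.Agent.S1156.result hm hK hp P
  rep := Cfsg.Agent.Lib.Helper36.ReeRep7.faithful7 hm hK

end Cfsg.Agent.Lib.Helper18.ReeRaw
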