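import Cfsg.Agent.Lib.Helper18.Weyl
import Cfsg.Agent.Lib.Helper18.FTabE6
import Cfsg.Agent.Lib.Helper18.RTabE6

set_option autoImplicit false

namespace Cfsg.Agent.Lib.Helper18.WTabE6

open Cfsg Cfsg.Lie Cfsg.Agent.Lib.Helper18.Fast Cfsg.Agent.Lib.Helper18.Facts
  Cfsg.Agent.Lib.Helper18.AllRoots Cfsg.Agent.Lib.Helper18.Weyl Cfsg.Agent.Lib.Helper18.Loop

def wtab : ℕ := 0x4723114874421102823e9f8f4773c1d0e470371acd86734190c2622f170b25a2b150a2522712c9847249088a401e0fc74381a0dc6430160bc5426148884a200f07034160c85020130603c140604810040047231128a4320d08803f1ecf8783a9d8e470369b8d46832998c45f30170b4572c150a44f281208a4d2192c8c3e208f074361c8d0642e188b0502b1309040230f070301b0b0482a10070281a080201c04004722d188843210fe7d41200f4783b1cce870371a4ce6c35190c4602e978b4582a958984a2094ca248230fc7a4f22108703b1b0d06033170b05424110a44e200f0683a180b0501c0c098441408030080a00472310a8340a2910863f1f0f4783b1d0e272371b0d4633097cd06632170a450270ecb6592b93094482311084391b8d4aa401f0f0642a14098622f1689044200e07c34180b050241004018080f0682c040046a3914884321104803c9dcea7e3e1e8e470371b0d45b2c95ca450270ccd06632150c6612f9309448231108431178b4742a14098ba401f0f072371a89044200f07028120806c3217070301408030100003472311488431b8d86a34198c85a2c158a81f42a0d027f3e9ecc4602f170f2773a9cca4502713094482311084401f0f03a1b0c85c6430170b02a130883c1a0b388e870361a0a85026120884008030100400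

/-- The simple reflections of type E6. -/
noncomputable def X : WD := mkWD 72 wtab

/-- Raw cells of the chain table. -/
def raw (r s : ℕ) : ℕ := Nat.mod (Nat.shiftRight (FTabE6.rowT r) (Nat.mul 36 s)) 68719476736

theorem afacts : AFacts FTabE6.fd chevE6 := FTabE6.fd_eq ▸ RTabE6.afacts

set_option maxRecDepth 100000 in
theorem basic_0 : allB 72 (chkBasic FTabE6.fd X 0) = true := by decide +kernel

set_option maxRecDepth 100000 in
theorem chain_0 : allB 72 (chkChain FTabE6.fd X raw 0) = true := by decide +kernel

set_option maxRecDepth 100000 in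
theorem basic_1 : allB 72 (chkBasic FTabE6.fd X 1) = true := by decide +kernel

set_option maxRecDepth 100000 in
theorem chain_1 : allB 72 (chkChain FTabE6.fd X raw 1) = true := by decide +kernel

set_option maxRecDepth 100000 in
theorem basic_2 : allB 72 (chkBasic FTabE6.fd X 2) = true := by decide +kernel

set_option maxRecDepth 100000 in
theorem chain_2 : allB 72 (chkChain FTabE6.fd X raw 2) = true := by decide +kernel

set_option maxRecDepth 100000 in
theorem basic_3 : allB 72 (chkBasic FTabE6.fd X 3) = true := by decide +kernel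

set_option maxRecDepth 100000 in
theorem chain_3 : allB 72 (chkChain FTabE6.fd X raw 3) = true := by decide +kernel

set_option maxRecDepth 100000 in
theorem basic_4 : allB 72 (chkBasic FTabE6.fd X 4) = true := by decide +kernel

set_option maxRecDepth 100000 in
theorem chain_4 : allB 72 (chkChain FTabE6.fd X raw 4) = true := by decide +kernel

set_option maxRecDepth 100000 in
theorem basic_5 : allB 72 (chkBasic FTabE6.fd X 5) = true := by decide +kernel

set_option maxRecDepth 100000 in
theorem chain_5 : allB 72 (chkChain FTabE6.fd X raw 5) = true := by decide +kernel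

theorem basic : ∀ i < FTabE6.fd.rank, ∀ c < FTabE6.fd.n, chkBasic FTabE6.fd X i c = true := by
  intro i hi c hc
  have hi' : i < 6 := hi
  have hc' : c < 72 := hc
  interval_cases i
  · exact allB_imp basic_0 c hc
  · exact allB_imp basic_1 c hc
  · exact allB_imp basic_2 c hc
  · exact allB_imp basic_3 c hc
  · exact allB_imp basic_4 c hc
  · exact allB_imp basic_5 c hc

theorem chain : ∀ i < FTabE6.fd.rank, ∀ s < FTabE6.fd.n, chkChain FTabE6.fd X raw i s = true := by
  intro i hi s hs
  have hi' : i < 6 := hi
  have hs' : s < 72 := hs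
  interval_cases i
  · exact allB_imp chain_0 s hs
  · exact allB_imp chain_1 s hs
  · exact allB_imp chain_2 s hs
  · exact allB_imp chain_3 s hs
  · exact allB_imp chain_4 s hs
  · exact allB_imp chain_5 s hs

theorem wfacts : WFacts FTabE6.fd X :=
  WFacts.of_checks (fun _ _ => rfl) afacts.sfacts.simple_lt afacts.agrees.neg_lt afacts.sym.neg_ne
    basic chain

end Cfsg.Agent.Lib.Helper18.WTabE6
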