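import Cfsg.Agent.Lib.Helper18.Weyl
import Cfsg.Agent.Lib.Helper18.FTabF4
import Cfsg.Agent.Lib.Helper18.RTabF4

set_option autoImplicit false

namespace Cfsg.Agent.Lib.Helper18.WTabF4

open Cfsg Cfsg.Lie Cfsg.Agent.Lib.Helper18.Fast Cfsg.Agent.Lib.Helper18.Facts
  Cfsg.Agent.Lib.Helper18.AllRoots Cfsg.Agent.Lib.Helper18.Weyl Cfsg.Agent.Lib.Helper18.Loop

def wtab : ℕ := 0x2e978b4582b14ca8502712c98472411084401e8f8723a1b0cc682f188a85a281209c40230f07034160c8482a10070281a080301000032f16cb8582a958a45026938944822918843f200f074371c0c05a35158cc5c2614890441e10870301b0b050201307030100b030080a002f170ac592d150a44f281248e4c2510c88401a8cc7639148fc7a301708c4237138945a2b0f0683a14090642e0e0883014040382004002f170b451208fc7a5827934963a1c0d83a572a94c9247228d06430170b0541b0c85c1a0b0490c50261205426110308c421f078100400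

/-- The simple reflections of type F4. -/
noncomputable def X : WD := mkWD 48 wtab

/-- Raw cells of the chain table. -/
def raw (r s : ℕ) : ℕ := Nat.mod (Nat.shiftRight (FTabF4.rowT r) (Nat.mul 36 s)) 68719476736

theorem afacts : AFacts FTabF4.fd chevF4 := FTabF4.fd_eq ▸ RTabF4.afacts

set_option maxRecDepth 100000 in
theorem basic_0 : allB 48 (chkBasic FTabF4.fd X 0) = true := by decide +kernel

set_option maxRecDepth 100000 in
theorem chain_0 : allB 48 (chkChain FTabF4.fd X raw 0) = true := by decide +kernel

set_option maxRecDepth 100000 in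
theorem basic_1 : allB 48 (chkBasic FTabF4.fd X 1) = true := by decide +kernel

set_option maxRecDepth 100000 in
theorem chain_1 : allB 48 (chkChain FTabF4.fd X raw 1) = true := by decide +kernel

set_option maxRecDepth 100000 in
theorem basic_2 : allB 48 (chkBasic FTabF4.fd X 2) = true := by decide +kernel

set_option maxRecDepth 100000 in
theorem chain_2 : allB 48 (chkChain FTabF4.fd X raw 2) = true := by decide +kernel

set_option maxRecDepth 100000 in
theorem basic_3 : allB 48 (chkBasic FTabF4.fd X 3) = true := by decide +kernel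

set_option maxRecDepth 100000 in
theorem chain_3 : allB 48 (chkChain FTabF4.fd X raw 3) = true := by decide +kernel

theorem basic : ∀ i < FTabF4.fd.rank, ∀ c < FTabF4.fd.n, chkBasic FTabF4.fd X i c = true := by
  intro i hi c hc
  have hi' : i < 4 := hi
  have hc' : c < 48 := hc
  interval_cases i
  · exact allB_imp basic_0 c hc
  · exact allB_imp basic_1 c hc
  · exact allB_imp basic_2 c hc
  · exact allB_imp basic_3 c hc

theorem chain : ∀ i < FTabF4.fd.rank, ∀ s < FTabF4.fd.n, chkChain FTabF4.fd X raw i s = true := by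
  intro i hi s hs
  have hi' : i < 4 := hi
  have hs' : s < 48 := hs
  interval_cases i
  · exact allB_imp chain_0 s hs
  · exact allB_imp chain_1 s hs
  · exact allB_imp chain_2 s hs
  · exact allB_imp chain_3 s hs

theorem wfacts : WFacts FTabF4.fd X :=
  WFacts.of_checks (fun _ _ => rfl) afacts.sfacts.simple_lt afacts.agrees.neg_lt afacts.sym.neg_ne
    basic chain

end Cfsg.Agent.Lib.Helper18.WTabF4
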